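import Groth.Agent.Lib.GenT7.Algz
import Groth.Agent.Lib.LeffAmp7.Conclude
import Groth.Agent.Lib.PunctSec7.Lef
import Groth.Agent.Lib.FormalExist7.Vanish

/-!
# The effective Lefschetz condition on a punctured spectrum from depth three along the divisor
-/

set_option autoImplicit false
set_option linter.style.haveILetI false
set_option linter.unusedSectionVars false
universe u

open CategoryTheory CategoryTheory.Limits AlgebraicGeometry Opposite TopologicalSpace IsLocalRing

noncomputable section

namespace GrothLib.GenT7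

open GrothLib.FFormal7
open GrothLib.FormalFun (toStalk)
open GrothLib.QCoh (stalkLin)

variable {A : Type u} [CommRing A]

/-- The element on a stalk of an open of `Spec A` is its image in the localisation. -/
theorem exists_stalk_equiv (U : (Spec (CommRingCat.of A)).Opens) (x : (U : Scheme.{u})) :
    ∃ e : (U : Scheme.{u}).presheaf.stalk x ≃+* Localization.AtPrime x.1.asIdeal,
      ∀ a, e (toStalk A x a) = algebraMap A _ a := by
  let q : PrimeSpectrum A := x.1
  let O := (Spec (CommRingCat.of A)).presheaf.stalk x.1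
  letI : Algebra A O := StructureSheaf.stalkAlgebra (R := CommRingCat.of A) x.1
  haveI : IsLocalization.AtPrime O q.asIdeal := StructureSheaf.IsLocalization.to_stalk (R := CommRingCat.of A) x.1
  let σ : O ≃+* (U : Scheme.{u}).presheaf.stalk x := (asIso (U.ι.stalkMap x)).commRingCatIsoToRingEquiv
  let f : O ≃ₐ[A] Localization.AtPrime q.asIdeal := IsLocalization.algEquiv q.asIdeal.primeCompl _ _
  refine ⟨σ.symm.trans f.toRingEquiv, fun a => ?_⟩
  have h : σ (algebraMap A O a) = toStalk A x a := by
    show (U.ι.stalkMap x) ((Spec (CommRingCat.of A)).presheaf.germ ⊤ x.1 trivial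
      ((Scheme.ΓSpecIso (CommRingCat.of A)).inv a)) = _
    exact Scheme.Hom.germ_stalkMap_apply U.ι ⊤ x trivial _
  rw [← h]
  show f (σ.symm (σ (algebraMap A O a))) = _
  rw [RingEquiv.symm_apply_apply]
  exact f.commutes a

variable [IsNoetherianRing A] (I : Ideal A) (t : A)

set_option quotPrecheck false
local notation "UU" => LocCoh.puncturedOpen A I

theorem toStalk_regular (ht : IsSMulRegular A t) (x : (LocCoh.puncturedOpen A I : Scheme.{u}))
    (c : (LocCoh.puncturedOpen A I : Scheme.{u}).presheaf.stalk x) (hc : c * toStalk A x t = 0) : c = 0 := by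
  obtain ⟨e, he⟩ := exists_stalk_equiv (LocCoh.puncturedOpen A I) x
  have h1 : e c * algebraMap A _ t = 0 := by rw [← he, ← map_mul, hc, map_zero]
  have h2 : algebraMap A (Localization.AtPrime x.1.asIdeal) t ∈ nonZeroDivisors _ :=
    IsLocalization.nonZeroDivisors_le_comap x.1.asIdeal.primeCompl (Localization.AtPrime x.1.asIdeal)
      (mem_nonZeroDivisors_iff_right.2 fun y hy => ht (by simpa [mul_comm] using hy))
  exact e.injective (((mem_nonZeroDivisors_iff_right.1 h2) _ h1).trans (map_zero e).symm)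

theorem depth_stalk_open (x : (LocCoh.puncturedOpen A I : Scheme.{u})) :
    LocCoh.depth ((LocCoh.puncturedOpen A I : Scheme.{u}).presheaf.stalk x)
      ((LocCoh.puncturedOpen A I : Scheme.{u}).presheaf.stalk x) =
      LocCoh.depth (Localization.AtPrime x.1.asIdeal) (Localization.AtPrime x.1.asIdeal) := by
  obtain ⟨e, -⟩ := exists_stalk_equiv (LocCoh.puncturedOpen A I) x
  unfold LocCoh.depth
  refine (FiniteQuot.idealDepth_congr e e.toAddEquiv (fun a b => map_mul e a b) (maximalIdeal _)).trans ?_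
  congr 1
  exact IsLocalRing.eq_maximalIdeal (Ideal.map_isMaximal_of_equiv e)

/-- The ideal of `(t)` on the open. -/
abbrev tIdeal : (LocCoh.puncturedOpen A I : Scheme.{u}).IdealSheafData :=
  baseIdeal (Ideal.span ({t} : Set A)) (LocCoh.puncturedOpen A I : Scheme.{u})

/-- The local rings of the levels. -/
theorem exists_level_stalk (N : ℕ) (y : lev (Ideal.span ({t} : Set A)) (LocCoh.puncturedOpen A I : Scheme.{u}) N) :
    let x := levι (Ideal.span ({t} : Set A)) (LocCoh.puncturedOpen A I : Scheme.{u}) N y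
    ∃ σ : (LocCoh.puncturedOpen A I : Scheme.{u}).presheaf.stalk x →+*
        (lev (Ideal.span ({t} : Set A)) (LocCoh.puncturedOpen A I : Scheme.{u}) N).presheaf.stalk y,
      Function.Surjective σ ∧ RingHom.ker σ = Ideal.span {toStalk A x t ^ (N + 1)} ∧
        ∀ a, σ (toStalk A x a) = toStalk A y a := by
  intro x
  let J := Ideal.span ({t} : Set A)
  let ι := levι J (LocCoh.puncturedOpen A I : Scheme.{u}) N
  refine ⟨(ι.stalkMap y).hom, ι.stalkMap_surjective y, ?_, fun a => ?_⟩
  · refine (FormalFun.ker_stalkMap_level (tIdeal I t) N y).trans ?_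
    refine (congrArg (· ^ (N + 1)) (show CartierDescent.stalkIdeal (tIdeal I t) x = J.map (toStalk A x) from
      FormalExist7.stalkIdeal_baseIdeal J x)).trans ?_
    dsimp only
    rw [Ideal.map_span, Set.image_singleton, Ideal.span_singleton_pow]
  · exact Scheme.Hom.germ_stalkMap_apply ι ⊤ y trivial _

theorem exact_smul_level (ht : IsSMulRegular A t) (N : ℕ) (hN : 1 ≤ N)
    (F : (lev (Ideal.span ({t} : Set A)) (LocCoh.puncturedOpen A I : Scheme.{u}) N).Modules)
    (hF : FlatMod.IsFinLocFree F)
    (w : Formal.smulMod A F t ≫ Formal.smulMod A F (t ^ N) = 0) :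
    (ShortComplex.mk (Formal.smulMod A F t) (Formal.smulMod A F (t ^ N)) w).Exact := by
  refine (OX.exact_iff _).2 fun y => ?_
  rw [ShortComplex.moduleCat_exact_iff]
  intro v hv
  have hv' : toStalk A y t ^ N • (show F.presheaf.stalk y from v) = 0 := by
    have := FormalFun.stalkLin_smulMod F (t ^ N) y v
    rw [map_pow] at this
    exact this.symm.trans hv
  obtain ⟨σ, hσ, hker, hσt⟩ := exists_level_stalk I t N y
  obtain ⟨D, n, e, hy, he⟩ := FinCov.exists_frame_nhd hF y
  obtain ⟨bas⟩ := Euler.stalk_basis_of_frame he hy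
  let x := levι (Ideal.span ({t} : Set A)) (LocCoh.puncturedOpen A I : Scheme.{u}) N y
  have hc : ∀ j, ∃ d, bas.repr v j = toStalk A y t * d := fun j => by
    have h1 : toStalk A y t ^ N * bas.repr v j = 0 := by
      have := congrArg (fun w => bas.repr w j) hv'
      simpa [Finsupp.smul_apply] using this
    obtain ⟨a, ha⟩ := hσ (bas.repr v j)
    have h2 : toStalk A x t ^ N * a ∈ RingHom.ker σ := by
      rw [RingHom.mem_ker, map_mul, map_pow, hσt, ha, h1]
    rw [hker, Ideal.mem_span_singleton'] at h2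
    obtain ⟨d, hd⟩ := h2
    have hreg : ∀ k (c : (LocCoh.puncturedOpen A I : Scheme.{u}).presheaf.stalk x),
        c * toStalk A x t ^ k = 0 → c = 0 := fun k => by
      induction k with
      | zero => intro c hc; simpa using hc
      | succ k ih =>
        intro c hc
        exact ih c (toStalk_regular I t ht x _ (by rw [mul_assoc, ← pow_succ]; exact hc))
    have h3 : a = d * toStalk A x t := sub_eq_zero.1 (hreg N _ (by linear_combination -hd))
    exact ⟨σ d, by rw [← ha, h3, map_mul, hσt, mul_comm]⟩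
  choose d hd using hc
  refine ⟨∑ j, d j • bas j, ?_⟩
  show stalkLin (Formal.smulMod A F t) y (∑ j, d j • bas j) = v
  rw [map_sum]
  refine (Finset.sum_congr rfl fun j _ => ?_).trans (bas.sum_repr v)
  refine (FormalFun.stalkLin_smulMod F t y _).trans ?_
  rw [hd j]
  exact smul_smul _ _ _

/-- On a level `t ^ N` and `t` have complementary kernels and images. -/
theorem kernel_eq_image_level (ht : IsSMulRegular A t) (N : ℕ) (hN : 1 ≤ N)
    (F : (lev (Ideal.span ({t} : Set A)) (LocCoh.puncturedOpen A I : Scheme.{u}) N).Modules)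
    (hF : FlatMod.IsFinLocFree F) :
    kernelSubobject (Formal.smulMod A F (t ^ N)) = imageSubobject (Formal.smulMod A F t) := by
  have w : Formal.smulMod A F t ≫ Formal.smulMod A F (t ^ N) = 0 := by
    rw [← FormalSys.smulMod_mul, ← pow_succ]
    refine Scheme.Modules.hom_ext _ _ fun U => ?_
    ext m
    refine (Coh.smulAb_app _ _ (op U) m).trans ?_
    exact (congrArg (fun z : Γ(lev (Ideal.span ({t} : Set A)) (LocCoh.puncturedOpen A I : Scheme.{u}) N, U) =>
      z • (show Γ(F, U) from m))
      (UnifVanish7.toSec_eq_zero (isAdicSys_lev (Ideal.span ({t} : Set A)) (LocCoh.puncturedOpen A I : Scheme.{u})) N U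
        (Ideal.pow_mem_pow (Ideal.mem_span_singleton_self t) (N + 1)))).trans (zero_smul _ _)
  exact ((ShortComplex.exact_iff_image_eq_kernel _).1 (exact_smul_level I t ht N hN F hF w)).symm

/-- The depth of the local rings of the divisor. -/
theorem depth_level_zero_stalk (ht : IsSMulRegular A t)
    (y : lev (Ideal.span ({t} : Set A)) (LocCoh.puncturedOpen A I : Scheme.{u}) 0)
    (h3 : (3 : ℕ∞) ≤ LocCoh.depth
      (Localization.AtPrime (levι (Ideal.span ({t} : Set A)) (LocCoh.puncturedOpen A I : Scheme.{u}) 0 y).1.asIdeal)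
      (Localization.AtPrime (levι (Ideal.span ({t} : Set A)) (LocCoh.puncturedOpen A I : Scheme.{u}) 0 y).1.asIdeal)) :
    (2 : ℕ∞) ≤ LocCoh.depth ((lev (Ideal.span ({t} : Set A)) (LocCoh.puncturedOpen A I : Scheme.{u}) 0).presheaf.stalk y)
      ((lev (Ideal.span ({t} : Set A)) (LocCoh.puncturedOpen A I : Scheme.{u}) 0).presheaf.stalk y) := by
  haveI : IsLocallyNoetherian (LocCoh.puncturedOpen A I : Scheme.{u}) :=
    isLocallyNoetherian_of_isOpenImmersion (LocCoh.puncturedOpen A I).ι
  let Z := lev (Ideal.span ({t} : Set A)) (LocCoh.puncturedOpen A I : Scheme.{u}) 0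
  haveI : IsLocallyNoetherian Z := LocallyOfFiniteType.isLocallyNoetherian
    (levι (Ideal.span ({t} : Set A)) (LocCoh.puncturedOpen A I : Scheme.{u}) 0)
  let x := levι (Ideal.span ({t} : Set A)) (LocCoh.puncturedOpen A I : Scheme.{u}) 0 y
  let S := (LocCoh.puncturedOpen A I : Scheme.{u}).presheaf.stalk x
  let B := Z.presheaf.stalk y
  obtain ⟨σ, hσ, hker, hσt⟩ := exists_level_stalk I t 0 y
  let b : S := toStalk A x t
  have hb : b ∈ maximalIdeal S := by
    by_contra hc
    have hu : IsUnit b := by simpa using hc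
    haveI : Nontrivial B := inferInstance
    have h0 : σ b = 0 := by
      rw [← RingHom.mem_ker, hker, zero_add, pow_one]
      exact Ideal.mem_span_singleton_self _
    exact not_isUnit_zero (h0 ▸ hu.map σ)
  have hreg : IsSMulRegular S b := isSMulRegular_iff_right_eq_zero_of_smul.2 fun c hc =>
    toStalk_regular I t ht x c (by rw [mul_comm]; exact hc)
  letI : Algebra S B := σ.toAlgebra
  have h1 := Depth.idealDepth_quotSMulTop_add_one (M := S) (maximalIdeal S) hb hreg
  let e : QuotSMulTop b S ≃ₗ[S] B := LinearEquiv.ofBijective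
    (Submodule.liftQ _ (Algebra.linearMap S B) (by
      intro z hz
      rw [← Submodule.ideal_span_singleton_smul, smul_eq_mul, Ideal.mul_top] at hz
      show σ z = 0
      rw [← RingHom.mem_ker, hker, zero_add, pow_one]
      exact hz))
    ⟨(injective_iff_map_eq_zero _).2 fun q hq => by
      obtain ⟨z, rfl⟩ := Submodule.Quotient.mk_surjective _ q
      refine (Submodule.Quotient.mk_eq_zero _).2 ?_
      rw [← Submodule.ideal_span_singleton_smul, smul_eq_mul, Ideal.mul_top]
      have : z ∈ RingHom.ker σ := hq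
      rwa [hker, zero_add, pow_one] at this,
     fun z => by obtain ⟨w, hw⟩ := hσ z; exact ⟨Submodule.Quotient.mk w, hw⟩⟩
  haveI : Module.Finite S B := Module.Finite.equiv e
  rw [Depth.idealDepth_eq_of_equiv _ e] at h1
  have h2 : LocCoh.depth S B = LocCoh.depth B B := Faltings.depth_eq_of_surjective hσ B
  rw [← depth_stalk_open] at h3
  change LocCoh.depth S B + 1 = LocCoh.depth S S at h1
  rw [← h1, h2] at h3
  exact (WithTop.add_le_add_iff_right (z := (1 : ℕ∞)) (by decide)).1 (le_trans (le_of_eq (show (2 : ℕ∞) + 1 = 3 from rfl)) h3)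

/-- A coherent module whose completion is levelwise locally free gives a bundle on a neighbourhood. -/
theorem exists_nhd_bundle {X : Scheme.{u}} [IsLocallyNoetherian X] (𝓘 : X.IdealSheafData)
    (𝔐 : FSch.ModSys (FSch.completionAlong X 𝓘)) (h𝔐 : LefX.LevelwiseFinLocFree 𝔐)
    {F : X.Modules} (hF : Coh.IsCoh F) (e : FSch.completionMod 𝓘 F ≅ 𝔐) :
    ∃ (U : X.Opens) (E : (U : Scheme.{u}).Modules), (𝓘.support : Set X) ⊆ (U : Set X) ∧
      FlatMod.IsFinLocFree E ∧ Nonempty (FSch.completionMod 𝓘 ((Scheme.Modules.pushforward U.ι).obj E) ≅ 𝔐) := by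
  have hlev : ∀ n, FlatMod.IsFinLocFree ((Scheme.Modules.pullback (𝓘 ^ (n + 1)).subschemeι).obj F) := fun n =>
    HilbDesc10.isFinLocFree_congr
      ⟨e.inv.app n, e.hom.app n, congrArg (fun k => FSch.ModSys.Hom.app k n) e.inv_hom_id,
        congrArg (fun k => FSch.ModSys.Hom.app k n) e.hom_inv_id⟩ (h𝔐 n)
  let U : X.Opens := ⟨_, Ref1.isOpen_free (HomSh.hasRel_of_isCoh hF)⟩
  have hU : (𝓘.support : Set X) ⊆ (U : Set X) := fun y hy => LeffAmp7.free_stalk_of_levels hF 𝓘 hlev hy
  refine ⟨U, (Scheme.Modules.pullback U.ι).obj F, hU, ?_, ?_⟩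
  · exact HilbDesc10.isFinLocFree_congr ((Scheme.Modules.restrictFunctorIsoPullback U.ι).app F)
      (Ref1.isFinLocFree_restrict_of_free (HomSh.hasRel_of_isCoh hF) U fun x hx => hx)
  · obtain ⟨e'⟩ := LeffAmp7.nonempty_completion_iso_push 𝓘 U hU F
    exact ⟨e' ≪≫ e⟩

theorem relCodim_closed [IsLocalRing A]
    (y : lev (Ideal.span ({t} : Set A)) (LocCoh.puncturedOpen A (maximalIdeal A) : Scheme.{u}) 0)
    (hy : SGA2.relCodim (maximalIdeal A)
      (levι (Ideal.span ({t} : Set A)) (LocCoh.puncturedOpen A (maximalIdeal A) : Scheme.{u}) 0 y).1 = 1) :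
    ringKrullDim (A ⧸ (levι (Ideal.span ({t} : Set A))
      (LocCoh.puncturedOpen A (maximalIdeal A) : Scheme.{u}) 0 y).1.asIdeal) = 1 := by
  let x := levι (Ideal.span ({t} : Set A)) (LocCoh.puncturedOpen A (maximalIdeal A) : Scheme.{u}) 0 y
  have hxm : x.1.asIdeal ≠ maximalIdeal A := fun h => x.2 (show (maximalIdeal A : Set A) ⊆ x.1.asIdeal from fun a ha => h.ge ha)
  obtain ⟨d, hd, hh⟩ := PunctSec7.dim_quotient_eq x.1.asIdeal
  let q₀ : PrimeSpectrum A := x.1
  have hle : q₀ ≤ closedPoint A := le_maximalIdeal q₀.isPrime.ne_top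
  have h1 : SGA2.relCodim (maximalIdeal A) q₀ = (d : ℕ∞) := by
    refine Eq.trans ?_ ((height_map_eq q₀ (closedPoint A) hle).symm.trans hh)
    refine le_antisymm (iInf_le_of_le ⟨closedPoint A, hle, le_rfl⟩ le_rfl) (le_iInf fun q => ?_)
    have hq : q.1 = closedPoint A :=
      PrimeSpectrum.ext (((maximalIdeal.isMaximal A).eq_of_le q.1.isPrime.ne_top q.2.2).symm)
    exact le_of_eq (congrArg Order.height (Subtype.ext hq.symm))
  replace hy : (d : ℕ∞) = 1 := h1.symm.trans hy
  rw [hd]
  exact_mod_cast hy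

end GrothLib.GenT7
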