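import Groth.Agent.Lib.Faltings.LowerBound
import Groth.Agent.Lib.Faltings.Finite
import Groth.Agent.S11650
import Groth.Prelude.Def_SGA2

/-!
# The bound on depths from the points of relative codimension one
-/

set_option autoImplicit false
set_option linter.style.haveILetI false

universe u

open IsLocalRing

noncomputable section

namespace GrothLib.GenT7

variable {A : Type u} [CommRing A]

theorem height_map_eq (p r : PrimeSpectrum A) (hpr : p ≤ r) :
    (r.asIdeal.map (Ideal.Quotient.mk p.asIdeal)).height = Order.height (⟨r, hpr⟩ : Set.Ici p) := by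
  haveI := Ideal.map_isPrime_of_surjective (f := Ideal.Quotient.mk p.asIdeal) Ideal.Quotient.mk_surjective
    (show RingHom.ker (Ideal.Quotient.mk p.asIdeal) ≤ r.asIdeal by rw [Ideal.mk_ker]; exact hpr)
  let Q : PrimeSpectrum (A ⧸ p.asIdeal) := ⟨r.asIdeal.map (Ideal.Quotient.mk p.asIdeal), inferInstance⟩
  let e : PrimeSpectrum (A ⧸ p.asIdeal) ≃o Set.Ici p :=
    p.asIdeal.primeSpectrumQuotientOrderIsoZeroLocus.trans
      (OrderIso.setCongr _ _ (Set.ext fun q => (PrimeSpectrum.mem_zeroLocus _ _).trans Iff.rfl))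
  have he : e Q = ⟨r, hpr⟩ := by
    refine Subtype.ext (PrimeSpectrum.ext ?_)
    show Ideal.comap (Ideal.Quotient.mk p.asIdeal) (r.asIdeal.map (Ideal.Quotient.mk p.asIdeal)) = r.asIdeal
    rw [Ideal.comap_map_of_surjective' _ Ideal.Quotient.mk_surjective, Ideal.mk_ker, sup_eq_left]
    exact hpr
  rw [← he, Order.height_orderIso]
  exact PrimeSpectrum.height_eq_orderHeight Q

variable (I : Ideal A) [IsNoetherianRing A]

/-- Below a minimal point of `V(p + I)` there is a point of relative codimension one, one step down. -/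
theorem exists_codim_one {p r : PrimeSpectrum A} (hpr : p ≤ r) (hIr : I ≤ r.asIdeal) (hIp : ¬ I ≤ p.asIdeal)
    (hmin : ∀ q : PrimeSpectrum A, p ≤ q → q < r → ¬ I ≤ q.asIdeal) :
    ∃ (q : PrimeSpectrum A) (hpq : p ≤ q), SGA2.relCodim I q = 1 ∧ ¬ I ≤ q.asIdeal ∧
      Order.height (⟨q, hpq⟩ : Set.Ici p) + 1 ≤ Order.height (⟨r, hpr⟩ : Set.Ici p) := by
  have hfin : Order.height (⟨r, hpr⟩ : Set.Ici p) ≠ ⊤ := by
    rw [← height_map_eq p r hpr]
    haveI := Ideal.map_isPrime_of_surjective (f := Ideal.Quotient.mk p.asIdeal) Ideal.Quotient.mk_surjective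
      (show RingHom.ker (Ideal.Quotient.mk p.asIdeal) ≤ r.asIdeal by rw [Ideal.mk_ker]; exact hpr)
    exact Ideal.height_ne_top (Ideal.IsPrime.ne_top inferInstance)
  obtain ⟨h, hh⟩ := ENat.ne_top_iff_exists.1 hfin
  have hlt : p < r := lt_of_le_of_ne hpr fun e => hIp (e ▸ hIr)
  obtain ⟨l, hlast, hlen⟩ := Order.exists_series_of_height_eq_coe (⟨r, hpr⟩ : Set.Ici p) hh.symm
  have hpos : 0 < h := by
    have h1 : (1 : ℕ∞) ≤ Order.height (⟨r, hpr⟩ : Set.Ici p) := Order.one_le_iff_pos.2 (pos_iff_ne_zero.2 fun h0 => by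
      have hm := Order.height_eq_zero.1 h0
      exact hlt.not_ge (hm (b := (⟨p, Set.self_mem_Ici⟩ : Set.Ici p)) hpr))
    rw [← hh] at h1
    exact_mod_cast h1
  let i : Fin (l.length + 1) := ⟨h - 1, by omega⟩
  let q : Set.Ici p := l i
  have hqr : q.1 < r := by
    have : l i < l.last := l.strictMono (show i < Fin.last l.length by simp [i, Fin.lt_def]; omega)
    rw [hlast] at this
    exact this
  have hq1 : ((h - 1 : ℕ) : ℕ∞) ≤ Order.height q := by
    have := Order.index_le_height l i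
    exact this
  refine ⟨q.1, q.2, ?_, hmin q.1 q.2 hqr, ?_⟩
  · refine le_antisymm ?_ ?_
    · refine (iInf_le _ (⟨r, hqr.le, hIr⟩ : {z : PrimeSpectrum A // q.1 ≤ z ∧ I ≤ z.asIdeal})).trans ?_
      by_contra hc
      obtain ⟨y, hy, hy1⟩ := Order.coe_lt_height_iff (by
        rw [← height_map_eq q.1 r hqr.le]
        haveI := Ideal.map_isPrime_of_surjective (f := Ideal.Quotient.mk q.1.asIdeal) Ideal.Quotient.mk_surjective
          (show RingHom.ker (Ideal.Quotient.mk q.1.asIdeal) ≤ r.asIdeal by rw [Ideal.mk_ker]; exact hqr.le)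
        exact lt_top_iff_ne_top.2 (Ideal.height_ne_top (Ideal.IsPrime.ne_top inferInstance))) |>.1
        (not_le.1 hc : ((1 : ℕ) : ℕ∞) < _)
      have hqy : q.1 < y.1 := by
        refine lt_of_le_of_ne y.2 fun e => ?_
        have hm : Order.height y = 0 := Order.height_eq_zero.2 fun b hb => by
          show y.1 ≤ b.1
          exact e ▸ b.2
        rw [hm] at hy1
        exact zero_ne_one (α := ℕ∞) (by exact_mod_cast hy1)
      let y' : Set.Ici p := ⟨y.1, Set.mem_Ici.2 (le_trans (Set.mem_Ici.1 q.2) (Set.mem_Ici.1 y.2))⟩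
      have hyr : y' < ⟨r, hpr⟩ := hy
      have hy'fin : Order.height y' < ⊤ :=
        lt_of_le_of_lt (Order.height_mono hyr.le) (lt_top_iff_ne_top.2 hfin)
      have h2 : Order.height y' < Order.height (⟨r, hpr⟩ : Set.Ici p) :=
        Order.height_strictMono hyr hy'fin
      have h3 : Order.height q < Order.height y' := Order.height_strictMono hqy
        (lt_of_le_of_lt (Order.height_mono (show q ≤ y' from y.2)) hy'fin)
      rw [← hh] at h2
      obtain ⟨a, ha⟩ := ENat.ne_top_iff_exists.1 hy'fin.ne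
      obtain ⟨b, hb⟩ := ENat.ne_top_iff_exists.1 (lt_of_lt_of_le h3 le_top).ne
      rw [← ha] at h2 h3
      rw [← hb] at h3 hq1
      have : a < h ∧ b < a ∧ h - 1 ≤ b := ⟨by exact_mod_cast h2, by exact_mod_cast h3, by exact_mod_cast hq1⟩
      omega
    · refine le_iInf fun s => ?_
      refine Order.one_le_iff_pos.2 (pos_iff_ne_zero.2 fun h0 => hmin q.1 q.2 hqr ?_)
      exact le_trans s.2.2 ((Order.height_eq_zero.1 h0) (b := (⟨q.1, Set.self_mem_Ici⟩ : Set.Ici q.1)) s.2.1)
  · exact Order.height_add_one_le hqr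

/-- The adjusted depth is large if the depth is large at the points of relative codimension one. -/
theorem le_adjDepth (N : Type u) [AddCommGroup N] [Module A N] [Module.Finite A N] (n : ℕ)
    (hdepth : ∀ q : PrimeSpectrum A, ¬ I ≤ q.asIdeal → SGA2.relCodim I q = 1 →
      ((n + 1 : ℕ) : ℕ∞) ≤ LocCoh.depth (Localization.AtPrime q.asIdeal) (LocalizedModule q.asIdeal.primeCompl N))
    (p : PrimeSpectrum A) (hp : ¬ I ≤ p.asIdeal) : ((n + 2 : ℕ) : ℕ∞) ≤ LocCoh.adjDepth I N p := by
  rw [LocCoh.adjDepth, Ideal.height_eq_inf_minimalPrimes]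
  rw [ENat.add_iInf₂]
  refine le_iInf₂ fun Q hQ => ?_
  haveI := hQ.isPrime
  let r : PrimeSpectrum A := PrimeSpectrum.comap (Ideal.Quotient.mk p.asIdeal) ⟨Q, hQ.isPrime⟩
  have hle : ((I ⊔ p.asIdeal).map (Ideal.Quotient.mk p.asIdeal)) ≤ Q := hQ.le
  have hIr : I ⊔ p.asIdeal ≤ r.asIdeal := Ideal.map_le_iff_le_comap.1 hle
  have hpr : p ≤ r := le_sup_right.trans hIr
  have hQr : r.asIdeal.map (Ideal.Quotient.mk p.asIdeal) = Q :=
    Ideal.map_comap_of_surjective _ Ideal.Quotient.mk_surjective Q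
  have hmin : ∀ q : PrimeSpectrum A, p ≤ q → q < r → ¬ I ≤ q.asIdeal := fun q hpq hqr hIq => by
    haveI := Ideal.map_isPrime_of_surjective (f := Ideal.Quotient.mk p.asIdeal) Ideal.Quotient.mk_surjective
      (show RingHom.ker (Ideal.Quotient.mk p.asIdeal) ≤ q.asIdeal by rw [Ideal.mk_ker]; exact hpq)
    have h1 : q.asIdeal.map (Ideal.Quotient.mk p.asIdeal) ≤ Q := hQr ▸ Ideal.map_mono hqr.le
    have h2 := hQ.2 ⟨inferInstance, Ideal.map_mono (sup_le hIq hpq)⟩ h1
    refine hqr.not_ge (show r.asIdeal ≤ q.asIdeal from ?_)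
    have h3 := Ideal.comap_mono (f := Ideal.Quotient.mk p.asIdeal) h2
    rw [Ideal.comap_map_of_surjective' _ Ideal.Quotient.mk_surjective, Ideal.mk_ker,
      sup_eq_left.2 (show p.asIdeal ≤ q.asIdeal from hpq)] at h3
    exact h3
  obtain ⟨q, hpq, hq1, hIq, hh⟩ := exists_codim_one I hpr (le_sup_left.trans hIr) hp hmin
  rw [← height_map_eq p r hpr, ← height_map_eq p q hpq, hQr] at hh
  calc ((n + 2 : ℕ) : ℕ∞) = ((n + 1 : ℕ) : ℕ∞) + 1 := by push_cast; ring
    _ ≤ LocCoh.depth _ (LocalizedModule q.asIdeal.primeCompl N) + 1 := add_le_add_left (hdepth q hIq hq1) _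
    _ ≤ (LocCoh.depth _ (LocalizedModule p.asIdeal.primeCompl N) + (q.asIdeal.map (Ideal.Quotient.mk p.asIdeal)).height) + 1 :=
        add_le_add_left (Groth.Agent.S11650.result A N p.asIdeal q.asIdeal hpq) _
    _ ≤ _ := by rw [add_assoc]; exact add_le_add_right hh _

/-- Finiteness of the local cohomology in the range given by the depths. -/
theorem finite_H {R : Type u} [CommRing R] [IsRegularRing R] (π : R →+* A) (hπ : Function.Surjective π)
    (N : Type u) [AddCommGroup N] [Module A N] [Module.Finite A N] (n : ℕ)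
    (hdepth : ∀ q : PrimeSpectrum A, ¬ I ≤ q.asIdeal → SGA2.relCodim I q = 1 →
      ((n + 1 : ℕ) : ℕ∞) ≤ LocCoh.depth (Localization.AtPrime q.asIdeal) (LocalizedModule q.asIdeal.primeCompl N))
    (i : ℕ) (hi : i < n + 2) : Module.Finite A (LocCoh.H I i N) := by
  have h : ((n + 2 : ℕ) : ℕ∞) ≤ LocCoh.finDimRel I I N :=
    le_trans (le_iInf₂ fun p hp => le_adjDepth I N n hdepth p hp) (Faltings.minAdjDepth_le_finDimRel π hπ _ _ N)
  exact Faltings.finite_of_killed (I := I) i N fun j hj x hx =>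
    (Faltings.le_finDimRel_iff (n + 2)).1 h j (lt_of_le_of_lt hj hi) x hx

end GrothLib.GenT7
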