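import Groth.Agent.Lib.GenT7.Lim
import Groth.Agent.Lib.PuncSys7.Main
import Groth.Agent.Lib.PunctSec7.Higher
import Groth.Agent.Lib.ProjCoh.Generic

/-!
# Regular formal systems on a punctured spectrum with finite `H⁰` and `H¹` at level zero are completions
-/

set_option autoImplicit false
set_option linter.style.haveILetI false
set_option linter.unusedSectionVars false

universe u

open CategoryTheory CategoryTheory.Limits AlgebraicGeometry Opposite

noncomputable section

namespace GrothLib.GenT7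

open GrothLib.FormalSys GrothLib.Cohom GrothLib.FormalFun
open GrothLib.PuncSys7 (gsec gmap scounit)
open GrothLib.Punctured (puncFun)

variable {A : Type u} [CommRing A] [IsNoetherianRing A] {I : Ideal A}

set_option quotPrecheck false
local notation "UU" => LocCoh.puncturedOpen A I

/-- `H⁰` is the module of sections. -/
def secEquiv (P : (UU : Scheme.{u}).Modules) : Coh.HH (UU : Scheme.{u}) P 0 ≃ₗ[A] gsec P :=
  { ProjCoh.H0top P with
    map_smul' := fun a x => by
      refine (ProjCoh.H0top_map (Coh.smulAb P _) x).trans ?_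
      exact (Algz7.smul_sect_eq UU P a (ProjCoh.H0top P x)).symm }

theorem secEquiv_map {P Q : (UU : Scheme.{u}).Modules} (φ : P ⟶ Q) (x : Coh.HH (UU : Scheme.{u}) P 0) :
    secEquiv Q (hhMap A φ 0 x) = (gmap φ).hom (secEquiv P x) :=
  ProjCoh.H0top_map ((QCoh.toAbFun (UU : Scheme.{u})).map φ) x

/-- The quotient of a finite module given by a map to the sections, when the image is everything on the open. -/
theorem isQuot_model {L : Type u} [AddCommGroup L] [Module A L] {J : Ideal A} {P Q : (UU : Scheme.{u}).Modules}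
    [P.IsQuasicoherent] [Q.IsQuasicoherent] (p : L →ₗ[A] gsec P) (hp : ∀ z, p z = 0 ↔ z ∈ J • (⊤ : Submodule A L))
    (g : Q ⟶ P) [Epi g] (hg : ∀ x, (gmap g).hom x ∈ LinearMap.range p) :
    IsQuot J ((puncFun I).map (ModuleCat.ofHom p) ≫ scounit P) := by
  let N : Submodule A (gsec P) := LinearMap.range p
  haveI := PuncSys7.isIso_scounit P
  haveI := PuncSys7.isIso_scounit Q
  let k : gsec Q ⟶ ModuleCat.of A N := ModuleCat.ofHom (X := ↑(gsec Q)) (Y := ↥N) (LinearMap.codRestrict (M := ↑(gsec Q)) N (gmap g).hom hg)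
  haveI : Epi ((puncFun I).map (gmap g)) := by
    rw [show (puncFun I).map (gmap g) = (scounit Q ≫ g) ≫ inv (scounit P) by
      rw [IsIso.eq_comp_inv]; exact PuncSys7.scounit_naturality g]
    infer_instance
  haveI : Mono ((puncFun I).map (PuncSys7.incl N)) := by
    let i := PuncSys7.incl N
    haveI : Mono i := (ModuleCat.mono_iff_injective i).2 N.injective_subtype
    exact (Punctured.puncFun_shortExact I (ShortComplex.mk i (cokernel.π i) (cokernel.condition i))
      { exact := ShortComplex.exact_of_g_is_cokernel _ (cokernelIsCokernel i) }).mono_f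
  haveI : Epi ((puncFun I).map (PuncSys7.incl N)) := by
    haveI : Epi ((puncFun I).map k ≫ (puncFun I).map (PuncSys7.incl N)) := by
      rw [← Functor.map_comp, show k ≫ PuncSys7.incl N = gmap g from ModuleCat.hom_ext (LinearMap.ext fun _ => rfl)]
      infer_instance
    exact epi_of_epi ((puncFun I).map k) _
  haveI : IsIso ((puncFun I).map (PuncSys7.incl N)) := isIso_of_mono_of_epi _
  letI := Algz7.specOverSelf A
  let r : ModuleCat.of A L ⟶ ModuleCat.of A N := ModuleCat.ofHom p.rangeRestrict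
  have hr := exists_range_model p J hp
  have hq : IsQuot J ((puncFun I).map r) :=
    PunctSec7.isQuot_restrict (UU).ι rfl (Algz7.isQuot_tilde_map r hr.1 hr.2)
  have he : (puncFun I).map (ModuleCat.ofHom p) ≫ scounit P =
      (puncFun I).map r ≫ ((puncFun I).map (PuncSys7.incl N) ≫ scounit P) := by
    rw [← Category.assoc, ← Functor.map_comp]
    rfl
  rw [he]
  exact hq.comp_isIso _

/-- Compatible maps to the sections with the right kernels and images give a module with the given completion. -/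
theorem exists_module_of_model {L : Type u} [AddCommGroup L] [Module A L] [Module.Finite A L] {J : Ideal A}
    {G : ℕᵒᵖ ⥤ (UU : Scheme.{u}).Modules} (hG : Formal.IsCohFormal J G) (p : ∀ n, L →ₗ[A] gsec (gob G n))
    (hp : ∀ n z, p n z = 0 ↔ z ∈ J ^ (n + 1) • (⊤ : Submodule A L))
    (hlift : ∀ n, ∃ (m : ℕ) (h : n ≤ m), ∀ x, (gmap (gdn G h)).hom x ∈ LinearMap.range (p n))
    (hcomp : ∀ n z, (gmap (gdn G (Nat.le_succ n))).hom (p (n + 1) z) = p n z) :
    ∃ M : (UU : Scheme.{u}).Modules, Coh.IsCoh M ∧ Nonempty (Formal.completion J M ≅ G) := by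
  have hq : ∀ n, IsQuot (J ^ (n + 1)) ((puncFun I).map (ModuleCat.ofHom (p n)) ≫ scounit (gob G n)) := fun n => by
    obtain ⟨m, hm, hl⟩ := hlift n
    haveI := (hG.1 n).1
    haveI := (hG.1 m).1
    haveI : Epi (gdn G hm) := (isQuot_map hG hm).epi
    exact isQuot_model (p n) (hp n) (gdn G hm) hl
  refine ⟨(puncFun I).obj (ModuleCat.of A L), PunctSec7.isCoh_rT I L,
    FormalSys.exists_completion_iso _ hq fun n => ?_⟩
  show ((puncFun I).map (ModuleCat.ofHom (p (n + 1))) ≫ scounit (gob G (n + 1))) ≫ gdn G (Nat.le_succ n) = _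
  rw [Category.assoc, ← PuncSys7.scounit_naturality, ← Category.assoc, ← Functor.map_comp]
  congr 2
  exact ModuleCat.hom_ext (LinearMap.ext fun z => hcomp n z)

/-- The same, for maps into modules identified with the sections. -/
theorem exists_module_of_model' {L : Type u} [AddCommGroup L] [Module A L] [Module.Finite A L] {J : Ideal A}
    {G : ℕᵒᵖ ⥤ (UU : Scheme.{u}).Modules} (hG : Formal.IsCohFormal J G)
    {S : ℕ → Type u} [∀ n, AddCommGroup (S n)] [∀ n, Module A (S n)]
    (e : ∀ n, S n ≃ₗ[A] gsec (gob G n)) (d : ∀ {m n : ℕ}, n ≤ m → (S m →ₗ[A] S n))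
    (hd : ∀ {m n : ℕ} (h : n ≤ m) (y : S m), e n (d h y) = (gmap (gdn G h)).hom (e m y))
    (q : ∀ n, L →ₗ[A] S n) (hq : ∀ n z, q n z = 0 ↔ z ∈ J ^ (n + 1) • (⊤ : Submodule A L))
    (hlift : ∀ n, ∃ (m : ℕ) (h : n ≤ m), ∀ y, d h y ∈ LinearMap.range (q n))
    (hcomp : ∀ n z, d (Nat.le_succ n) (q (n + 1) z) = q n z) :
    ∃ M : (UU : Scheme.{u}).Modules, Coh.IsCoh M ∧ Nonempty (Formal.completion J M ≅ G) :=
  exists_module_of_model hG (fun n => (e n).toLinearMap.comp (q n))
    (fun n z => (LinearEquiv.map_eq_zero_iff (e n)).trans (hq n z))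
    (fun n => by
      obtain ⟨m, hm, hl⟩ := hlift n
      refine ⟨m, hm, fun x => ?_⟩
      obtain ⟨y, rfl⟩ := (e m).surjective x
      obtain ⟨z, hz⟩ := hl y
      exact ⟨z, (congrArg (e n) hz).trans (hd hm y)⟩)
    (fun n z => (hd (Nat.le_succ n) (q (n + 1) z)).symm.trans (congrArg (e n) (hcomp n z)))

/-- The same, for compatible families. -/
theorem exists_module_of_families {J : Ideal A} {G : ℕᵒᵖ ⥤ (UU : Scheme.{u}).Modules} (hG : Formal.IsCohFormal J G)
    {S : ℕ → Type u} [∀ n, AddCommGroup (S n)] [∀ n, Module A (S n)]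
    (e : ∀ n, S n ≃ₗ[A] gsec (gob G n)) (d : ∀ {m n : ℕ}, n ≤ m → (S m →ₗ[A] S n))
    (hd : ∀ {m n : ℕ} (h : n ≤ m) (y : S m), e n (d h y) = (gmap (gdn G h)).hom (e m y))
    (g : ∀ n, S (n + 1) →ₗ[A] S n) (hg : ∀ n y, d (Nat.le_succ n) y = g n y)
    (hfin : Module.Finite A (limSys g))
    (hq : ∀ n z, projSys g n z = 0 ↔ z ∈ J ^ (n + 1) • (⊤ : Submodule A (limSys g)))
    (hlift : ∀ n, ∃ (m : ℕ) (h : n ≤ m), ∀ y, d h y ∈ LinearMap.range (projSys g n)) :
    ∃ M : (UU : Scheme.{u}).Modules, Coh.IsCoh M ∧ Nonempty (Formal.completion J M ≅ G) :=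
  haveI := hfin
  exists_module_of_model' hG e (fun {m n} h => d h) (fun {m n} h y => hd h y) (projSys g) hq hlift
    (fun n z => (hg n _).trans (projSys_map g n z))

/-- A regular formal system with finite `H⁰` and `H¹` at level zero is a completion. -/
theorem exists_module_completion (t : A) [IsAdicComplete (Ideal.span ({t} : Set A)) A]
    (G : ℕᵒᵖ ⥤ (LocCoh.puncturedOpen A I : Scheme.{u}).Modules)
    (hG : Formal.IsCohFormal (Ideal.span ({t} : Set A)) G) (hreg : Reg t G)
    (h0 : Module.Finite A (Coh.HH (LocCoh.puncturedOpen A I : Scheme.{u}) (gob G 0) 0))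
    (h1 : Module.Finite A (Coh.HH (LocCoh.puncturedOpen A I : Scheme.{u}) (gob G 0) 1)) :
    ∃ M : (LocCoh.puncturedOpen A I : Scheme.{u}).Modules, Coh.IsCoh M ∧
      Nonempty (Formal.completion (Ideal.span ({t} : Set A)) M ≅ G) := by
  exact exists_module_of_families hG
    (S := fun n => Coh.HH (LocCoh.puncturedOpen A I : Scheme.{u}) (gob G n) 0)
    (fun n => secEquiv (A := A) (I := I) (gob G n)) (fun {m n} h => hhMap A (gdn G h) 0)
    (fun {m n} h y => secEquiv_map (A := A) (I := I) (gdn G h) y) (secDn (A := A) G) (fun n y => rfl)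
    (finite_limSec t G hG hreg h0) (proj_eq_zero_iff t G hG hreg) (exists_lift_family t G hG hreg h1)

end GrothLib.GenT7
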