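import Groth.Agent.Lib.GenT7.GenSec
import Groth.Agent.Lib.GenT7.Model

/-!
# Formal systems with graded finiteness on a punctured spectrum are completions
-/

set_option autoImplicit false
set_option linter.style.haveILetI false
set_option linter.unusedSectionVars false

universe u

open CategoryTheory CategoryTheory.Limits AlgebraicGeometry Opposite

noncomputable section

namespace GrothLib.GenT7.Gen

open GrothLib.FormalSys GrothLib.Cohom GrothLib.FormalFun
open GrothLib.PuncSys7 (gsec gmap scounit)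
open GrothLib.Punctured (puncFun)

variable {A : Type u} [CommRing A] [IsNoetherianRing A] {I : Ideal A}

set_option quotPrecheck false
local notation "UU" => LocCoh.puncturedOpen A I

/-- Generating sections model the module. -/
theorem isIso_range {P Q : (UU : Scheme.{u}).Modules} [P.IsQuasicoherent] [Q.IsQuasicoherent]
    (N : Submodule A (gsec P)) (g : Q ⟶ P) [Epi g] (hg : ∀ x, (gmap g).hom x ∈ N) :
    IsIso ((puncFun I).map (PuncSys7.incl N)) := by
  haveI := PuncSys7.isIso_scounit P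
  haveI := PuncSys7.isIso_scounit Q
  let k : gsec Q ⟶ ModuleCat.of A N :=
    ModuleCat.ofHom (X := ↑(gsec Q)) (Y := ↥N) (LinearMap.codRestrict (M := ↑(gsec Q)) N (gmap g).hom hg)
  haveI : Epi ((puncFun I).map (gmap g)) := by
    rw [show (puncFun I).map (gmap g) = (scounit Q ≫ g) ≫ inv (scounit P) by
      rw [IsIso.eq_comp_inv]; exact PuncSys7.scounit_naturality g]
    infer_instance
  haveI : Mono ((puncFun I).map (PuncSys7.incl N)) := by
    let i := PuncSys7.incl N
    haveI : Mono i := (ModuleCat.mono_iff_injective i).2 N.injective_subtype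
    exact (Punctured.puncFun_shortExact I (ShortComplex.mk i (cokernel.π i) (cokernel.condition i))
      { exact := ShortComplex.exact_of_g_is_cokernel _ (cokernelIsCokernel i) }).mono_f
  haveI : Epi ((puncFun I).map (PuncSys7.incl N)) := by
    haveI : Epi ((puncFun I).map k ≫ (puncFun I).map (PuncSys7.incl N)) := by
      rw [← Functor.map_comp, show k ≫ PuncSys7.incl N = gmap g from ModuleCat.hom_ext (LinearMap.ext fun _ => rfl)]
      infer_instance
    exact epi_of_epi ((puncFun I).map k) _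
  exact isIso_of_mono_of_epi _

/-- The quotient of a module model by a smaller ideal power. -/
theorem isQuot_of_model {L : Type u} [AddCommGroup L] [Module A L] {J' : Ideal A}
    {P Q P' : (UU : Scheme.{u}).Modules} [P.IsQuasicoherent] [Q.IsQuasicoherent] (p : L →ₗ[A] gsec P)
    (g : Q ⟶ P) [Epi g] (hg : ∀ x, (gmap g).hom x ∈ LinearMap.range p)
    (hker : LinearMap.ker p ≤ J' • (⊤ : Submodule A L)) (ρ : P ⟶ P') (hρ : IsQuot J' ρ) :
    IsQuot J' (((puncFun I).map (ModuleCat.ofHom p) ≫ scounit P) ≫ ρ) := by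
  let N : Submodule A (gsec P) := LinearMap.range p
  haveI := PuncSys7.isIso_scounit P
  haveI := isIso_range N g hg
  let r : ModuleCat.of A L ⟶ ModuleCat.of A N := ModuleCat.ofHom p.rangeRestrict
  let iso := (puncFun I).map (PuncSys7.incl N) ≫ scounit P
  have hfac : (puncFun I).map (ModuleCat.ofHom p) ≫ scounit P = (puncFun I).map r ≫ iso := by
    rw [← Category.assoc, ← Functor.map_comp]
    rfl
  letI := Algz7.specOverSelf A
  let q : L →ₗ[A] L ⧸ J' • (⊤ : Submodule A L) := (J' • (⊤ : Submodule A L)).mkQ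
  have hq : IsQuot J' ((puncFun I).map (ModuleCat.ofHom q)) :=
    PunctSec7.isQuot_restrict (UU).ι rfl (Algz7.isQuot_tilde_map (ModuleCat.ofHom q)
      (J' • (⊤ : Submodule A L)).mkQ_surjective (J' • (⊤ : Submodule A L)).ker_mkQ)
  let h : N →ₗ[A] L ⧸ J' • (⊤ : Submodule A L) :=
    ((LinearMap.ker p).mapQ (J' • (⊤ : Submodule A L)) LinearMap.id (hker.trans_eq (Submodule.comap_id _).symm)).comp p.quotKerEquivRange.symm.toLinearMap
  have hqr : r ≫ ModuleCat.ofHom (X := ↥N) h = ModuleCat.ofHom q := ModuleCat.hom_ext (LinearMap.ext fun z => by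
    show (LinearMap.ker p).mapQ _ LinearMap.id (hker.trans_eq (Submodule.comap_id _).symm)
      (p.quotKerEquivRange.symm (p.rangeRestrict z)) = _
    rw [show p.quotKerEquivRange.symm (p.rangeRestrict z) = Submodule.Quotient.mk z from
      p.quotKerEquivRange.injective (by
        rw [LinearEquiv.apply_symm_apply]; exact Subtype.ext (LinearMap.quotKerEquivRange_apply_mk p z).symm)]
    rfl)
  haveI : IsIso iso := inferInstanceAs (IsIso ((puncFun I).map (PuncSys7.incl N) ≫ scounit P))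
  haveI : Epi ((puncFun I).map r) := by
    have hr : Function.Surjective p.rangeRestrict := p.surjective_rangeRestrict
    haveI : Epi r := (ModuleCat.epi_iff_surjective r).2 hr
    exact (Punctured.puncFun_shortExact I (ShortComplex.mk (kernel.ι r) r (kernel.condition r))
      { exact := ShortComplex.exact_of_f_is_kernel _ (kernelIsKernel r) }).epi_g
  rw [hfac]
  haveI := hρ.epi
  refine IsQuot.mk' (fun a ha => ?_) ?_
  · rw [FormalSys.smulMod_naturality, hρ.killedBy a ha, comp_zero]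
  · obtain ⟨χ, hχ⟩ := hq.exists_desc' (cokernel.π (Formal.smulFamily J' ((puncFun I).obj (ModuleCat.of A L))))
      (IsQuot.cokernelπ J' _).killedBy
    obtain ⟨ψ, hψ⟩ := hρ.exists_desc' (inv iso ≫ (puncFun I).map (ModuleCat.ofHom (X := ↥N) h) ≫ χ)
      (IsQuot.cokernelπ J' _).killedBy
    refine ⟨ψ, ?_⟩
    rw [Category.assoc, hψ, Category.assoc, IsIso.hom_inv_id_assoc, ← Functor.map_comp_assoc, hqr, hχ]

/-- Maps to the sections inducing the adic topology give a model. -/
theorem exists_module_of_adic {L : Type u} [AddCommGroup L] [Module A L] [Module.Finite A L] {J : Ideal A}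
    {G : ℕᵒᵖ ⥤ (UU : Scheme.{u}).Modules} (hG : Formal.IsCohFormal J G) (p : ∀ n, L →ₗ[A] gsec (gob G n))
    (hcomp : ∀ {m n : ℕ} (h : n ≤ m) z, (gmap (gdn G h)).hom (p m z) = p n z)
    (htop : ∃ R, ∀ k, LinearMap.ker (p (R + k)) ≤ J ^ k • (⊤ : Submodule A L))
    (hlift : ∃ R, ∀ n x, (gmap (gdn G (Nat.le_add_right n R))).hom x ∈ LinearMap.range (p n)) :
    ∃ M : (UU : Scheme.{u}).Modules, Coh.IsCoh M ∧ Nonempty (Formal.completion J M ≅ G) := by
  obtain ⟨R, hR⟩ := htop
  obtain ⟨R', hR'⟩ := hlift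
  have hnat : ∀ {m n : ℕ} (h : n ≤ m), ((puncFun I).map (ModuleCat.ofHom (p m)) ≫ scounit (gob G m)) ≫ gdn G h =
      (puncFun I).map (ModuleCat.ofHom (p n)) ≫ scounit (gob G n) := fun {m n} h => by
    rw [Category.assoc, ← PuncSys7.scounit_naturality, ← Category.assoc, ← Functor.map_comp]
    congr 2
    exact ModuleCat.hom_ext (LinearMap.ext fun z => hcomp h z)
  have hq : ∀ n, IsQuot (J ^ (n + 1)) ((puncFun I).map (ModuleCat.ofHom (p n)) ≫ scounit (gob G n)) := fun n => by
    have hm : n ≤ R + (n + 1) := by omega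
    haveI := (hG.1 (R + (n + 1))).1
    haveI := (hG.1 (R + (n + 1) + R')).1
    haveI : Epi (gdn G (Nat.le_add_right (R + (n + 1)) R')) := (isQuot_map hG _).epi
    rw [← hnat hm]
    exact isQuot_of_model (p (R + (n + 1))) (gdn G (Nat.le_add_right (R + (n + 1)) R'))
      (hR' (R + (n + 1))) (hR (n + 1)) (gdn G hm) (isQuot_map hG hm)
  exact ⟨(puncFun I).obj (ModuleCat.of A L), PunctSec7.isCoh_rT I L,
    FormalSys.exists_completion_iso _ hq fun n => hnat (Nat.le_succ n)⟩

/-- The same, for modules identified with the sections. -/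
theorem exists_module_of_adic' {J : Ideal A}
    {G : ℕᵒᵖ ⥤ (UU : Scheme.{u}).Modules} (hG : Formal.IsCohFormal J G)
    {S : ℕ → Type u} [∀ n, AddCommGroup (S n)] [∀ n, Module A (S n)]
    (e : ∀ n, S n ≃ₗ[A] gsec (gob G n)) (d : ∀ {m n : ℕ}, n ≤ m → (S m →ₗ[A] S n))
    (hd : ∀ {m n : ℕ} (h : n ≤ m) (y : S m), e n (d h y) = (gmap (gdn G h)).hom (e m y))
    (g : ∀ n, S (n + 1) →ₗ[A] S n) (hfin : Module.Finite A (limSys g))
    (hcomp : ∀ {m n : ℕ} (h : n ≤ m) z, d h (projSys g m z) = projSys g n z)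
    (htop : ∃ R, ∀ k z, projSys g (R + k) z = 0 → z ∈ J ^ k • (⊤ : Submodule A (limSys g)))
    (hlift : ∃ R, ∀ n (y : S (n + R)), d (Nat.le_add_right n R) y ∈ LinearMap.range (projSys g n)) :
    ∃ M : (UU : Scheme.{u}).Modules, Coh.IsCoh M ∧ Nonempty (Formal.completion J M ≅ G) :=
  haveI := hfin
  exists_module_of_adic hG (fun n => (e n).toLinearMap.comp (projSys g n))
    (fun {m n} h z => (hd h (projSys g m z)).symm.trans (congrArg (e n) (hcomp h z)))
    (htop.imp fun R hR k z hz => hR k z ((LinearEquiv.map_eq_zero_iff (e (R + k))).1 hz))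
    (hlift.imp fun R hR n x => by
      obtain ⟨y, rfl⟩ := (e (n + R)).surjective x
      obtain ⟨z, hz⟩ := hR n y
      exact ⟨z, (congrArg (e n) hz).trans (hd _ y)⟩)

/-- Graded finiteness of a tower identified with the sections gives a completion. -/
theorem exists_module_of_tower {J : Ideal A} [IsPrecomplete J A]
    {G : ℕᵒᵖ ⥤ (UU : Scheme.{u}).Modules} (hG : Formal.IsCohFormal J G)
    {S : ℕ → Type u} [∀ n, AddCommGroup (S n)] [∀ n, Module A (S n)]
    (ev : ∀ n, S n ≃ₗ[A] gsec (gob G n)) (dn : ∀ {m n : ℕ}, n ≤ m → (S m →ₗ[A] S n))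
    (hd : ∀ {m n : ℕ} (h : n ≤ m) (y : S m), ev n (dn h y) = (gmap (gdn G h)).hom (ev m y))
    (hcomp : ∀ {m n k : ℕ} (h₁ : n ≤ m) (h₂ : k ≤ n) (x : S m), dn h₂ (dn h₁ x) = dn (h₂.trans h₁) x)
    (hself : ∀ {n : ℕ} (x : S n), dn (le_refl n) x = x)
    {H : ℕ → Type u} [∀ n, AddCommGroup (H n)] [∀ n, Module A (H n)] (δ : ∀ n, S n →ₗ[A] H n)
    {b : ℕ} (cl : ∀ n (a : Fin b → A), (∀ j, a j ∈ J ^ (n + 1)) → H n)
    (hadd : ∀ n a a' ha ha', cl n (a + a') (fun j => Submodule.add_mem _ (ha j) (ha' j)) = cl n a ha + cl n a' ha')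
    (hsmul : ∀ n (r : A) a ha, cl n (r • a) (fun j => Ideal.mul_mem_left _ r (ha j)) = r • cl n a ha)
    (hsurj : ∀ n y, ∃ a ha, cl n a ha = y)
    (hexact : ∀ n x, δ n x = 0 → ∃ y, dn (Nat.le_succ n) y = x)
    (hmul : ∀ r n k (g : A), g ∈ J ^ k → ∀ a ha x, x ∈ zb @dn r n → δ n x = cl n a ha →
      ∀ hga : ∀ j, g * a j ∈ J ^ (n + k + 1), ∃ x' ∈ zb @dn r (n + k), δ (n + k) x' = cl (n + k) (g • a) hga)
    {d : ℕ} (ik : ∀ n (a : Fin d → A), (∀ j, a j ∈ J ^ (n + 1)) → S (n + 1))
    (hadd' : ∀ n a a' ha ha', ik n (a + a') (fun j => Submodule.add_mem _ (ha j) (ha' j)) = ik n a ha + ik n a' ha')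
    (hsmul' : ∀ n (r : A) a ha, ik n (r • a) (fun j => Ideal.mul_mem_left _ r (ha j)) = r • ik n a ha)
    (hker : ∀ n y, dn (Nat.le_succ n) y = 0 ↔ ∃ a ha, ik n a ha = y)
    (hzero : ∀ n k (g : A), g ∈ J ^ k → ∀ x : S (n + k), dn (Nat.le_add_right n k) x = 0 → g • x = 0)
    (hmulK : ∀ n k (g : A), g ∈ J ^ k → ∀ (x : S (n + k + 1)) a ha (hga : ∀ j, g * a j ∈ J ^ (n + k + 1)),
      dn (show n + 1 ≤ n + k + 1 by omega) x = ik n a ha → g • x = ik (n + k) (g • a) hga)
    (h0 : Module.Finite A (S 0)) :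
    ∃ M : (UU : Scheme.{u}).Modules, Coh.IsCoh M ∧ Nonempty (Formal.completion J M ≅ G) := by
  obtain ⟨hfin, htop⟩ := finite_limSys' J @dn @hcomp @hself ik hadd' hsmul' hker hzero hmulK h0
  exact exists_module_of_adic' hG ev @dn @hd (step @dn) hfin (fun {m n} h z => proj_le @dn @hcomp @hself h z) htop
    (exists_lift_family J @dn @hcomp @hself δ cl hadd hsmul hsurj hexact hmul)

/-- A formal system with graded finiteness in degrees zero and one is a completion. -/
theorem exists_module_completion {J : Ideal A} [IsAdicComplete J A]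
    (G : ℕᵒᵖ ⥤ (LocCoh.puncturedOpen A I : Scheme.{u}).Modules) (hG : Formal.IsCohFormal J G)
    (h0 : Module.Finite A (Coh.HH (LocCoh.puncturedOpen A I : Scheme.{u}) (gob G 0) 0))
    {b : ℕ} (c : Fin b → Coh.HH (LocCoh.puncturedOpen A I : Scheme.{u}) (gob G 0) 1) (hc : ClsSurj G hG c)
    {d : ℕ} (e : Fin d → Coh.HH (LocCoh.puncturedOpen A I : Scheme.{u}) (gob G 0) 0) (he : ClsSurj G hG e) :
    ∃ M : (LocCoh.puncturedOpen A I : Scheme.{u}).Modules, Coh.IsCoh M ∧
      Nonempty (Formal.completion J M ≅ G) :=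
  haveI : IsPrecomplete J A := IsAdicComplete.toIsPrecomplete
  exists_module_of_tower hG
    (S := fun n => Coh.HH (LocCoh.puncturedOpen A I : Scheme.{u}) (gob G n) 0)
    (fun n => secEquiv (A := A) (I := I) (gob G n)) (fun {m n} h => sd (A := A) G h)
    (fun {m n} h y => secEquiv_map (A := A) (I := I) (gdn G h) y)
    (fun {m n k} h₁ h₂ x => sd_comp G h₁ h₂ x) (fun {n} x => sd_self G x)
    (H := fun n => Coh.HH (LocCoh.puncturedOpen A I : Scheme.{u}) (K G n) 1) (fun n => δ G hG n)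
    (fun n a ha => cls G hG c n a ha)
    (fun n a a' ha ha' => cls_add G hG c n a a' ha ha') (fun n r a ha => cls_smul G hG c n r a ha)
    hc (fun n x => delta_exact G hG n x) (fun r n k g hg a ha x hx e => delta_mul G hG c r n k g hg a ha x hx e)
    (fun n a ha => inK G hG e n a ha)
    (fun n a a' ha ha' => inK_add G hG e n a a' ha ha') (fun n r a ha => inK_smul G hG e n r a ha)
    (fun n y => ker_sd G hG e he n y) (fun n k g hg x => smul_zero_of_sd G hG n k g hg x)
    (fun n k g hg x a ha hga => smul_inK G hG e n k g hg x a ha hga) h0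

end GrothLib.GenT7.Gen
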