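import Groth.Agent.Lib.GenT7.RelCodim
import Groth.Agent.Lib.PunctSec7.Depth

/-!
# Formal functions from finiteness, for a general closed subset
-/

set_option autoImplicit false
set_option linter.style.haveILetI false

universe u

open CategoryTheory CategoryTheory.Limits AlgebraicGeometry Opposite

noncomputable section

namespace GrothLib.GenT7

open GrothLib.FormalSys GrothLib.PunctSec7

section Regular

variable {A : Type u} [CommRing A] [IsNoetherianRing A] {X : Scheme.{u}} [X.Over (Spec (CommRingCat.of A))]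
  (t : A) [IsAdicComplete (Ideal.span {t}) A] {M : X.Modules}

theorem bij_of_finite [hreg : Mono (Formal.smulMod A M t)] (p : ℕ) (hp : Module.Finite A (Coh.HH X M p))
    (hp1 : Module.Finite A (Coh.HH X M (p + 1))) : FormalFun.Bij (Ideal.span ({t} : Set A)) M p := by
  let J := Ideal.span ({t} : Set A)
  have hmono : ∀ k, Mono (Formal.smulMod A M (t ^ k)) := fun k => by
    induction k with
    | zero => rw [pow_zero, smulMod_one]; infer_instance
    | succ k ih => rw [pow_succ, smulMod_mul]; exact mono_comp _ _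
  have hq := fun n => IsQuot.modPowπ J (n + 0) M
  have hw : ∀ n, Formal.smulMod A M (t ^ n) ≫ Formal.modPowπ J (n + 0) M = 0 := fun n =>
    (comp_eq_zero_span_pow_iff t n _).1 (hq n).comp_eq_zero
  have hS : ∀ n, (ShortComplex.mk (Formal.smulMod A M (t ^ n)) _ (hw n)).ShortExact := fun n => by
    have hd : ∀ {Z : X.Modules} (g : M ⟶ Z), Formal.smulMod A M (t ^ n) ≫ g = 0 →
        ∀ a ∈ J ^ (n + 0), Formal.smulMod A M a ≫ g = 0 := fun g hg => (comp_eq_zero_span_pow_iff t n _).2 hg
    have := (hq n).epi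
    refine ShortComplex.ShortExact.mk' ?_ (hmono n) (hq n).epi
    exact ShortComplex.exact_of_g_is_cokernel _ (CokernelCofork.IsColimit.ofπ _ _
      (fun g hg => ((hq n).exists_desc g (hd g hg)).choose)
      (fun g hg => ((hq n).exists_desc g (hd g hg)).choose_spec)
      (fun g hg m hm => (cancel_epi (Formal.modPowπ J (n + 0) M)).1
        (hm.trans ((hq n).exists_desc g (hd g hg)).choose_spec.symm)))
  haveI := hp
  haveI := hp1
  haveI : IsAdicComplete J (Coh.HH X M p) := AdicLim.isAdicComplete_of_finite _ _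
  haveI : IsAdicComplete J (Coh.HH X M (p + 1)) := AdicLim.isAdicComplete_of_finite _ _
  haveI : IsHausdorff J (Coh.HH X M (p + 1)) := IsAdicComplete.toIsHausdorff
  refine FormalFun.bij_of_sequences t 0 (fun n => Formal.smulMod A M (t ^ n)) (fun n => ?_) hw hS p
  rw [← smulMod_mul, ← pow_succ]

end Regular

variable {A : Type u} [CommRing A] [IsNoetherianRing A] (I : Ideal A)

omit [IsNoetherianRing A] in
theorem puncturedOpen_eq_iSup :
    (⨆ f : ↥I, (Spec (CommRingCat.of A)).basicOpen ((Scheme.ΓSpecIso (CommRingCat.of A)).inv f.1)) =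
      LocCoh.puncturedOpen A I := by
  refine TopologicalSpace.Opens.ext (Set.ext fun x => ?_)
  rw [SetLike.mem_coe, SetLike.mem_coe, TopologicalSpace.Opens.mem_iSup]
  show _ ↔ ¬ ((I : Set A) ⊆ x.asIdeal)
  rw [Set.not_subset]
  refine ⟨fun ⟨f, hf⟩ => ⟨f.1, f.2, ?_⟩, fun ⟨f, hfI, hf⟩ => ⟨⟨f, hfI⟩, ?_⟩⟩
  · rw [basicOpen_eq_of_affine', Iso.inv_hom_id_apply] at hf
    exact hf
  · rw [basicOpen_eq_of_affine', Iso.inv_hom_id_apply]
    exact hf

theorem finite_H0 (N : Type u) [AddCommGroup N] [Module A N] [Module.Finite A N]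
    (h : Module.Finite A (LocCoh.H I 1 N)) :
    Module.Finite A (Coh.HH (LocCoh.puncturedOpen A I : Scheme.{u}) (rT I N) 0) := by
  obtain ⟨S, hS, hX, hE⟩ := Punctured.exists_mono_injective' (ModuleCat.of (CommRingCat.of A) N)
  obtain ⟨e⟩ := Punctured.nonempty_coker_equiv I hS hE
  rw [hX] at e
  haveI := h
  haveI : Module.Finite A (Formal2Sec7.Sc I N ⧸ LinearMap.range (Formal2Sec7.j I N)) :=
    Module.Finite.equiv e.symm
  haveI : Module.Finite A (LinearMap.range (Formal2Sec7.j I N)) :=
    Module.Finite.iff_fg.2 (by rw [LinearMap.range_eq_map]; exact (Module.Finite.fg_top (R := A) (M := N)).map _)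
  haveI : Module.Finite A (Formal2Sec7.Sc I N) :=
    Module.Finite.of_submodule_quotient (LinearMap.range (Formal2Sec7.j I N))
  exact Module.Finite.equiv (Punctured.H0Sec I (ModuleCat.of (CommRingCat.of A) N)).symm

/-- Formal functions from the depths at the points of relative codimension one. -/
theorem toHHlim_of_codim_one {R : Type u} [CommRing R] [IsRegularRing R] (π : R →+* A) (hπ : Function.Surjective π)
    (t : A) [IsAdicComplete (Ideal.span {t}) A] (F : (LocCoh.puncturedOpen A I : Scheme.{u}).Modules)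
    (hF : Coh.IsCoh F) (hreg : Mono (Formal.smulMod A F t)) (n : ℕ)
    (hdepth : ∀ x : (LocCoh.puncturedOpen A I : Scheme.{u}), SGA2.relCodim I x.1 = 1 →
      ((n + 1 : ℕ) : ℕ∞) ≤ LocCoh.depth ((LocCoh.puncturedOpen A I : Scheme.{u}).presheaf.stalk x) (F.presheaf.stalk x))
    (i : ℕ) : (i < n → Function.Bijective (Formal.toHHlim (Ideal.span {t}) F i)) ∧
      (i = n → Function.Injective (Formal.toHHlim (Ideal.span {t}) F i)) := by
  let W := LocCoh.puncturedOpen A I
  haveI : IsLocallyNoetherian (W : Scheme.{u}) := isLocallyNoetherian_of_isOpenImmersion W.ι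
  haveI : CompactSpace (W : Scheme.{u}) := isCompact_iff_compactSpace.1 (TopologicalSpace.NoetherianSpace.isCompact _)
  haveI : IsNoetherian (W : Scheme.{u}) := {}
  obtain ⟨N, _, _, _, hN, ⟨e⟩⟩ := exists_regular_model I t F hF hreg
  haveI : Module.Finite (CommRingCat.of A) (ModuleCat.of (CommRingCat.of A) N) := ‹_›
  haveI : IsNoetherianRing (CommRingCat.of A) := ‹_›
  have hfin : ∀ j, j < n + 2 → Module.Finite A (LocCoh.H I j N) :=
    finite_H I π hπ N n fun q hIq hq1 => by
      let x : (W : Scheme.{u}) := ⟨q, fun h => hIq h⟩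
      refine (hdepth x hq1).trans_eq ?_
      rw [← depth_congr_iso e x]
      exact (depth_stalk_restrict (tilde (ModuleCat.of (CommRingCat.of A) N)) W x).trans
        (depth_stalk_tilde (ModuleCat.of (CommRingCat.of A) N) q)
  have hH : ∀ p, p ≤ n → Module.Finite A (Coh.HH (W : Scheme.{u}) F p) := fun p hp => by
    cases p with
    | zero =>
      haveI := finite_H0 I N (hfin 1 (by omega))
      exact Module.Finite.equiv (Punctured.hhEquiv (A := A) e 0)
    | succ p =>
      obtain ⟨φ⟩ := Punctured.nonempty_HH_equiv_of_iso I F (ModuleCat.of (CommRingCat.of A) N) e p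
      haveI := hfin (p + 2) (by omega)
      exact Module.Finite.equiv φ.symm
  refine ⟨fun hi => FormalFun.toHHlim_bijective (bij_of_finite t i (hH i hi.le) (hH (i + 1) hi)), fun hi => ?_⟩
  haveI := hH i hi.le
  haveI : IsAdicComplete (Ideal.span {t}) (Coh.HH (W : Scheme.{u}) F i) := AdicLim.isAdicComplete_of_finite _ _
  refine (injective_iff_map_eq_zero _).2 fun x hx => (bij_of_killed_hh t hF i).1 IsAdicComplete.toIsHausdorff x fun m => ?_
  exact congrFun (congrArg Subtype.val hx) m

end GrothLib.GenT7
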