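import Groth.Agent.Lib.GenT7.Levels
import Groth.Agent.Lib.GenT7.Model
import Groth.Agent.Lib.GenT7.Bij
import Groth.Agent.Lib.NegVan7.Main

/-!
# Algebraization on the complement of `V(I)` from depth two at the points of relative codimension one
-/

set_option autoImplicit false
set_option linter.style.haveILetI false
set_option linter.unusedSectionVars false
universe u

open CategoryTheory CategoryTheory.Limits AlgebraicGeometry Opposite TopologicalSpace

noncomputable section

namespace GrothLib.GenT7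

open GrothLib.FFormal7 GrothLib.UnifVanish7 GrothLib.Algz56
open GrothLib.PunctSec7 (rT Kt)

variable {A : Type u} [CommRing A] [IsNoetherianRing A] (I : Ideal A)

set_option quotPrecheck false
local notation "UU" => LocCoh.puncturedOpen A I

/-- The equality of subobjects as exactness up to refinements. -/
theorem refine_of_kernel_eq_image {X : Scheme.{u}} {M : X.Modules} (f g : M ⟶ M)
    (h : kernelSubobject g = imageSubobject f) {T : X.Modules} (z : T ⟶ M) (hz : z ≫ g = 0) :
    ∃ (T' : X.Modules) (π : T' ⟶ T) (_ : Epi π) (w : T' ⟶ M), π ≫ z = w ≫ f := by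
  have hfac : (imageSubobject f).Factors z := h ▸ kernelSubobject_factors g z hz
  obtain ⟨T', π, hπ, w, hw⟩ := surjective_up_to_refinements_of_epi (factorThruImageSubobject f)
    ((imageSubobject f).factorThru z hfac)
  refine ⟨T', π, hπ, w, ?_⟩
  rw [← Subobject.factorThru_arrow _ z hfac, ← Category.assoc, hw, Category.assoc, imageSubobject_arrow_comp]

/-- Finiteness of `H⁰` and `H¹` from depth two at the points of relative codimension one. -/
theorem finite_hh_of_depth {R : Type u} [CommRing R] [IsRegularRing R] (π : R →+* A) (hπ : Function.Surjective π)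
    (P : (UU : Scheme.{u}).Modules) (hP : Coh.IsCoh P)
    (hdepth : ∀ x : (UU : Scheme.{u}), SGA2.relCodim I x.1 = 1 →
      (2 : ℕ∞) ≤ LocCoh.depth ((UU : Scheme.{u}).presheaf.stalk x) (P.presheaf.stalk x)) :
    Module.Finite A (Coh.HH (UU : Scheme.{u}) P 0) ∧ Module.Finite A (Coh.HH (UU : Scheme.{u}) P 1) := by
  obtain ⟨N, hN, ⟨e⟩⟩ := Punctured.exists_finite_puncFun_iso I P hP
  haveI : Module.Finite A N := hN
  haveI : Module.Finite (CommRingCat.of A) N := hN
  haveI : IsNoetherianRing (CommRingCat.of A) := ‹_›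
  have hfin : ∀ j, j < 1 + 2 → Module.Finite A (LocCoh.H I j N) :=
    finite_H I π hπ N 1 fun q hIq hq1 => by
      let x : (UU : Scheme.{u}) := ⟨q, fun h => hIq h⟩
      refine le_trans (le_of_eq (by norm_num)) ((hdepth x hq1).trans_eq ?_)
      rw [← PunctSec7.depth_congr_iso e x]
      exact (PunctSec7.depth_stalk_restrict (tilde N) UU x).trans (PunctSec7.depth_stalk_tilde N q)
  constructor
  · haveI : Module.Finite A (Coh.HH (UU : Scheme.{u}) ((Punctured.puncFun I).obj N) 0) :=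
      finite_H0 I N (hfin 1 (by omega))
    exact Module.Finite.equiv (Punctured.hhEquiv (A := A) e 0)
  · obtain ⟨φ⟩ := Punctured.nonempty_HH_equiv_of_iso I P N e 0
    haveI := hfin 2 (by omega)
    exact Module.Finite.equiv φ.symm

variable (t : A)

theorem baseIdeal_eq : (Kt t).comap (UU).ι = baseIdeal (Ideal.span ({t} : Set A)) (UU : Scheme.{u}) := rfl

/-- Points of the open above `V(t)` lie on level zero. -/
theorem exists_lev_zero (x : (UU : Scheme.{u})) (hx : t ∈ x.1.asIdeal) :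
    ∃ y, levι (Ideal.span ({t} : Set A)) (UU : Scheme.{u}) 0 y = x := by
  have hmem : ((UU : Scheme.{u}) ↘ Spec (CommRingCat.of A)) x ∈
      Set.range (CohB1.specQuot (Ideal.span ({t} : Set A)) 0) := by
    show x.1 ∈ Set.range (PrimeSpectrum.comap (Ideal.Quotient.mk (Ideal.span ({t} : Set A) ^ (0 + 1))))
    rw [range_comap_of_surjective _ _ Ideal.Quotient.mk_surjective, Ideal.mk_ker, pow_one]
    show (Ideal.span ({t} : Set A) : Set A) ⊆ x.1.asIdeal
    exact (Ideal.span_singleton_le_iff_mem _).2 hx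
  obtain ⟨z, hz⟩ := hmem
  have hpb := isPullback_lev (Ideal.span ({t} : Set A)) (UU : Scheme.{u}) 0
  obtain ⟨y, hy, -⟩ := Scheme.exists_preimage_of_isPullback hpb x z hz.symm
  exact ⟨y, hy⟩

/-- The stalks at the points off `V(t)` of a module killed by `t` vanish. -/
theorem subsingleton_stalk {P : (UU : Scheme.{u}).Modules} (hP : Formal.KilledBy (Ideal.span ({t} : Set A)) P)
    (x : (UU : Scheme.{u})) (hx : t ∉ x.1.asIdeal) : Subsingleton (P.presheaf.stalk x) := by
  have hu : IsUnit (FormalFun.toStalk A x t) :=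
    ((UU : Scheme.{u}).toRingedSpace.mem_basicOpen (U := ⊤) _ x trivial).1
      ((CFEquiv7.mem_basicOpen_toGlobal_iff t x).2 hx)
  exact subsingleton_of_forall_eq 0 fun v =>
    hu.smul_eq_zero.1 (FormalExist7.killedBy_stalk hP x (Ideal.mem_span_singleton_self t) v)

theorem killedBy_zero {X : Scheme.{u}} [X.Over (Spec (CommRingCat.of A))] (G : ℕᵒᵖ ⥤ X.Modules)
    (hG : Formal.IsCohFormal (Ideal.span ({t} : Set A)) G) :
    Formal.KilledBy (Ideal.span ({t} : Set A)) (gob G 0) := fun a ha =>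
  hG.2.1 0 a ((pow_one (Ideal.span ({t} : Set A))).symm ▸ ha)

/-- The level zero term. -/
theorem depth_level_zero {Z : Scheme.{u}} (e : Z ⟶ (UU : Scheme.{u})) [IsClosedImmersion e] [IsLocallyNoetherian Z]
    [IsLocallyNoetherian (UU : Scheme.{u})] {F : Z.Modules} (hF : Coh.IsCoh F)
    {P : (UU : Scheme.{u}).Modules} (hP : Coh.IsCoh P) (heq : P = (Scheme.Modules.pushforward e).obj F)
    (hkill : Formal.KilledBy (Ideal.span ({t} : Set A)) P)
    (hrange : ∀ x : (UU : Scheme.{u}), t ∈ x.1.asIdeal → ∃ y, e y = x)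
    (hdepth : ∀ y : Z, SGA2.relCodim I (e y).1 = 1 → (2 : ℕ∞) ≤ LocCoh.depth (Z.presheaf.stalk y) (F.presheaf.stalk y))
    (x : (UU : Scheme.{u})) (hx : SGA2.relCodim I x.1 = 1) :
    (2 : ℕ∞) ≤ LocCoh.depth ((UU : Scheme.{u}).presheaf.stalk x) (P.presheaf.stalk x) := by
  by_cases htx : t ∈ x.1.asIdeal
  · subst heq
    obtain ⟨y, rfl⟩ := hrange x htx
    exact (hdepth y hx).trans_eq (NegVan7.depth_stalk_push e hF hP y).symm
  · haveI := subsingleton_stalk I t hkill x htx
    rw [Depth.depth_eq_top_of_subsingleton]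
    exact le_top

section Abstract

variable {R : Type u} [CommRing R] [IsRegularRing R] (π : R →+* A) (hπ : Function.Surjective π)
  [IsAdicComplete (Ideal.span ({t} : Set A)) A]
  {Xs : ℕ → Scheme.{u}} [hX : ∀ k, (Xs k).Over (Spec (CommRingCat.of A))]
  {i : (k : ℕ) → (Xs k ⟶ Xs (k + 1))}
  {p : (k : ℕ) → (Xs k ⟶ Spec (CommRingCat.of (A ⧸ Ideal.span ({t} : Set A) ^ (k + 1))))}
  {e : ∀ k, Xs k ⟶ (LocCoh.puncturedOpen A I : Scheme.{u})}
  [IsSeparated ((LocCoh.puncturedOpen A I : Scheme.{u}) ↘ Spec (CommRingCat.of A))]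
  [LocallyOfFiniteType ((LocCoh.puncturedOpen A I : Scheme.{u}) ↘ Spec (CommRingCat.of A))]
  [QuasiCompact ((LocCoh.puncturedOpen A I : Scheme.{u}) ↘ Spec (CommRingCat.of A))]
  (h : IsAdicSys (Ideal.span ({t} : Set A)) i p)
  (hpb : ∀ k, IsPullback (e k) (p k) ((LocCoh.puncturedOpen A I : Scheme.{u}) ↘ Spec (CommRingCat.of A))
    (CohB1.specQuot (Ideal.span ({t} : Set A)) k))
  (hec : ∀ k, e k = i k ≫ e (k + 1))

include h hpb hec hπ in
/-- Algebraization on abstract levels. -/
theorem exists_algebraization_levels {F : (k : ℕ) → (Xs k).Modules} (hF : ∀ k, Coh.IsCoh (F k))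
    (ψ : ∀ k, (Scheme.Modules.pullback (i k)).obj (F (k + 1)) ≅ F k)
    (hreg : ∀ N : ℕ, 1 ≤ N → kernelSubobject (Formal.smulMod A (F N) (t ^ N)) =
      imageSubobject (Formal.smulMod A (F N) t))
    (hrange : ∀ x : (UU : Scheme.{u}), t ∈ x.1.asIdeal → ∃ y, e 0 y = x)
    (hdepth : ∀ y : Xs 0, SGA2.relCodim I (e 0 y).1 = 1 →
      (2 : ℕ∞) ≤ LocCoh.depth ((Xs 0).presheaf.stalk y) ((F 0).presheaf.stalk y)) :
    ∃ (M : (UU : Scheme.{u}).Modules) (χ : ∀ k, (Scheme.Modules.pullback (e k)).obj M ≅ F k), Coh.IsCoh M ∧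
      ∀ k, (Scheme.Modules.pullback (i k)).map (χ (k + 1)).hom ≫ (ψ k).hom = (lamb hec M k).hom ≫ (χ k).hom := by
  haveI : IsLocallyNoetherian (UU : Scheme.{u}) := isLocallyNoetherian_of_isOpenImmersion (UU).ι
  haveI := isClosedImmersion_e hpb 0
  haveI : IsLocallyNoetherian (Xs 0) := LocallyOfFiniteType.isLocallyNoetherian (e 0)
  have hG : Formal.IsCohFormal (Ideal.span ({t} : Set A)) (pushSys hec ψ) := isCohFormal_pushSys_sep h hpb hec hF ψ
  have hR : Reg t (pushSys hec ψ) := reg_pushSys h hpb hec t (Ideal.mem_span_singleton_self t) ψ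
    fun N hN {T} z hz => refine_of_kernel_eq_image _ _ (hreg N hN) z hz
  have hk : Formal.KilledBy (Ideal.span ({t} : Set A)) (gob (pushSys hec ψ) 0) := killedBy_zero t (pushSys hec ψ) hG
  have hc : Coh.IsCoh (gob (pushSys hec ψ) 0) := hG.1 0
  have heq : gob (pushSys hec ψ) 0 = (Scheme.Modules.pushforward (e 0)).obj (F 0) := rfl
  have hd := depth_level_zero I t (e 0) (F := F 0) (hF 0) (P := gob (pushSys hec ψ) 0) hc heq hk hrange hdepth
  obtain ⟨h0, h1⟩ := finite_hh_of_depth I π hπ (gob (pushSys hec ψ) 0) hc hd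
  obtain ⟨M, hM, ⟨θ⟩⟩ := exists_module_completion (I := I) t (pushSys hec ψ) hG hR h0 h1
  obtain ⟨χ, hχ⟩ := exists_compat_of_completion h hpb hec hF ψ M θ
  exact ⟨M, χ, hM, hχ⟩

end Abstract

variable [IsAdicComplete (Ideal.span ({t} : Set A)) A]

/-- Algebraization on the complement of `V(I)`. -/
theorem exists_algebraization {R : Type u} [CommRing R] [IsRegularRing R] (π : R →+* A) (hπ : Function.Surjective π)
    (𝔐 : FSch.ModSys (FSch.completionAlong (UU : Scheme.{u}) (baseIdeal (Ideal.span ({t} : Set A)) (UU : Scheme.{u}))))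
    (hcoh : 𝔐.IsCoh)
    (hreg : ∀ N : ℕ, 1 ≤ N → kernelSubobject (Formal.smulMod A (X := lev (Ideal.span ({t} : Set A)) (UU : Scheme.{u}) N) (𝔐.F N) (t ^ N)) =
      imageSubobject (Formal.smulMod A (X := lev (Ideal.span ({t} : Set A)) (UU : Scheme.{u}) N) (𝔐.F N) t))
    (hdepth : ∀ y : ↥(lev (Ideal.span ({t} : Set A)) (UU : Scheme.{u}) 0),
      SGA2.relCodim I (levι (Ideal.span ({t} : Set A)) (UU : Scheme.{u}) 0 y).1 = 1 →
        (2 : ℕ∞) ≤ LocCoh.depth ((lev (Ideal.span ({t} : Set A)) (UU : Scheme.{u}) 0).presheaf.stalk y)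
          ((𝔐.F 0).presheaf.stalk y)) :
    ∃ F : (UU : Scheme.{u}).Modules, Coh.IsCoh F ∧
      Nonempty (FSch.completionMod (baseIdeal (Ideal.span ({t} : Set A)) (UU : Scheme.{u})) F ≅ 𝔐) := by
  haveI : IsSeparated ((UU : Scheme.{u}) ↘ Spec (CommRingCat.of A)) := inferInstanceAs (IsSeparated (UU).ι)
  haveI : LocallyOfFiniteType ((UU : Scheme.{u}) ↘ Spec (CommRingCat.of A)) :=
    inferInstanceAs (LocallyOfFiniteType (UU).ι)
  haveI : IsLocallyNoetherian (UU : Scheme.{u}) := isLocallyNoetherian_of_isOpenImmersion (UU).ι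
  haveI : CompactSpace (UU : Scheme.{u}) := isCompact_iff_compactSpace.1 (TopologicalSpace.NoetherianSpace.isCompact _)
  haveI : QuasiCompact ((UU : Scheme.{u}) ↘ Spec (CommRingCat.of A)) := inferInstanceAs (QuasiCompact (UU).ι)
  obtain ⟨M, χ, hM, hχ⟩ := exists_algebraization_levels I t π hπ
    (isAdicSys_lev (Ideal.span ({t} : Set A)) (UU : Scheme.{u}))
    (fun k => isPullback_lev (Ideal.span ({t} : Set A)) (UU : Scheme.{u}) k)
    (levι_eq_sep (Ideal.span ({t} : Set A)) (X := (UU : Scheme.{u}))) hcoh 𝔐.e hreg (exists_lev_zero I t) hdepth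
  refine ⟨M, hM, nonempty_completionMod_iso _ M χ fun k => ?_⟩
  refine (hχ k).trans (congrArg (· ≫ (χ k).hom) ?_)
  exact (complMod_e_hom_sep (Ideal.span ({t} : Set A)) M k).symm

/-- Algebraization on an open equal to the complement of `V(I)`, in the language of ideal sheaves on `Spec A`. -/
theorem exists_algebraization_open {R : Type u} [CommRing R] [IsRegularRing R] (π : R →+* A) (hπ : Function.Surjective π)
    (U : (Spec (CommRingCat.of A)).Opens) (hU : U = LocCoh.puncturedOpen A I)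
    (𝔐 : FSch.ModSys (FSch.completionAlong (U : Scheme.{u}) ((Kt t).comap U.ι))) (hcoh : 𝔐.IsCoh)
    (hreg : ∀ N : ℕ, 1 ≤ N → kernelSubobject (Formal.smulModΓ (𝔐.F N)
        (((FSch.completionToX (U : Scheme.{u}) ((Kt t).comap U.ι) N ≫ U.ι).appTop.hom
          ((Scheme.ΓSpecIso (CommRingCat.of A)).inv t)) ^ N)) =
      imageSubobject (Formal.smulModΓ (𝔐.F N) ((FSch.completionToX (U : Scheme.{u}) ((Kt t).comap U.ι) N ≫ U.ι).appTop.hom
          ((Scheme.ΓSpecIso (CommRingCat.of A)).inv t))))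
    (hdepth : ∀ y : ↥((FSch.completionAlong (U : Scheme.{u}) ((Kt t).comap U.ι)).X 0),
      SGA2.relCodim I ((FSch.completionToX (U : Scheme.{u}) ((Kt t).comap U.ι) 0 ≫ U.ι).base y) = 1 →
        (2 : ℕ∞) ≤ LocCoh.depth (((FSch.completionAlong (U : Scheme.{u}) ((Kt t).comap U.ι)).X 0).presheaf.stalk y)
          ((𝔐.F 0).presheaf.stalk y)) :
    ∃ F : (U : Scheme.{u}).Modules, Coh.IsCoh F ∧ Nonempty (FSch.completionMod ((Kt t).comap U.ι) F ≅ 𝔐) := by
  subst hU
  refine exists_algebraization I t π hπ 𝔐 hcoh (fun N hN => ?_) fun y hy => hdepth y hy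
  refine Eq.trans ?_ ((hreg N hN).trans rfl)
  exact congrArg (fun r => kernelSubobject (Formal.smulModΓ (𝔐.F N) r))
    (map_pow (Coh.toGlobal (FSch.completionToX (LocCoh.puncturedOpen A I : Scheme.{u})
      ((Kt t).comap (LocCoh.puncturedOpen A I).ι) N ≫ (LocCoh.puncturedOpen A I).ι)) t N)

end GrothLib.GenT7
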