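import Groth.Agent.Lib.GenT7.LocFreeRetract
import Groth.Agent.Lib.GenT7.Algz

/-!
# Finiteness of the cohomology of modules locally free over `A / J` on a punctured spectrum
-/

set_option autoImplicit false
set_option linter.style.haveILetI false
set_option linter.unusedSectionVars false
universe u

open CategoryTheory CategoryTheory.Limits AlgebraicGeometry Opposite TopologicalSpace

noncomputable section

namespace GrothLib.GenT7

open GrothLib.FormalSys GrothLib.FormalFun GrothLib.Cohom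
open GrothLib.Punctured (puncFun)

variable {A : Type u} [CommRing A] (B : Type u) [CommRing B] [Algebra A B]

/-- Multiplication by `s` factors through `φ`. -/
def Retr {N : Type u} [AddCommGroup N] [Module A N] {b : ℕ} (φ : N →ₗ[A] (Fin b → B)) (s : A) : Prop :=
  ∃ ρ : (Fin b → B) →ₗ[A] N, ρ.comp φ = s • LinearMap.id

/-- Finitely many factorisations are one. -/
theorem exists_retr_span {N : Type u} [AddCommGroup N] [Module A N] {ι : Type*} [Finite ι] (g : ι → A)
    (h : ∀ i, ∃ (b : ℕ) (φ : N →ₗ[A] (Fin b → B)), Retr B φ (g i)) :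
    ∃ (b : ℕ) (φ : N →ₗ[A] (Fin b → B)), ∀ s ∈ Ideal.span (Set.range g), Retr B φ s := by
  classical
  haveI := Fintype.ofFinite ι
  choose b φ ρ hρ using h
  let e := Fintype.equivFin (Σ i, Fin (b i))
  let ψ : N →ₗ[A] (Fin (Fintype.card (Σ i, Fin (b i))) → B) :=
    LinearMap.pi fun k => (LinearMap.proj (e.symm k).2).comp (φ (e.symm k).1)
  refine ⟨_, ψ, fun s hs => ?_⟩
  induction hs using Submodule.span_induction with
  | mem y hy =>
    obtain ⟨i, rfl⟩ := hy
    refine ⟨(ρ i).comp (LinearMap.pi fun j => LinearMap.proj (e ⟨i, j⟩)), LinearMap.ext fun n => ?_⟩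
    have h1 : (LinearMap.pi fun j => LinearMap.proj (R := A) (φ := fun _ => B) (e ⟨i, j⟩)) (ψ n) = φ i n :=
      funext fun j => by
        show (φ (e.symm (e ⟨i, j⟩)).1 n) (e.symm (e ⟨i, j⟩)).2 = φ i n j
        rw [e.symm_apply_apply]
    show ρ i ((LinearMap.pi fun j => LinearMap.proj (R := A) (φ := fun _ => B) (e ⟨i, j⟩)) (ψ n)) = g i • n
    rw [h1]
    exact LinearMap.congr_fun (hρ i) n
  | zero => exact ⟨0, by rw [LinearMap.zero_comp, zero_smul]⟩
  | add x y _ _ hx hy =>
    obtain ⟨r, hr⟩ := hx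
    obtain ⟨r', hr'⟩ := hy
    exact ⟨r + r', by rw [LinearMap.add_comp, hr, hr', add_smul]⟩
  | smul a x _ hx =>
    obtain ⟨r, hr⟩ := hx
    exact ⟨a • r, by rw [LinearMap.smul_comp, hr, smul_eq_mul, mul_smul]⟩

theorem retr_smul_eq_zero {N : Type u} [AddCommGroup N] [Module A N] {b : ℕ} {φ : N →ₗ[A] (Fin b → B)} {s : A}
    (h : Retr B φ s) {n : N} (hn : φ n = 0) : s • n = 0 := by
  obtain ⟨ρ, hρ⟩ := h
  have h1 := LinearMap.congr_fun hρ n
  rw [LinearMap.comp_apply, hn, map_zero] at h1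
  exact h1.symm

/-- The cokernel of a locally split map is again a retract. -/
theorem exists_retr_coker [IsNoetherianRing A] {N : Type u} [AddCommGroup N] [Module A N] {b : ℕ}
    (φ : N →ₗ[A] (Fin b → B)) (J : Ideal A) (h : ∀ s ∈ J, Retr B φ s) :
    ∃ (c : ℕ) (ψ : ((Fin b → B) ⧸ LinearMap.range φ) →ₗ[A] (Fin c → B)), ∀ s ∈ J, Retr B ψ s := by
  obtain ⟨l, g, hg⟩ := Submodule.fg_iff_exists_fin_generating_family.1 (IsNoetherian.noetherian J)
  obtain ⟨c, ψ, hψ⟩ := exists_retr_span B g (N := (Fin b → B) ⧸ LinearMap.range φ) fun i => by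
    obtain ⟨ρ, hρ⟩ := h (g i) (by rw [← hg]; exact Submodule.subset_span (Set.mem_range_self i))
    refine ⟨b, (LinearMap.range φ).liftQ (g i • LinearMap.id - φ.comp ρ) ?_, (LinearMap.range φ).mkQ,
      Submodule.linearMap_qext _ (LinearMap.ext fun y => ?_)⟩
    · rintro _ ⟨n, rfl⟩
      show g i • φ n - φ (ρ (φ n)) = 0
      rw [show ρ (φ n) = g i • n from LinearMap.congr_fun hρ n, map_smul, sub_self]
    · show (LinearMap.range φ).mkQ (g i • y - φ (ρ y)) = g i • (LinearMap.range φ).mkQ y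
      rw [map_sub, map_smul, Submodule.mkQ_apply, Submodule.mkQ_apply,
        (Submodule.Quotient.mk_eq_zero _).2 (LinearMap.mem_range_self φ (ρ y)), sub_zero]
  exact ⟨c, ψ, fun s hs => hψ s (show s ∈ Submodule.span A (Set.range g) by rw [hg]; exact hs)⟩

section generic

variable [IsNoetherianRing A] {X : Scheme.{u}} [X.Over (Spec (CommRingCat.of A))] {C : Type*} [Category C] [HasZeroMorphisms C]
  (F : C ⥤ X.Modules) [F.PreservesZeroMorphisms] (S : ShortComplex C) (hT : (S.map F).ShortExact)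

include hT

theorem finite_map_mid (p : ℕ) (h₁ : Module.Finite A (Coh.HH X (F.obj S.X₁) p))
    (h₃ : Module.Finite A (Coh.HH X (F.obj S.X₃) p)) : Module.Finite A (Coh.HH X (F.obj S.X₂) p) := by
  haveI : Module.Finite A (Coh.HH X (S.map F).X₁ p) := h₁
  haveI : Module.Finite A (Coh.HH X (S.map F).X₃ p) := h₃
  exact Cohom.finite_X₂ (A := A) hT p

theorem finite_map_left {P : X.Modules} (e : P ≅ F.obj S.X₁) (h0 : Module.Finite A (Coh.HH X (F.obj S.X₂) 0))
    (h1 : Module.Finite A (Coh.HH X (F.obj S.X₂) 1)) :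
    Module.Finite A (Coh.HH X P 0) ∧
      (Module.Finite A (Coh.HH X (F.obj S.X₃) 0) → Module.Finite A (Coh.HH X P 1)) := by
  haveI : Module.Finite A (Coh.HH X (S.map F).X₂ 0) := h0
  haveI : Module.Finite A (Coh.HH X (S.map F).X₂ (0 + 1)) := h1
  refine ⟨?_, fun h3 => ?_⟩
  · haveI : Module.Finite A (Coh.HH X (F.obj S.X₁) 0) := Cohom.finite_X₁_zero (A := A) hT
    exact Module.Finite.equiv (Punctured.hhEquiv (A := A) e 0).symm
  · haveI : Module.Finite A (Coh.HH X (S.map F).X₃ 0) := h3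
    haveI : Module.Finite A (Coh.HH X (F.obj S.X₁) 1) := Cohom.finite_X₁_succ (A := A) hT 0
    exact Module.Finite.equiv (Punctured.hhEquiv (A := A) e 1).symm

end generic

variable [IsNoetherianRing A] (I : Ideal A)

/-- Killing a power of `I` in the kernel of a surjection gives an isomorphism on the open. -/
theorem nonempty_puncFun_iso_of_surjective {N M : Type u} [AddCommGroup N] [Module A N] [AddCommGroup M] [Module A M]
    (g : N →ₗ[A] M) (hg : Function.Surjective g) (k : ℕ) (hk : ∀ n, g n = 0 → ∀ r ∈ I ^ k, r • n = 0) :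
    Nonempty ((puncFun I).obj (ModuleCat.of (CommRingCat.of A) N) ≅
      (puncFun I).obj (ModuleCat.of (CommRingCat.of A) M)) := by
  let S : ShortComplex (ModuleCat.{u} (CommRingCat.of A)) :=
    ShortComplex.mk (ModuleCat.ofHom (R := CommRingCat.of A) (LinearMap.ker g).subtype)
      (ModuleCat.ofHom (R := CommRingCat.of A) g) (ModuleCat.hom_ext (LinearMap.ext fun z => z.2))
  have hS : S.ShortExact :=
    { exact := (ShortComplex.moduleCat_exact_iff S).2 fun z hz => ⟨⟨z, hz⟩, rfl⟩
      mono_f := (ModuleCat.mono_iff_injective _).2 (LinearMap.ker g).injective_subtype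
      epi_g := (ModuleCat.epi_iff_surjective _).2 hg }
  haveI : IsIso ((puncFun I).map S.g) := by
    refine ((Punctured.puncFun_shortExact I S hS).isIso_g_iff).2 (PuncSys7.isZero_puncFun I (m := k) S.X₁ ?_)
    exact fun r hr z => Subtype.ext (hk z.1 z.2 r hr)
  exact ⟨asIso ((puncFun I).map S.g)⟩

/-- The powers of a module with finite `H⁰` and `H¹` on the open. -/
theorem finite_hh_pi (M : Type u) [AddCommGroup M] [Module A M] (b p : ℕ)
    (h : Module.Finite A (Coh.HH (LocCoh.puncturedOpen A I : Scheme.{u})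
      ((puncFun I).obj (ModuleCat.of (CommRingCat.of A) M)) p)) :
    Module.Finite A (Coh.HH (LocCoh.puncturedOpen A I : Scheme.{u})
      ((puncFun I).obj (ModuleCat.of (CommRingCat.of A) (Fin b → M))) p) := by
  induction b with
  | zero =>
    haveI := Cohom.subsingleton_HH_of_isZero
      (PuncSys7.isZero_puncFun I (m := 0) (ModuleCat.of (CommRingCat.of A) (Fin 0 → M))
        (fun r _ z => Subsingleton.elim (α := Fin 0 → M) _ _)) p
    exact inferInstance
  | succ b ih =>
    let sf : M →ₗ[A] (Fin (b + 1) → M) := LinearMap.single A (fun _ : Fin (b + 1) => M) 0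
    let sg : (Fin (b + 1) → M) →ₗ[A] (Fin b → M) := LinearMap.funLeft A M Fin.succ
    have hinj : Function.Injective sf := fun x y h => Pi.single_injective (0 : Fin (b + 1)) h
    have hsurj : Function.Surjective sg := fun z =>
      ⟨Fin.cons 0 z, funext fun j => (Fin.cons_succ (α := fun _ => M) 0 z j)⟩
    have hzero : ∀ x, sg (sf x) = 0 := fun x => funext fun j =>
      Pi.single_eq_of_ne (M := fun _ : Fin (b + 1) => M) (Fin.succ_ne_zero j) x
    have hex : ∀ z, sg z = 0 → ∃ x, sf x = z := fun z hz => ⟨z 0, funext fun j => by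
      refine Fin.cases ?_ (fun j => ?_) j
      · exact Pi.single_eq_same (M := fun _ : Fin (b + 1) => M) 0 (z 0)
      · exact (Pi.single_eq_of_ne (M := fun _ : Fin (b + 1) => M) (Fin.succ_ne_zero j) (z 0)).trans
          (congrFun hz j).symm⟩
    let S : ShortComplex (ModuleCat.{u} (CommRingCat.of A)) :=
      ShortComplex.mk (ModuleCat.ofHom (R := CommRingCat.of A) sf)
        (ModuleCat.ofHom (R := CommRingCat.of A) sg) (ModuleCat.hom_ext (LinearMap.ext hzero))
    have hS : S.ShortExact :=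
      { exact := (ShortComplex.moduleCat_exact_iff S).2 hex
        mono_f := (ModuleCat.mono_iff_injective _).2 hinj
        epi_g := (ModuleCat.epi_iff_surjective _).2 hsurj }
    have hT := Punctured.puncFun_shortExact I S hS
    exact finite_map_mid (puncFun I) S hT p h ih

/-- A retract has finite sections, and finite `H¹` if its cokernel does. -/
theorem finite_hh_ses {N : Type u} [AddCommGroup N] [Module A N] {b : ℕ} (φ : N →ₗ[A] (Fin b → B)) (k : ℕ)
    (h : ∀ s ∈ I ^ k, Retr B φ s)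
    (h0 : Module.Finite A (Coh.HH (LocCoh.puncturedOpen A I : Scheme.{u})
      ((puncFun I).obj (ModuleCat.of (CommRingCat.of A) B)) 0))
    (h1 : Module.Finite A (Coh.HH (LocCoh.puncturedOpen A I : Scheme.{u})
      ((puncFun I).obj (ModuleCat.of (CommRingCat.of A) B)) 1)) :
    Module.Finite A (Coh.HH (LocCoh.puncturedOpen A I : Scheme.{u})
        ((puncFun I).obj (ModuleCat.of (CommRingCat.of A) N)) 0) ∧
      (Module.Finite A (Coh.HH (LocCoh.puncturedOpen A I : Scheme.{u})
          ((puncFun I).obj (ModuleCat.of (CommRingCat.of A) ((Fin b → B) ⧸ LinearMap.range φ))) 0) →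
        Module.Finite A (Coh.HH (LocCoh.puncturedOpen A I : Scheme.{u})
          ((puncFun I).obj (ModuleCat.of (CommRingCat.of A) N)) 1)) := by
  obtain ⟨e⟩ := nonempty_puncFun_iso_of_surjective I φ.rangeRestrict φ.surjective_rangeRestrict k
    fun n hn s hs => retr_smul_eq_zero B (h s hs) (congrArg Subtype.val hn)
  let S : ShortComplex (ModuleCat.{u} (CommRingCat.of A)) :=
    ShortComplex.mk (ModuleCat.ofHom (R := CommRingCat.of A) (LinearMap.range φ).subtype)
      (ModuleCat.ofHom (R := CommRingCat.of A) (LinearMap.range φ).mkQ)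
      (ModuleCat.hom_ext (LinearMap.ext fun z => (Submodule.Quotient.mk_eq_zero _).2 z.2))
  have hS : S.ShortExact :=
    { exact := (ShortComplex.moduleCat_exact_iff S).2 fun z hz =>
        ⟨⟨z, (Submodule.Quotient.mk_eq_zero _).1 hz⟩, rfl⟩
      mono_f := (ModuleCat.mono_iff_injective _).2 (LinearMap.range φ).injective_subtype
      epi_g := (ModuleCat.epi_iff_surjective _).2 (LinearMap.range φ).mkQ_surjective }
  exact finite_map_left (puncFun I) S (Punctured.puncFun_shortExact I S hS) e (finite_hh_pi I B b 0 h0) (finite_hh_pi I B b 1 h1)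

/-- A module that is locally a retract of a free one has finite `H⁰` and `H¹`. -/
theorem finite_hh_of_retr {N : Type u} [AddCommGroup N] [Module A N] {b : ℕ} (φ : N →ₗ[A] (Fin b → B)) (k : ℕ)
    (h : ∀ s ∈ I ^ k, Retr B φ s)
    (h0 : Module.Finite A (Coh.HH (LocCoh.puncturedOpen A I : Scheme.{u})
      ((puncFun I).obj (ModuleCat.of (CommRingCat.of A) B)) 0))
    (h1 : Module.Finite A (Coh.HH (LocCoh.puncturedOpen A I : Scheme.{u})
      ((puncFun I).obj (ModuleCat.of (CommRingCat.of A) B)) 1)) :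
    Module.Finite A (Coh.HH (LocCoh.puncturedOpen A I : Scheme.{u})
        ((puncFun I).obj (ModuleCat.of (CommRingCat.of A) N)) 0) ∧
      Module.Finite A (Coh.HH (LocCoh.puncturedOpen A I : Scheme.{u})
        ((puncFun I).obj (ModuleCat.of (CommRingCat.of A) N)) 1) := by
  obtain ⟨c, ψ, hψ⟩ := exists_retr_coker B φ (I ^ k) h
  exact ⟨(finite_hh_ses B I φ k h h0 h1).1,
    (finite_hh_ses B I φ k h h0 h1).2 (finite_hh_ses B I ψ k hψ h0 h1).1⟩

/-- An ideal meeting the complement of every prime off `V(I)` contains a power of `I`. -/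
theorem exists_pow_le_of_forall (S : Ideal A)
    (h : ∀ x : (LocCoh.puncturedOpen A I : Scheme.{u}), ∃ s ∈ x.1.asIdeal.primeCompl, s ∈ S) :
    ∃ k : ℕ, I ^ k ≤ S := by
  refine Ideal.exists_pow_le_of_le_radical_of_fg ?_ (IsNoetherian.noetherian I)
  rw [Ideal.radical_eq_sInf]
  refine le_sInf fun q hq => ?_
  by_contra hI
  obtain ⟨s, hs, hsS⟩ := h ⟨⟨q, hq.2⟩, fun hc => hI hc⟩
  exact hs (hq.1 hsS)

/-- Finiteness for a coherent module free over `A / J` locally. -/
theorem finite_hh_of_stalkFree (J : Ideal A) (P : (LocCoh.puncturedOpen A I : Scheme.{u}).Modules) (hP : Coh.IsCoh P)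
    (hPJ : ∀ a ∈ J, Formal.smulMod A P a = 0) (hfree : StalkFree J 1 P)
    (h₁ : Module.Finite A (LocCoh.H I 1 (A ⧸ J)))
    (h₂ : Module.Finite A (LocCoh.H I 2 (A ⧸ J))) :
    Module.Finite A (Coh.HH (LocCoh.puncturedOpen A I : Scheme.{u}) P 0) ∧
      Module.Finite A (Coh.HH (LocCoh.puncturedOpen A I : Scheme.{u}) P 1) := by
  classical
  obtain ⟨N₀, hN₀, ⟨e₀⟩⟩ := Punctured.exists_finite_puncFun_iso I P hP
  haveI : Module.Finite A N₀ := hN₀
  haveI : Module.Finite (CommRingCat.of A) N₀ := hN₀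
  have hkill0 : ∀ a ∈ J, Formal.smulMod A ((puncFun I).obj N₀) a = 0 := fun a ha => by
    rw [← cancel_mono e₀.hom, FormalSys.smulMod_naturality, hPJ a ha, comp_zero, zero_comp]
  let Q : Submodule A N₀ := J • ⊤
  obtain ⟨G, hG⟩ : Q.FG := IsNoetherian.noetherian _
  obtain ⟨k, hk⟩ := exists_pow_le_of_forall I (Submodule.annihilator Q) fun x => by
      obtain ⟨θ, hθs, -, hθker⟩ := exists_stalk_map I N₀ x
      have hz' : ∀ g ∈ G, ∃ s ∈ x.1.asIdeal.primeCompl, s • g = 0 := fun g hg => by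
        refine hθker g ?_
        have hgQ : g ∈ Q := hG ▸ Submodule.subset_span hg
        refine Submodule.smul_induction_on hgQ (fun a ha n _ => ?_) fun a b ha hb => by rw [map_add, ha, hb, add_zero]
        rw [hθs, ← FormalFun.stalkLin_smulMod, hkill0 a ha, FormalFun.stalkLin_zero]
      choose! t ht htg using hz'
      refine ⟨∏ g ∈ G, t g, Submonoid.prod_mem _ ht, ?_⟩
      rw [Submodule.mem_annihilator, ← hG]
      intro y hy
      induction hy using Submodule.span_induction with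
      | mem g hg =>
        rw [show (∏ j ∈ G, t j) = (∏ j ∈ G.erase g, t j) * t g from (Finset.prod_erase_mul _ t hg).symm,
          mul_smul, htg g hg, smul_zero]
      | zero => exact smul_zero _
      | add a b _ _ ha hb => rw [smul_add, ha, hb, add_zero]
      | smul a y _ hy => rw [smul_comm, hy, smul_zero]
  obtain ⟨e₁⟩ := nonempty_puncFun_iso_of_surjective I Q.mkQ Q.mkQ_surjective k
    fun n hn r hr => Submodule.mem_annihilator.1 (hk hr) n ((Submodule.Quotient.mk_eq_zero _).1 hn)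
  let e : (puncFun I).obj (ModuleCat.of (CommRingCat.of A) (N₀ ⧸ Q)) ≅ P := e₁.symm ≪≫ e₀
  have hNf : ∀ a ∈ J, ∀ n : N₀ ⧸ Q, a • n = 0 := fun a ha n => by
    obtain ⟨n, rfl⟩ := Q.mkQ_surjective n
    rw [← map_smul]
    exact (Submodule.Quotient.mk_eq_zero _).2 (Submodule.smul_mem_smul ha trivial)
  let T : Set A := {s | ∃ (b : ℕ) (φ : (N₀ ⧸ Q) →ₗ[A] (Fin b → A ⧸ J)), Retr _ φ s}
  obtain ⟨j, hj⟩ := exists_pow_le_of_forall I (Ideal.span T) fun x => by
    obtain ⟨r, ⟨L⟩⟩ := hfree x
    obtain ⟨s, hs, m, φ, ρ, hρ⟩ := exists_retract_at' I J (ModuleCat.of (CommRingCat.of A) (N₀ ⧸ Q)) hNf x r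
      ((AssPts.stalkEquiv e x).trans L)
    exact ⟨s, hs, Ideal.subset_span ⟨m, φ, ρ, hρ⟩⟩
  obtain ⟨F, hFT, hF⟩ := (Submodule.fg_span_iff_fg_span_finset_subset T).1 (IsNoetherian.noetherian (Ideal.span T))
  obtain ⟨b, φ, hφ⟩ := exists_retr_span (A := A) (A ⧸ J)
    (fun i : (F : Set A) => (i : A)) (ι := (F : Set A)) (fun i => hFT i.2)
  have hφ' : ∀ s ∈ I ^ j, Retr (A ⧸ J) φ s := fun s hs => hφ s (by
    rw [Subtype.range_coe]
    show s ∈ Submodule.span A (F : Set A)
    rw [← hF]
    exact hj hs)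
  have hb0 := finite_H0 I (A ⧸ J) h₁
  obtain ⟨q⟩ := Punctured.nonempty_HH_equiv_of_iso I _
    (ModuleCat.of (CommRingCat.of A) (A ⧸ J)) (Iso.refl _) 0
  haveI := h₂
  have hb1 : Module.Finite A (Coh.HH (LocCoh.puncturedOpen A I : Scheme.{u})
      ((puncFun I).obj (ModuleCat.of (CommRingCat.of A) (A ⧸ J))) 1) :=
    Module.Finite.equiv q.symm
  obtain ⟨g0, g1⟩ := finite_hh_of_retr (A ⧸ J) I φ j hφ' hb0 hb1
  exact ⟨Module.Finite.equiv (Punctured.hhEquiv (A := A) e 0), Module.Finite.equiv (Punctured.hhEquiv (A := A) e 1)⟩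

/-- Finiteness for a coherent module free over `A / J` on opens. -/
theorem finite_hh_of_locFree (J : Ideal A) (P : (LocCoh.puncturedOpen A I : Scheme.{u}).Modules) (hP : Coh.IsCoh P)
    (hPJ : ∀ a ∈ J, Formal.smulMod A P a = 0) (hfree : Formal2.IsFinLocFreeMod J 1 P)
    (h₁ : Module.Finite A (LocCoh.H I 1 (A ⧸ J)))
    (h₂ : Module.Finite A (LocCoh.H I 2 (A ⧸ J))) :
    Module.Finite A (Coh.HH (LocCoh.puncturedOpen A I : Scheme.{u}) P 0) ∧
      Module.Finite A (Coh.HH (LocCoh.puncturedOpen A I : Scheme.{u}) P 1) :=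
  finite_hh_of_stalkFree I J P hP hPJ (stalkFree_of_isFinLocFreeMod hfree) h₁ h₂

end GrothLib.GenT7
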