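import Groth.Agent.Lib.GenT7.GenModel
import Groth.Agent.Lib.GenT7.LocFreeFinite
import Mathlib.RingTheory.Flat.EquationalCriterion

/-!
# Normally flat ideals give the cohomology of the graded pieces of locally free formal systems
-/

set_option autoImplicit false
set_option linter.style.haveILetI false
set_option linter.unusedSectionVars false

universe u

open CategoryTheory CategoryTheory.Limits AlgebraicGeometry Opposite

noncomputable section

namespace GrothLib.GenT7.Gen

open GrothLib.FormalSys GrothLib.Cohom GrothLib.FormalFun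
open GrothLib.QCoh (stalkLin)

variable {A : Type u} [CommRing A]

/-- Coefficient functions for a power of an ideal with flat graded piece. -/
theorem exists_coeff [IsNoetherianRing A] (J : Ideal A) (q : ℕ)
    (h : Module.Flat (A ⧸ J) (↥(J ^ q) ⧸ (J • (⊤ : Submodule A ↥(J ^ q))))) :
    ∃ (N : ℕ) (a : Fin N → A) (ha : ∀ i, a i ∈ J ^ q) (S : Fin N → (↥(J ^ q) →ₗ[A] A ⧸ J)) (r : Fin N → Fin N → A),
      Ideal.span (Set.range a) = J ^ q ∧ (∀ i k, Ideal.Quotient.mk J (r i k) = S i ⟨a k, ha k⟩) ∧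
        (∀ k, (∑ i, r i k * a i) - a k ∈ J * J ^ q) := by
  classical
  obtain ⟨N, a, ha⟩ := Submodule.fg_iff_exists_fin_generating_family.1 (IsNoetherian.noetherian (J ^ q))
  have haq : ∀ i, a i ∈ J ^ q := fun i => ha ▸ Submodule.subset_span (Set.mem_range_self i)
  let M := ↥(J ^ q) ⧸ (J • (⊤ : Submodule A ↥(J ^ q)))
  haveI : Module.Finite A M := inferInstance
  haveI : Module.Finite (A ⧸ J) M := Module.Finite.of_restrictScalars_finite A (A ⧸ J) M
  haveI : Module.FinitePresentation (A ⧸ J) M := Module.finitePresentation_of_finite _ _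
  haveI : Module.Flat (A ⧸ J) M := h
  haveI : Module.Projective (A ⧸ J) M := Module.Flat.projective_of_finitePresentation
  let g : Fin N → M := fun i => Submodule.Quotient.mk ⟨a i, haq i⟩
  let π : (Fin N → A ⧸ J) →ₗ[A ⧸ J] M := Fintype.linearCombination (A ⧸ J) g
  have hπ : Function.Surjective π := fun z => by
    obtain ⟨⟨b, hb⟩, rfl⟩ := Submodule.Quotient.mk_surjective _ z
    have hb' : b ∈ Submodule.span A (Set.range a) := ha.symm ▸ hb
    obtain ⟨c, hc⟩ := (Submodule.mem_span_range_iff_exists_fun A).1 hb'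
    refine ⟨fun i => Ideal.Quotient.mk J (c i), ?_⟩
    rw [Fintype.linearCombination_apply]
    have : (⟨b, hb⟩ : ↥(J ^ q)) = ∑ i, c i • (⟨a i, haq i⟩ : ↥(J ^ q)) :=
      Subtype.ext (by rw [AddSubmonoidClass.coe_finset_sum]; exact hc.symm)
    rw [this, ← Submodule.mkQ_apply, map_sum]
    exact Finset.sum_congr rfl fun i _ => rfl
  obtain ⟨σ, hσ⟩ := Module.projective_lifting_property π LinearMap.id hπ
  let S : Fin N → (↥(J ^ q) →ₗ[A] A ⧸ J) := fun i =>
    ((LinearMap.proj i).comp (σ.restrictScalars A)).comp (J • (⊤ : Submodule A ↥(J ^ q))).mkQ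
  choose r hr using fun i k => Ideal.Quotient.mk_surjective (S i ⟨a k, haq k⟩)
  refine ⟨N, a, haq, S, r, ha, hr, fun k => ?_⟩
  have h1 : π (fun i => Ideal.Quotient.mk J (r i k)) = Submodule.Quotient.mk ⟨a k, haq k⟩ := by
    rw [show (fun i => Ideal.Quotient.mk J (r i k)) = σ (Submodule.Quotient.mk ⟨a k, haq k⟩) from
      funext fun i => (hr i k).trans rfl]
    exact LinearMap.congr_fun hσ _
  rw [Fintype.linearCombination_apply] at h1
  have h2 : (∑ i, r i k • (⟨a i, haq i⟩ : ↥(J ^ q))) - ⟨a k, haq k⟩ ∈ J • (⊤ : Submodule A ↥(J ^ q)) := by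
    rw [← Submodule.Quotient.eq, ← h1, ← Submodule.mkQ_apply, map_sum]
    exact Finset.sum_congr rfl fun i _ => rfl
  have h3 := Submodule.mem_map_of_mem (f := (J ^ q).subtype) h2
  rw [Submodule.map_smul'', Submodule.map_top, Submodule.range_subtype] at h3
  simpa using h3

theorem coeff_mul_eq_zero (J : Ideal A) (q : ℕ) (S : ↥(J ^ q) →ₗ[A] A ⧸ J) {z : A} (hz : z ∈ J * J ^ q)
    (hz' : z ∈ J ^ q) : S ⟨z, hz'⟩ = 0 := by
  have key : ∀ w ∈ J * J ^ q, ∀ hw : w ∈ J ^ q, S ⟨w, hw⟩ = 0 := by
    intro w hw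
    intro hw'
    have h : ∀ w ∈ J * J ^ q, ∃ hw : w ∈ J ^ q, S ⟨w, hw⟩ = 0 := fun w hw => by
      refine Submodule.mul_induction_on hw (fun g hg b hb => ?_) ?_
      · refine ⟨Ideal.mul_mem_left _ g hb, ?_⟩
        rw [show (⟨g * b, Ideal.mul_mem_left _ g hb⟩ : ↥(J ^ q)) = g • ⟨b, hb⟩ from rfl, map_smul]
        obtain ⟨v, hv⟩ := Ideal.Quotient.mk_surjective (S ⟨b, hb⟩)
        rw [← hv, Algebra.smul_def]
        exact Ideal.Quotient.eq_zero_iff_mem.2 (J.mul_mem_right _ hg)
      · rintro u v ⟨hu, hu0⟩ ⟨hv, hv0⟩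
        refine ⟨add_mem hu hv, ?_⟩
        rw [show (⟨u + v, add_mem hu hv⟩ : ↥(J ^ q)) = ⟨u, hu⟩ + ⟨v, hv⟩ from rfl, map_add, hu0, hv0, add_zero]
    exact (h w hw).2
  exact key z hz hz'

variable {X : Scheme.{u}} [X.Over (Spec (CommRingCat.of A))] {J : Ideal A}
variable (G : ℕᵒᵖ ⥤ X.Modules) (hG : Formal.IsCohFormal J G)

theorem sum_μ {N : ℕ} (n : ℕ) (r : Fin N → A) (a : Fin N → A) (ha : ∀ i, a i ∈ J ^ (n + 1)) (s : Finset (Fin N))
    (hs : (∑ i ∈ s, r i * a i) ∈ J ^ (n + 1)) :
    ∑ i ∈ s, Formal.smulMod A (gob G 0) (r i) ≫ μ G hG n (ha i) = μ G hG n hs := by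
  classical
  induction s using Finset.induction with
  | empty =>
    simp only [Finset.sum_empty]
    have h := μ_smul G hG n 0 (Ideal.zero_mem (J ^ (n + 1)))
    rw [smulMod_zero, zero_comp] at h
    simp only [zero_mul] at h
    exact h.symm
  | insert i s his ih =>
    have hs' : (∑ i ∈ s, r i * a i) ∈ J ^ (n + 1) := sum_mem fun i _ => Ideal.mul_mem_left _ _ (ha i)
    simp only [Finset.sum_insert his]
    rw [ih hs', ← μ_smul G hG n (r i) (ha i), ← μ_add]

/-- Local structure of the top level used for the splitting. -/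
theorem exists_split [IsNoetherianRing A] (U : (Spec (CommRingCat.of A)).Opens)
    (G : ℕᵒᵖ ⥤ (U : Scheme.{u}).Modules) (hG : Formal.IsCohFormal J G) (n : ℕ)
    (hfree : StalkFree J (n + 1 + 1) (gob G (n + 1)))
    (hflat : Module.Flat (A ⧸ J) (↥(J ^ (n + 1)) ⧸ (J • (⊤ : Submodule A ↥(J ^ (n + 1)))))) :
    ∃ (N : ℕ) (a : Fin N → A) (ha : ∀ i, a i ∈ J ^ (n + 1)) (σ : Fin N → (K G n ⟶ gob G 0)),
      ∑ i, σ i ≫ μ G hG n (ha i) = 𝟙 _ := by
  classical
  obtain ⟨N, a, ha, S, r, hspan, hr, hsum⟩ := exists_coeff J (n + 1) hflat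
  refine ⟨N, a, ha, ?_⟩
  let Φ : (⨁ fun _ : Fin N => gob G 0) ⟶ K G n := biproduct.desc fun k => μ G hG n (ha k)
  haveI := epi_dn G hG (Nat.zero_le (n + 1))
  have hμι : ∀ (x : (U : Scheme.{u})) k (w : (gob G (n + 1)).presheaf.stalk x),
      stalkLin (kernel.ι (gdn G (Nat.le_succ n))) x (stalkLin (μ G hG n (ha k)) x
        (stalkLin (gdn G (Nat.zero_le (n + 1))) x w)) = toStalk A x (a k) • w := fun x k w => by
    rw [← QCoh.stalkLin_comp, μ_ι, ← QCoh.stalkLin_comp, dn_up, stalkLin_smulMod]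
  haveI hΦ : Epi Φ := by
    refine (OX.epi_iff Φ).2 fun x => (ModuleCat.epi_iff_surjective _).2 fun v => ?_
    let T := LinearMap.range (stalkLin (Φ ≫ kernel.ι (gdn G (Nat.le_succ n))) x)
    have hv : stalkLin (kernel.ι (gdn G (Nat.le_succ n))) x v ∈ (J ^ (n + 1)).map (toStalk A x) •
        (⊤ : Submodule ((U : Scheme.{u}).presheaf.stalk x) ((gob G (n + 1)).presheaf.stalk x)) := by
      rw [← ker_stalkLin_of_isQuot (isQuot_map hG (Nat.le_succ n)) x, LinearMap.mem_ker, ← QCoh.stalkLin_comp,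
        kernel.condition, stalkLin_zero]
    have hle : (J ^ (n + 1)).map (toStalk A x) •
        (⊤ : Submodule ((U : Scheme.{u}).presheaf.stalk x) ((gob G (n + 1)).presheaf.stalk x)) ≤ T := by
      rw [← hspan, Ideal.map_span]
      refine Submodule.smul_le.2 fun c hc w _ => ?_
      refine Submodule.span_induction (p := fun c _ => c • w ∈ T) ?_ ?_ ?_ ?_ hc
      · rintro _ ⟨_, ⟨k, rfl⟩, rfl⟩
        refine ⟨stalkLin (biproduct.ι (fun _ : Fin N => gob G 0) k) x
          (stalkLin (gdn G (Nat.zero_le (n + 1))) x w), ?_⟩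
        rw [← QCoh.stalkLin_comp, biproduct.ι_desc_assoc, QCoh.stalkLin_comp, hμι]
      · show (0 : (U : Scheme.{u}).presheaf.stalk x) • w ∈ T
        rw [zero_smul]; exact T.zero_mem
      · intro c d _ _ hc hd; rw [add_smul]; exact T.add_mem hc hd
      · intro c d _ hd; rw [smul_eq_mul, mul_smul]; exact T.smul_mem c hd
    obtain ⟨y, hy⟩ := hle hv
    exact ⟨y, QCoh.stalkLin_injective (kernel.ι (gdn G (Nat.le_succ n))) x
      ((QCoh.stalkLin_comp Φ _ x y).symm.trans hy)⟩
  have hkill : ∀ i, kernel.ι Φ ≫ biproduct.desc (fun k => Formal.smulMod A (gob G 0) (r i k)) = 0 := fun i => by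
    refine FormalFun.hom_ext_stalkLin fun x v => ?_
    rw [QCoh.stalkLin_comp, stalkLin_zero]
    let w := stalkLin (kernel.ι Φ) x v
    have hw : stalkLin Φ x w = 0 := by
      rw [← QCoh.stalkLin_comp, kernel.condition, stalkLin_zero]
    rw [show Φ = biproduct.desc fun k => μ G hG n (ha k) from rfl, biproduct.desc_eq, stalkLin_sum] at hw
    show stalkLin (biproduct.desc fun k => Formal.smulMod A (gob G 0) (r i k)) x w = 0
    rw [biproduct.desc_eq, stalkLin_sum]
    simp only [QCoh.stalkLin_comp, stalkLin_smulMod] at hw ⊢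
    choose z hz using fun k => QCoh.stalkLin_surjective (gdn G (Nat.zero_le (n + 1))) x
      (stalkLin (biproduct.π (fun _ : Fin N => gob G 0) k) x w)
    simp only [← hz] at hw ⊢
    have hw' : ∑ k, toStalk A x (a k) • z k = 0 := by
      have := congrArg (stalkLin (kernel.ι (gdn G (Nat.le_succ n))) x) hw
      rw [map_sum, map_zero] at this
      simpa only [hμι] using this
    simp only [← map_smul]
    rw [← map_sum, ← LinearMap.mem_ker, ker_stalkLin_of_isQuot (isQuot_map hG (Nat.zero_le (n + 1))) x, pow_one]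
    obtain ⟨m, ⟨L⟩⟩ := hfree x
    let π := Formal.modPowπ J (n + 1 + 1) (FlatMod.freeMod (U : Scheme.{u}) m)
    haveI : Epi π := inferInstanceAs (Epi (cokernel.π _))
    choose y hy using fun k => QCoh.stalkLin_surjective π x (L (z k))
    obtain ⟨D, l, e', hxD, he'⟩ := FinCov.exists_frame_nhd (OX.isFinLocFree_freeMod _ m) x
    obtain ⟨bas⟩ := Euler.stalk_basis_of_frame he' hxD
    have h1 : (∑ k, toStalk A x (a k) • y k) ∈ LinearMap.ker (stalkLin π x) := by
      rw [LinearMap.mem_ker, map_sum]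
      simp only [map_smul, hy]
      simp only [← map_smul]
      rw [← map_sum, hw', map_zero]
    rw [ker_stalkLin_of_isQuot (isQuot_modPowπ J _ _) x] at h1
    have h2 : (∑ k, toStalk A x (r i k) • y k) ∈ J.map (toStalk A x) •
        (⊤ : Submodule ((U : Scheme.{u}).presheaf.stalk x) ((FlatMod.freeMod (U : Scheme.{u}) m).presheaf.stalk x)) := by
      rw [← bas.sum_repr (∑ k, toStalk A x (r i k) • y k)]
      refine sum_mem fun j _ => Submodule.smul_mem_smul ?_ trivial
      have h3 := repr_mem bas _ h1 j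
      simp only [map_sum, map_smul, Finsupp.coe_finsetSum, Finset.sum_apply, Finsupp.smul_apply, smul_eq_mul] at h3 ⊢
      choose s hs b hb using fun k => exists_toStalk_mul U x (bas.repr (y k) j)
      let P := ∏ k, s k
      let b' : Fin N → A := fun k => (∏ k' ∈ Finset.univ.erase k, s k') * b k
      have hb' : ∀ k, toStalk A x (b' k) = toStalk A x P * bas.repr (y k) j := fun k => by
        rw [map_mul, ← hb k, ← mul_assoc, ← map_mul, Finset.prod_erase_mul _ s (Finset.mem_univ k)]
      have h4 : toStalk A x (∑ k, a k * b' k) ∈ (J ^ (n + 1 + 1)).map (toStalk A x) := by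
        rw [map_sum]
        simp only [map_mul (toStalk A x) (a _), hb']
        have := Ideal.mul_mem_left _ (toStalk A x P) h3
        rw [Finset.mul_sum] at this
        convert this using 2 with k
        ring
      obtain ⟨t, ht, htz⟩ := exists_mul_mem_of_toStalk U x _ h4
      rw [pow_succ'] at htz
      have hmem : t * ∑ k, a k * b' k ∈ J ^ (n + 1) :=
        Ideal.mul_mem_left _ t (sum_mem fun k _ => Ideal.mul_mem_right _ _ (ha k))
      have h5 := coeff_mul_eq_zero J (n + 1) (S i) htz hmem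
      rw [show (⟨t * ∑ k, a k * b' k, hmem⟩ : ↥(J ^ (n + 1))) = ∑ k, (t * b' k) • ⟨a k, ha k⟩ from
        Subtype.ext (by
          simp only [AddSubmonoidClass.coe_finset_sum, SetLike.val_smul, smul_eq_mul, Finset.mul_sum]
          exact Finset.sum_congr rfl fun k _ => by ring), map_sum] at h5
      simp only [map_smul, ← hr, Algebra.smul_def, Ideal.Quotient.algebraMap_eq, ← map_mul, ← map_sum] at h5
      have h6 := Ideal.mem_map_of_mem (toStalk A x) (Ideal.Quotient.eq_zero_iff_mem.1 h5)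
      rw [map_sum] at h6
      simp only [map_mul, hb'] at h6
      have hu : IsUnit (toStalk A x t * toStalk A x P) :=
        (isUnit_toStalk U x ht).mul (isUnit_toStalk U x (Submonoid.prod_mem _ fun k _ => hs k))
      refine (Ideal.unit_mul_mem_iff_mem _ hu).1 ?_
      rw [Finset.mul_sum]
      convert h6 using 2 with k
      ring
    have h7 : (∑ k, toStalk A x (r i k) • z k) =
        L.symm (stalkLin π x (∑ k, toStalk A x (r i k) • y k)) := by
      simp only [map_sum, map_smul, hy, LinearEquiv.symm_apply_apply]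
    rw [h7]
    have h8 := Submodule.mem_map_of_mem (f := L.symm.toLinearMap.comp (stalkLin π x)) h2
    rw [Submodule.map_smul''] at h8
    exact SetLike.le_def.1 (smul_mono_right _ le_top) h8
  refine ⟨fun i => (Abelian.epiIsCokernelOfKernel _ (kernelIsKernel Φ)).desc
    (CokernelCofork.ofπ _ (hkill i)), ?_⟩
  have hfac : ∀ i, Φ ≫ (Abelian.epiIsCokernelOfKernel _ (kernelIsKernel Φ)).desc (CokernelCofork.ofπ _ (hkill i)) =
      biproduct.desc fun k => Formal.smulMod A (gob G 0) (r i k) := fun i =>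
    (Abelian.epiIsCokernelOfKernel _ (kernelIsKernel Φ)).fac _ WalkingParallelPair.one
  rw [← cancel_epi Φ, Preadditive.comp_sum, Category.comp_id]
  simp only [← Category.assoc, hfac]
  refine biproduct.hom_ext' _ _ fun k => ?_
  rw [Preadditive.comp_sum, biproduct.ι_desc]
  simp only [biproduct.ι_desc_assoc]
  rw [sum_μ G hG n (fun i => r i k) a ha Finset.univ (sum_mem fun i _ => Ideal.mul_mem_left _ _ (ha i))]
  refine μ_congr G hG n _ (ha k) ?_
  rw [pow_succ']
  exact hsum k

/-- A splitting makes the classes with coefficients exhaust the cohomology of the kernels. -/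
theorem clsSurj_of_split {p b : ℕ} (c : Fin b → Coh.HH X (gob G 0) p)
    (hc : Submodule.span A (Set.range c) = ⊤)
    (h : ∀ n, ∃ (N : ℕ) (a : Fin N → A) (ha : ∀ i, a i ∈ J ^ (n + 1)) (σ : Fin N → (K G n ⟶ gob G 0)),
      ∑ i, σ i ≫ μ G hG n (ha i) = 𝟙 _) : ClsSurj G hG c := by
  classical
  intro n y
  obtain ⟨N, a, ha, σ, hσ⟩ := h n
  let Y : Submodule A (Coh.HH X (K G n) p) :=
    { carrier := {y | ∃ (f : Fin b → A) (hf : ∀ j, f j ∈ J ^ (n + 1)), cls G hG c n f hf = y}
      zero_mem' := ⟨(0 : A) • 0, fun j => Ideal.mul_mem_left _ _ (zero_mem _), by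
        rw [cls_smul G hG c n 0 0 (fun _ => zero_mem _), zero_smul]⟩
      add_mem' := by
        rintro _ _ ⟨f, hf, rfl⟩ ⟨g, hg, rfl⟩
        exact ⟨f + g, fun j => add_mem (hf j) (hg j), cls_add G hG c n f g hf hg⟩
      smul_mem' := by
        rintro s _ ⟨f, hf, rfl⟩
        exact ⟨s • f, fun j => Ideal.mul_mem_left _ s (hf j), cls_smul G hG c n s f hf⟩ }
  have hμ : ∀ i w, hhMap A (μ G hG n (ha i)) p w ∈ Y := fun i w => by
    have hw : w ∈ Submodule.span A (Set.range c) := hc ▸ trivial
    induction hw using Submodule.span_induction with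
    | mem w hw =>
      obtain ⟨j, rfl⟩ := hw
      refine ⟨Pi.single j (a i), fun j' => ?_, ?_⟩
      · by_cases h : j' = j
        · subst h; rw [Pi.single_eq_same]; exact ha i
        · rw [Pi.single_eq_of_ne h]; exact zero_mem _
      · rw [cls, Finset.sum_eq_single j]
        · congr 3
          exact Pi.single_eq_same (M := fun _ : Fin b => A) j (a i)
        · intro j' _ hj'
          have h0 : (Pi.single j (a i) : Fin b → A) j' = 0 := Pi.single_eq_of_ne hj' _
          have hz := μ_smul G hG n 0 (ha i)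
          rw [smulMod_zero, zero_comp] at hz
          simp only [zero_mul] at hz
          simp only [h0, hz, hhMap_zero]
        · intro h; exact absurd (Finset.mem_univ j) h
    | zero => rw [map_zero]; exact Y.zero_mem
    | add u v _ _ hu hv => rw [map_add]; exact Y.add_mem hu hv
    | smul s u _ hu => rw [map_smul]; exact Y.smul_mem s hu
  show y ∈ Y
  rw [← hhMap_id (A := A) p y, ← hσ]
  have hadd : ∀ (s : Finset (Fin N)), hhMap A (∑ i ∈ s, σ i ≫ μ G hG n (ha i)) p y ∈ Y := fun s => by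
    induction s using Finset.induction with
    | empty => rw [Finset.sum_empty, hhMap_zero]; exact Y.zero_mem
    | insert i s his ih =>
      rw [Finset.sum_insert his, hhMap_add', ← hhMap_comp]
      exact Y.add_mem (hμ i _) ih
  exact hadd Finset.univ

end GrothLib.GenT7.Gen
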