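import Groth.Agent.Lib.GenT7.LocFreeReg
import Groth.Agent.Lib.PuncSys7.Basic
import Groth.Agent.Lib.PunctSec7.Depth

/-!
# A finite module locally free over `A / (f)` on a punctured spectrum is locally a retract of a free one
-/

set_option autoImplicit false
set_option linter.style.haveILetI false
set_option linter.unusedSectionVars false
universe u

open CategoryTheory CategoryTheory.Limits AlgebraicGeometry Opposite TopologicalSpace

noncomputable section

namespace GrothLib.GenT7

open GrothLib.FormalSys GrothLib.FormalFun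
open GrothLib.QCoh (stalkLin)
open GrothLib.Punctured (puncFun)

/-- A map of finite modules bijective after inverting `S` has an inverse up to an element of `S`. -/
theorem exists_comp_eq_smul {A : Type u} [CommRing A] [IsNoetherianRing A] (S : Submonoid A)
    {P N : Type*} [AddCommGroup P] [Module A P] [AddCommGroup N] [Module A N] [Module.Finite A N] (ρ : P →ₗ[A] N)
    (hs : ∀ n, ∃ s ∈ S, ∃ p, ρ p = s • n) (hi : ∀ p, ρ p = 0 → ∃ s ∈ S, s • p = 0) :
    ∃ s ∈ S, ∃ φ : N →ₗ[A] P, ρ.comp φ = s • LinearMap.id := by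
  classical
  obtain ⟨k, π, hπ⟩ := Module.Finite.exists_fin' A N
  choose c hcS p hp using fun i : Fin k => hs (π (Pi.single i 1))
  let s₀ := ∏ i, c i
  let h : (Fin k → A) →ₗ[A] P :=
    (Pi.basisFun A (Fin k)).constr A fun i => (∏ j ∈ Finset.univ.erase i, c j) • p i
  have hρh : ρ.comp h = s₀ • π := (Pi.basisFun A (Fin k)).ext fun i => by
    rw [LinearMap.comp_apply, Module.Basis.constr_basis, map_smul, hp, LinearMap.smul_apply, Pi.basisFun_apply,
      smul_smul, Finset.prod_erase_mul _ c (Finset.mem_univ i)]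
  obtain ⟨G, hG⟩ := IsNoetherian.noetherian (LinearMap.ker π)
  have hz : ∀ g ∈ G, ∃ t ∈ S, t • h g = 0 := fun g hg => hi _ (by
    have h2 : π g = 0 := LinearMap.mem_ker.1 (hG ▸ Submodule.subset_span hg)
    rw [← LinearMap.comp_apply, hρh, LinearMap.smul_apply, h2, smul_zero])
  choose! t htS ht using hz
  let t₀ := ∏ g ∈ G, t g
  have hker : LinearMap.ker π ≤ LinearMap.ker (t₀ • h) := by
    rw [← hG, Submodule.span_le]
    intro g hg
    show t₀ • h g = 0
    rw [show t₀ = (∏ j ∈ G.erase g, t j) * t g from (Finset.prod_erase_mul _ t hg).symm, mul_smul, ht g hg,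
      smul_zero]
  let φ : N →ₗ[A] P :=
    ((LinearMap.ker π).liftQ (t₀ • h) hker).comp (π.quotKerEquivOfSurjective hπ).symm.toLinearMap
  refine ⟨t₀ * s₀, S.mul_mem (S.prod_mem htS) (S.prod_mem fun i _ => hcS i), φ, LinearMap.ext fun n => ?_⟩
  obtain ⟨x, rfl⟩ := hπ n
  have h1 : φ (π x) = t₀ • h x := by
    show (LinearMap.ker π).liftQ _ hker ((π.quotKerEquivOfSurjective hπ).symm (π x)) = _
    rw [show (π.quotKerEquivOfSurjective hπ).symm (π x) = Submodule.Quotient.mk x from
      (π.quotKerEquivOfSurjective hπ).injective (by simp)]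
    rfl
  rw [LinearMap.comp_apply, h1, map_smul, ← LinearMap.comp_apply ρ h, hρh, LinearMap.smul_apply,
    LinearMap.smul_apply, LinearMap.id_apply, smul_smul]

variable {A : Type u} [CommRing A] [IsNoetherianRing A]

/-- The stalks of an open of `Spec A`: fractions. -/
theorem exists_toStalk_mul (U : (Spec (CommRingCat.of A)).Opens) (x : (U : Scheme.{u}))
    (c : (U : Scheme.{u}).presheaf.stalk x) :
    ∃ s ∈ x.1.asIdeal.primeCompl, ∃ a, toStalk A x s * c = toStalk A x a := by
  obtain ⟨e, he⟩ := exists_stalk_equiv U x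
  obtain ⟨⟨a, s⟩, hs⟩ := IsLocalization.surj x.1.asIdeal.primeCompl (e c)
  exact ⟨s, s.2, a, e.injective (by rw [map_mul, he, he, mul_comm]; exact hs)⟩

theorem isUnit_toStalk (U : (Spec (CommRingCat.of A)).Opens) (x : (U : Scheme.{u}))
    {s : A} (hs : s ∈ x.1.asIdeal.primeCompl) : IsUnit (toStalk A x s) := by
  obtain ⟨e, he⟩ := exists_stalk_equiv U x
  rw [← MulEquiv.isUnit_map e.toMulEquiv]
  show IsUnit (e (toStalk A x s))
  rw [he]
  exact IsLocalization.map_units _ ⟨s, hs⟩

theorem exists_mul_eq_zero_of_toStalk (U : (Spec (CommRingCat.of A)).Opens) (x : (U : Scheme.{u}))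
    {a : A} (ha : toStalk A x a = 0) : ∃ s ∈ x.1.asIdeal.primeCompl, s * a = 0 := by
  obtain ⟨e, he⟩ := exists_stalk_equiv U x
  have h : algebraMap A (Localization.AtPrime x.1.asIdeal) a = 0 := by rw [← he, ha, map_zero]
  obtain ⟨⟨s, hs⟩, h2⟩ := (IsLocalization.map_eq_zero_iff x.1.asIdeal.primeCompl _ _).1 h
  exact ⟨s, hs, h2⟩

/-- The stalks of a tilde are localisations. -/
theorem tilde_stalk_facts {R : CommRingCat.{u}} (M : ModuleCat.{u} R) (x : PrimeSpectrum.Top R) :
    letI : Algebra R ((Spec R).presheaf.stalk x) := StructureSheaf.stalkAlgebra (R := R) x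
    ∃ τ : M →+ (tilde M).presheaf.stalk x,
      (∀ (a : R) (m : M), τ (a • m) = algebraMap R ((Spec R).presheaf.stalk x) a • τ m) ∧
      (∀ v, ∃ s ∈ x.asIdeal.primeCompl, ∃ m, algebraMap R ((Spec R).presheaf.stalk x) s • v = τ m) ∧
      (∀ m, τ m = 0 → ∃ s ∈ x.asIdeal.primeCompl, s • m = 0) := by
  letI : Algebra R ((Spec R).presheaf.stalk x) := StructureSheaf.stalkAlgebra (R := R) x
  haveI : IsScalarTower R ((Spec R).presheaf.stalk x) ((tilde M).presheaf.stalk x) :=
    .of_algebraMap_smul fun _ _ => rfl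
  haveI : IsLocalizedModule x.asIdeal.primeCompl (tilde.toStalk M x).hom := inferInstance
  refine ⟨(tilde.toStalk M x).hom.toAddMonoidHom,
    fun a m => ((tilde.toStalk M x).hom.map_smul a m).trans (algebraMap_smul _ a _).symm, fun v => ?_, fun m hm => ?_⟩
  · obtain ⟨⟨m, s⟩, hs⟩ := IsLocalizedModule.surj x.asIdeal.primeCompl (tilde.toStalk M x).hom v
    exact ⟨s, s.2, m, (algebraMap_smul _ (s : R) v).trans hs⟩
  · obtain ⟨⟨s, hs⟩, h2⟩ := (IsLocalizedModule.eq_zero_iff x.asIdeal.primeCompl (tilde.toStalk M x).hom).1 hm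
    exact ⟨s, hs, h2⟩

theorem exists_mul_mem_of_toStalk (U : (Spec (CommRingCat.of A)).Opens) (x : (U : Scheme.{u})) (J : Ideal A)
    {a : A} (ha : toStalk A x a ∈ J.map (toStalk A x)) : ∃ s ∈ x.1.asIdeal.primeCompl, s * a ∈ J := by
  obtain ⟨e, he⟩ := exists_stalk_equiv U x
  have h : algebraMap A (Localization.AtPrime x.1.asIdeal) a ∈
      J.map (algebraMap A (Localization.AtPrime x.1.asIdeal)) := by
    rw [← he, show algebraMap A (Localization.AtPrime x.1.asIdeal) = e.toRingHom.comp (toStalk A x) from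
      RingHom.ext fun a => (he a).symm, ← Ideal.map_map]
    exact Ideal.mem_map_of_mem e.toRingHom ha
  obtain ⟨⟨⟨b, hb⟩, ⟨s, hs⟩⟩, h2⟩ := (IsLocalization.mem_map_algebraMap_iff x.1.asIdeal.primeCompl _).1 h
  obtain ⟨⟨t, ht⟩, h3⟩ := (IsLocalization.eq_iff_exists x.1.asIdeal.primeCompl _).1
    ((map_mul (algebraMap A (Localization.AtPrime x.1.asIdeal)) a s).trans h2)
  refine ⟨t * s, Submonoid.mul_mem _ ht hs, ?_⟩
  have h4 : t * (a * s) = t * b := h3
  rw [show t * s * a = t * (a * s) by ring, h4]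
  exact J.mul_mem_left t hb

theorem repr_mem {R M : Type*} [CommRing R] [AddCommGroup M] [Module R M] {ι : Type*} (bas : Module.Basis ι R M)
    (K : Ideal R) {v : M} (hv : v ∈ K • (⊤ : Submodule R M)) (j : ι) : bas.repr v j ∈ K := by
  refine Submodule.smul_induction_on hv (fun r hr w _ => ?_) fun a b ha hb => ?_
  · rw [map_smul, Finsupp.smul_apply, smul_eq_mul]; exact K.mul_mem_right _ hr
  · rw [map_add, Finsupp.add_apply]; exact K.add_mem ha hb

variable (I : Ideal A)

/-- The stalks of a module on the punctured spectrum are localisations. -/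
theorem exists_stalk_map (N : ModuleCat.{u} (CommRingCat.of A)) (x : (LocCoh.puncturedOpen A I : Scheme.{u})) :
    ∃ θ : N →+ ((puncFun I).obj N).presheaf.stalk x,
      (∀ (a : A) (n : N), θ (a • n) = toStalk A x a • θ n) ∧
      (∀ v, ∃ s ∈ x.1.asIdeal.primeCompl, ∃ n, toStalk A x s • v = θ n) ∧
      (∀ n, θ n = 0 → ∃ s ∈ x.1.asIdeal.primeCompl, s • n = 0) := by
  let p : PrimeSpectrum.Top (CommRingCat.of A) := x.1
  let U := LocCoh.puncturedOpen A I
  letI : Algebra A ((Spec (CommRingCat.of A)).presheaf.stalk p) :=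
    StructureSheaf.stalkAlgebra (R := CommRingCat.of A) p
  have hψ : ∀ a, (U.stalkIso x).hom.hom (toStalk A x a) =
      algebraMap A ((Spec (CommRingCat.of A)).presheaf.stalk p) a := fun a => by
    have h : (U.ι.stalkMap x) (algebraMap A ((Spec (CommRingCat.of A)).presheaf.stalk p) a) = toStalk A x a := by
      show (U.ι.stalkMap x) ((Spec (CommRingCat.of A)).presheaf.germ ⊤ p trivial
        ((Scheme.ΓSpecIso (CommRingCat.of A)).inv a)) = _
      exact Scheme.Hom.germ_stalkMap_apply U.ι ⊤ x trivial _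
    rw [← h, ← Scheme.Opens.stalkIso_inv]
    exact Iso.inv_hom_id_apply (U.stalkIso x) _
  let φ := restrictφ U x (tilde N)
  have hφ := restrictφ_bijective U x (tilde N)
  let E := AddEquiv.ofBijective φ hφ
  obtain ⟨τ, hτs, hτsurj, hτker⟩ := tilde_stalk_facts N p
  have hsm : ∀ (a : A) (v : ((tilde N).restrict U.ι).presheaf.stalk x),
      φ (toStalk A x a • v) = algebraMap A ((Spec (CommRingCat.of A)).presheaf.stalk p) a •
        (show (tilde N).presheaf.stalk p from φ v) := fun a v => by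
    refine (restrictφ_smul U x (tilde N) _ v).trans ?_
    rw [hψ a]
    rfl
  refine ⟨E.symm.toAddMonoidHom.comp τ, fun a n => ?_, fun v => ?_, fun n hn => ?_⟩
  · show E.symm (τ (a • n)) = toStalk A x a • E.symm (τ n)
    apply E.injective
    rw [E.apply_symm_apply]
    exact (hτs a n).trans ((hsm a _).trans (congrArg (_ • ·) (E.apply_symm_apply _))).symm
  · obtain ⟨s, hs, n, hn⟩ := hτsurj (φ v)
    exact ⟨s, hs, n, E.injective (((hsm s v).trans hn).trans (E.apply_symm_apply _).symm)⟩
  · exact hτker n (E.symm.injective (hn.trans (map_zero _).symm))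

/-- Stalkwise a quotient of a finite free module by a power of an ideal of the base. -/
def StalkFree {X : Scheme.{u}} [X.Over (Spec (CommRingCat.of A))] (J : Ideal A) (n : ℕ) (P : X.Modules) : Prop :=
  ∀ x : X, ∃ r : ℕ, Nonempty (P.presheaf.stalk x ≃ₗ[X.presheaf.stalk x]
    (Formal.modPow J n (FlatMod.freeMod X r)).presheaf.stalk x)

theorem stalkFree_of_isFinLocFreeMod {X : Scheme.{u}} [X.Over (Spec (CommRingCat.of A))] {J : Ideal A} {n : ℕ}
    {P : X.Modules} (h : Formal2.IsFinLocFreeMod J n P) : StalkFree J n P := fun x => by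
  obtain ⟨V, r, hxV, ⟨e⟩⟩ := h x
  exact ⟨r, exists_stalk_linearEquiv_of_restrict V e ⟨x, hxV⟩⟩

/-- A finite module killed by `J`, free over `A / J` at a point, is there a retract of a free one. -/
theorem exists_retract_at' (J : Ideal A) (N : ModuleCat.{u} (CommRingCat.of A)) [Module.Finite A N]
    (hN : ∀ a ∈ J, ∀ n : N, a • n = 0) (x : (LocCoh.puncturedOpen A I : Scheme.{u})) (r : ℕ)
    (L : ((puncFun I).obj N).presheaf.stalk x ≃ₗ[(LocCoh.puncturedOpen A I : Scheme.{u}).presheaf.stalk x]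
      (Formal.modPow J 1
        (FlatMod.freeMod (LocCoh.puncturedOpen A I : Scheme.{u}) r)).presheaf.stalk x) :
    ∃ s ∈ x.1.asIdeal.primeCompl, ∃ (m : ℕ) (φ : N →ₗ[A] (Fin m → A ⧸ J))
      (ρ : (Fin m → A ⧸ J) →ₗ[A] N), ρ.comp φ = s • LinearMap.id := by
  classical
  let F := FlatMod.freeMod (LocCoh.puncturedOpen A I : Scheme.{u}) r
  let π := Formal.modPowπ J 1 F
  haveI : Epi π := inferInstanceAs (Epi (cokernel.π _))
  obtain ⟨D, m, w, hxD, hw⟩ := FinCov.exists_frame_nhd (OX.isFinLocFree_freeMod _ r) x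
  obtain ⟨bas'⟩ := Euler.stalk_basis_of_frame hw hxD
  obtain ⟨θ, hθs, hθsurj, hθker⟩ := exists_stalk_map I N x
  let v : Fin m → ((puncFun I).obj N).presheaf.stalk x := fun j => L.symm (stalkLin π x (bas' j))
  choose c hc n hn using fun j => hθsurj (v j)
  let g : Fin m → (A ⧸ J) →ₗ[A] N := fun j =>
    J.liftQ (LinearMap.toSpanSingleton A N (n j)) fun a ha => hN a ha (n j)
  let ρ : (Fin m → A ⧸ J) →ₗ[A] N := ∑ j, (g j).comp (LinearMap.proj j)
  have hρ : ∀ a : Fin m → A, ρ (fun j => Ideal.Quotient.mk _ (a j)) = ∑ j, a j • n j := fun a => by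
    simp only [ρ, LinearMap.sum_apply, LinearMap.comp_apply, LinearMap.proj_apply]
    rfl
  have hθρ : ∀ a : Fin m → A, θ (∑ j, a j • n j) = ∑ j, (toStalk A x (a j) * toStalk A x (c j)) • v j := fun a => by
    rw [map_sum]
    exact Finset.sum_congr rfl fun j _ => by rw [hθs, ← hn j, smul_smul]
  refine (exists_comp_eq_smul x.1.asIdeal.primeCompl ρ (fun z => ?_) (fun a ha => ?_)).elim
    fun s hs => ⟨s, hs.1, m, hs.2.choose, ρ, hs.2.choose_spec⟩
  · obtain ⟨y, hy⟩ := QCoh.stalkLin_surjective π x (L (θ z))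
    let u : Fin m → ((LocCoh.puncturedOpen A I : Scheme.{u}).presheaf.stalk x)ˣ := fun j =>
      (isUnit_toStalk _ x (hc j)).unit
    choose s' hs' a ha using fun j => exists_toStalk_mul _ x (bas'.repr y j * ↑(u j)⁻¹)
    let P := ∏ j, s' j
    have hz : θ z = ∑ j, bas'.repr y j • v j := L.injective (by
      simp only [v, map_sum, map_smul, LinearEquiv.apply_symm_apply]
      rw [← hy]
      exact (congrArg (stalkLin π x) (bas'.sum_repr y).symm).trans (by simp only [map_sum, map_smul]))
    have heq : θ (P • z) = θ (∑ j, ((∏ i ∈ Finset.univ.erase j, s' i) * a j) • n j) := by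
      rw [hθs, hz, hθρ, Finset.smul_sum]
      refine Finset.sum_congr rfl fun j _ => ?_
      rw [smul_smul]
      congr 1
      rw [show P = (∏ i ∈ Finset.univ.erase j, s' i) * s' j from
        (Finset.prod_erase_mul _ s' (Finset.mem_univ j)).symm, map_mul, map_mul, ← ha j]
      have hu : (u j : (LocCoh.puncturedOpen A I : Scheme.{u}).presheaf.stalk x) = toStalk A x (c j) :=
        IsUnit.unit_spec _
      rw [← hu]
      simp only [mul_assoc, Units.inv_mul, mul_one]
    obtain ⟨s₂, hs₂, hk⟩ := hθker (P • z - ∑ j, ((∏ i ∈ Finset.univ.erase j, s' i) * a j) • n j)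
      (by rw [map_sub, heq, sub_self])
    refine ⟨s₂ * P, Submonoid.mul_mem _ hs₂ (Submonoid.prod_mem _ fun j _ => hs' j),
      fun j => Ideal.Quotient.mk _ (s₂ * ((∏ i ∈ Finset.univ.erase j, s' i) * a j)), ?_⟩
    rw [smul_sub, sub_eq_zero] at hk
    rw [hρ, mul_smul, hk, Finset.smul_sum]
    exact Finset.sum_congr rfl fun j _ => mul_smul _ _ _
  · choose b hb using fun j => Ideal.Quotient.mk_surjective (a j)
    obtain rfl : (fun j => Ideal.Quotient.mk _ (b j)) = a := funext hb
    rw [hρ] at ha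
    have h1 : stalkLin π x (∑ j, (toStalk A x (b j) * toStalk A x (c j)) • bas' j) = 0 := by
      have h0 := congrArg L (((hθρ b).symm.trans (congrArg θ ha)).trans (map_zero θ))
      simp only [v, map_sum, map_smul, LinearEquiv.apply_symm_apply, map_zero] at h0
      simpa only [map_sum, map_smul] using h0
    rw [← LinearMap.mem_ker, ker_stalkLin_of_isQuot (isQuot_modPowπ _ _ F) x, pow_one] at h1
    have hj : ∀ j, ∃ s ∈ x.1.asIdeal.primeCompl, s * b j ∈ J := fun j => by
      have h2 := repr_mem bas' _ h1 j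
      simp only [map_smul, map_sum, Finsupp.smul_apply, smul_eq_mul, Finsupp.coe_finsetSum, Finset.sum_apply,
        Module.Basis.repr_self, Finsupp.single_apply, mul_ite, mul_one, mul_zero, Finset.sum_ite_eq',
        Finset.mem_univ, if_true] at h2
      obtain ⟨u, hu⟩ := isUnit_toStalk _ x (hc j)
      exact exists_mul_mem_of_toStalk _ x J (by
        have := Ideal.mul_mem_right (↑u⁻¹) _ h2
        rwa [mul_assoc, ← hu, Units.mul_inv, mul_one] at this)
    choose s hs hsb using hj
    refine ⟨∏ j, s j, Submonoid.prod_mem _ fun j _ => hs j, funext fun j => ?_⟩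
    show (∏ j, s j) • Ideal.Quotient.mk J (b j) = 0
    rw [show (∏ i, s i) = (∏ i ∈ Finset.univ.erase j, s i) * s j from
      (Finset.prod_erase_mul _ s (Finset.mem_univ j)).symm]
    exact Ideal.Quotient.eq_zero_iff_mem.2 (by show _ * b j ∈ _; rw [mul_assoc]; exact Ideal.mul_mem_left _ _ (hsb j))

/-- The same, from a trivialisation on an open. -/
theorem exists_retract_at (J : Ideal A) (N : ModuleCat.{u} (CommRingCat.of A)) [Module.Finite A N]
    (hN : ∀ a ∈ J, ∀ n : N, a • n = 0) (x : (LocCoh.puncturedOpen A I : Scheme.{u}))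
    (V : (LocCoh.puncturedOpen A I : Scheme.{u}).Opens) (hxV : x ∈ V) (r : ℕ)
    (e : (Scheme.Modules.restrictFunctor V.ι).obj ((puncFun I).obj N) ≅
      (Scheme.Modules.restrictFunctor V.ι).obj
        (Formal.modPow J 1 (FlatMod.freeMod (LocCoh.puncturedOpen A I : Scheme.{u}) r))) :
    ∃ s ∈ x.1.asIdeal.primeCompl, ∃ (m : ℕ) (φ : N →ₗ[A] (Fin m → A ⧸ J))
      (ρ : (Fin m → A ⧸ J) →ₗ[A] N), ρ.comp φ = s • LinearMap.id := by
  obtain ⟨L⟩ : Nonempty (((puncFun I).obj N).presheaf.stalk x ≃ₗ[(LocCoh.puncturedOpen A I : Scheme.{u}).presheaf.stalk x]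
      (Formal.modPow J 1
        (FlatMod.freeMod (LocCoh.puncturedOpen A I : Scheme.{u}) r)).presheaf.stalk x) :=
    exists_stalk_linearEquiv_of_restrict V e ⟨x, hxV⟩
  exact exists_retract_at' I J N hN x r L

end GrothLib.GenT7
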