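import Groth.Agent.Lib.AdicExtra.Complete

/-!
# Compatible families in a tower of modules with a lifted multiplication
-/

set_option autoImplicit false
set_option linter.style.haveILetI false
set_option linter.unusedSectionVars false

universe u

noncomputable section

namespace GrothLib.GenT7

variable {A : Type u} [CommRing A] {S : ℕ → Type u} [∀ n, AddCommGroup (S n)] [∀ n, Module A (S n)]
  (g : ∀ n, S (n + 1) →ₗ[A] S n)

/-- The compatible families. -/
def limSys : Submodule A (∀ n, S n) where
  carrier := {z | ∀ n, g n (z (n + 1)) = z n}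
  zero_mem' n := map_zero _
  add_mem' {a b} ha hb n := by simp only [Pi.add_apply, map_add, ha n, hb n]
  smul_mem' a z hz n := by simp only [Pi.smul_apply, map_smul, hz n]

/-- The projections. -/
def projSys (n : ℕ) : limSys g →ₗ[A] S n := (LinearMap.proj n).comp (limSys g).subtype

theorem limSys_ext {z v : limSys g} (h : ∀ k, projSys g k v = projSys g k z) : v = z := Subtype.ext (funext h)

theorem exists_mem (z : ∀ n, S n) (hz : ∀ n, g n (z (n + 1)) = z n) :
    ∃ v : limSys g, ∀ n, projSys g n v = z n := ⟨⟨z, hz⟩, fun _ => rfl⟩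

theorem projSys_map (n : ℕ) (z : limSys g) : g n (projSys g (n + 1) z) = projSys g n z := z.2 n

variable (t : A) (f : ∀ n, S n →ₗ[A] S (n + 1)) (hinj : ∀ n, Function.Injective (f n))
  (hfg : ∀ n y, f n (g n y) = t • y) (hgf : ∀ n y, g n (f n y) = t • y)
  (hex : ∀ z : limSys g, projSys g 0 z = 0 → ∀ k, ∃ y, f k y = projSys g (k + 1) z)
  (hkill : ∀ n, ∀ a ∈ Ideal.span ({t} : Set A) ^ (n + 1), ∀ y : S n, a • y = 0)

include hinj hfg hgf hex hkill in
theorem exists_div_sys (z : limSys g) (hz : projSys g 0 z = 0) :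
    ∃ w : limSys g, t • w = z ∧ ∀ k, projSys g (k + 1) z = 0 → projSys g k w = 0 := by
  choose w hw using hex z hz
  have hcomm : ∀ k, g k (w (k + 1)) = w k := fun k => by
    refine hinj k ?_
    rw [hfg, ← hgf, hw, hw, projSys_map]
  obtain ⟨v, hv⟩ := exists_mem g w hcomm
  refine ⟨v, limSys_ext g fun k => ?_, fun k hk => hinj k ?_⟩
  · rw [map_smul, hv]
    cases k with
    | zero => rw [hz]; exact hkill 0 t (by simp) (w 0)
    | succ k => rw [← hfg, hcomm, hw]
  · rw [hv, hw, hk, map_zero]

include hinj hfg hgf hex hkill in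
theorem projSys_eq_zero_iff (n : ℕ) (z : limSys g) :
    projSys g n z = 0 ↔ z ∈ Ideal.span ({t} : Set A) ^ (n + 1) • (⊤ : Submodule A (limSys g)) := by
  constructor
  · intro hz
    suffices h : ∃ v, t ^ (n + 1) • v = z by
      obtain ⟨v, rfl⟩ := h
      exact Submodule.smul_mem_smul (Ideal.pow_mem_pow (Ideal.mem_span_singleton_self t) _) trivial
    induction n generalizing z with
    | zero => obtain ⟨w, hw, -⟩ := exists_div_sys g t f hinj hfg hgf hex hkill z hz; exact ⟨w, by rw [pow_one, hw]⟩
    | succ n ih =>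
      have h0 : ∀ m, projSys g m z = 0 → projSys g 0 z = 0 := by
        intro m
        induction m with
        | zero => exact id
        | succ m ihm => intro hm; exact ihm (by rw [← projSys_map, hm, map_zero])
      obtain ⟨w, hw, hw'⟩ := exists_div_sys g t f hinj hfg hgf hex hkill z (h0 _ hz)
      obtain ⟨v, hv⟩ := ih w (hw' n hz)
      exact ⟨v, by rw [pow_succ', mul_smul, hv, hw]⟩
  · intro hz
    refine Submodule.smul_induction_on hz (fun a ha v _ => ?_) fun a b ha hb => by rw [map_add, ha, hb, add_zero]
    rw [map_smul]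
    exact hkill n a ha _

include hinj hfg hgf hex hkill in
theorem finite_limSys [IsNoetherianRing A] [IsPrecomplete (Ideal.span ({t} : Set A)) A] [Module.Finite A (S 0)] :
    Module.Finite A (limSys g) := by
  let J := Ideal.span ({t} : Set A)
  have hiff := projSys_eq_zero_iff g t f hinj hfg hgf hex hkill
  haveI : IsHausdorff J (limSys g) := ⟨fun z hz => limSys_ext g fun k =>
    ((hiff k z).2 (SModEq.zero.1 (hz (k + 1)))).trans (map_zero _).symm⟩
  refine AdicExtra.finite_of_quotient_finite (I := J) ?_
  have hk : ∀ z, projSys g 0 z = 0 ↔ z ∈ J • (⊤ : Submodule A (limSys g)) := fun z => by rw [hiff 0 z, pow_one]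
  refine Module.Finite.of_injective ((J • ⊤ : Submodule A (limSys g)).liftQ (projSys g 0) fun z hz => (hk z).2 hz) ?_
  refine (injective_iff_map_eq_zero _).2 fun q hq => ?_
  obtain ⟨z, rfl⟩ := Submodule.Quotient.mk_surjective _ q
  exact (Submodule.Quotient.mk_eq_zero _).2 ((hk z).1 hq)

/-- A quotient by a kernel equal to a multiple of the top gives a surjection onto the range. -/
theorem exists_range_model {M P : Type u} [AddCommGroup M] [Module A M] [AddCommGroup P] [Module A P]
    (p : M →ₗ[A] P) (J : Ideal A) (h : ∀ z, p z = 0 ↔ z ∈ J • (⊤ : Submodule A M)) :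
    Function.Surjective p.rangeRestrict ∧ LinearMap.ker p.rangeRestrict = J • (⊤ : Submodule A M) :=
  ⟨p.surjective_rangeRestrict, by
    rw [LinearMap.ker_rangeRestrict]
    exact Submodule.ext fun z => LinearMap.mem_ker.trans (h z)⟩

end GrothLib.GenT7
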