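import Groth.Agent.Lib.GenT7.GenMain
import Groth.Agent.Lib.OX.ClosedPush
import Groth.Agent.Lib.K0Sub.RankNilp
import Groth.Agent.Lib.OmegaFree.Basic
import Groth.Agent.Lib.NFlat7.Main
import Groth.Agent.Lib.PunctSec7.Lef
import Groth.Agent.Lib.LefEt7.QuasiAffine

/-!
# Levelwise locally free systems on the completion of a punctured spectrum along an arbitrary ideal
-/

set_option autoImplicit false
set_option linter.style.haveILetI false
set_option linter.unusedSectionVars false

universe u

open CategoryTheory CategoryTheory.Limits AlgebraicGeometry Opposite TopologicalSpace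

noncomputable section

namespace GrothLib.GenT7.Gen

open GrothLib.FFormal7 GrothLib.UnifVanish7 GrothLib.Algz56
open GrothLib.FormalFun (toStalk)
open GrothLib.QCoh (stalkLin)

/-- Two quotients of a module with the same kernel are isomorphic. -/
theorem nonempty_equiv_of_ker_eq {R M P Q : Type*} [CommRing R] [AddCommGroup M] [Module R M] [AddCommGroup P]
    [Module R P] [AddCommGroup Q] [Module R Q] (f : M →ₗ[R] P) (g : M →ₗ[R] Q) (hf : Function.Surjective f)
    (hg : Function.Surjective g) (h : LinearMap.ker f = LinearMap.ker g) : Nonempty (P ≃ₗ[R] Q) :=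
  ⟨(f.quotKerEquivOfSurjective hf).symm ≪≫ₗ Submodule.quotEquivOfEq _ _ h ≪≫ₗ g.quotKerEquivOfSurjective hg⟩

/-- A semilinear basis of a quotient. -/
theorem exists_surjective_of_semilinear {S B M P G ι : Type*} [Fintype ι] [CommRing S] [CommRing B] [AddCommGroup M]
    [Module S M] [AddCommGroup P] [Module S P] [AddCommGroup G] [Module B G] (σ : S →+* B) (hσ : Function.Surjective σ)
    {K : Ideal S} (hK : RingHom.ker σ = K) (E : P ≃+ G) (hE : ∀ c p, E (c • p) = σ c • E p)
    (c : Module.Basis ι S M) (b : Module.Basis ι B G) :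
    ∃ f : M →ₗ[S] P, Function.Surjective f ∧ LinearMap.ker f = K • (⊤ : Submodule S M) := by
  classical
  let f : M →ₗ[S] P := c.constr S fun j => E.symm (b j)
  have hf : ∀ v, E (f v) = ∑ j, σ (c.repr v j) • b j := fun v => by
    have h1 : f v = ∑ j, c.repr v j • E.symm (b j) := by
      conv_lhs => rw [← c.sum_repr v]
      simp only [f, map_sum, map_smul, Module.Basis.constr_basis]
    rw [h1, map_sum]
    refine Finset.sum_congr rfl fun j _ => ?_
    rw [hE, E.apply_symm_apply]
  refine ⟨f, fun p => ?_, le_antisymm (fun v hv => ?_) (Submodule.smul_le.2 fun a ha v _ => ?_)⟩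
  · choose β hβ using fun j => hσ (b.repr (E p) j)
    refine ⟨∑ j, β j • c j, E.injective ?_⟩
    rw [hf]
    simp only [map_sum, map_smul, Finsupp.coe_finsetSum, Finset.sum_apply, Finsupp.smul_apply,
      Module.Basis.repr_self, Finsupp.single_apply, smul_eq_mul, mul_ite, mul_one, mul_zero, Finset.sum_ite_eq',
      Finset.mem_univ, if_true]
    simp only [hβ]
    exact b.sum_repr (E p)
  · have h0 : ∑ j, σ (c.repr v j) • b j = 0 := by rw [← hf, LinearMap.mem_ker.1 hv, map_zero]
    have h1 : ∀ j, c.repr v j ∈ K := fun j => by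
      rw [← hK, RingHom.mem_ker]
      exact Fintype.linearIndependent_iff.1 b.linearIndependent _ h0 j
    rw [← c.sum_repr v]
    exact sum_mem fun j _ => Submodule.smul_mem_smul (h1 j) trivial
  · rw [LinearMap.mem_ker, map_smul]
    refine E.injective ?_
    rw [hE, map_zero, (RingHom.mem_ker).1 (hK.symm ▸ ha : a ∈ RingHom.ker σ), zero_smul]

variable {A : Type u} [CommRing A] [IsNoetherianRing A]

/-- The image on an open of a bundle on a closed subscheme cut out by a power. -/
theorem stalkFree_push {X Z : Scheme.{u}} [X.Over (Spec (CommRingCat.of A))] (e : Z ⟶ X) [IsClosedImmersion e]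
    (J : Ideal A) (n : ℕ) {F : Z.Modules} (hF : FlatMod.IsFinLocFree F)
    (hker : ∀ y, RingHom.ker (e.stalkMap y).hom = (J ^ n).map (toStalk A (e y)))
    (hrange : ∀ x, x ∉ Set.range e → (J ^ n).map (toStalk A x) = ⊤) :
    StalkFree J n ((Scheme.Modules.pushforward e).obj F) := by
  intro x
  have key : ∀ (r : ℕ) (c : Module.Basis (Fin r) (X.presheaf.stalk x) ((FlatMod.freeMod X r).presheaf.stalk x))
      (f : (FlatMod.freeMod X r).presheaf.stalk x →ₗ[X.presheaf.stalk x]
        ((Scheme.Modules.pushforward e).obj F).presheaf.stalk x),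
      Function.Surjective f → LinearMap.ker f = (J ^ n).map (toStalk A x) • ⊤ →
      ∃ r, Nonempty (((Scheme.Modules.pushforward e).obj F).presheaf.stalk x ≃ₗ[X.presheaf.stalk x]
        (Formal.modPow J n (FlatMod.freeMod X r)).presheaf.stalk x) := fun r _ f hf hk => by
    let π := Formal.modPowπ J n (FlatMod.freeMod X r)
    haveI : Epi π := inferInstanceAs (Epi (cokernel.π _))
    exact ⟨r, nonempty_equiv_of_ker_eq f (stalkLin π x) hf (QCoh.stalkLin_surjective π x)
      (hk.trans (FormalFun.ker_stalkLin_of_isQuot (isQuot_modPowπ J n _) x).symm)⟩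
  by_cases hx : x ∈ Set.range e
  · obtain ⟨y, rfl⟩ := hx
    obtain ⟨D, r, w, hy, hw⟩ := FinCov.exists_frame_nhd hF y
    obtain ⟨b⟩ := Euler.stalk_basis_of_frame hw hy
    obtain ⟨c⟩ := OmegaFree.exists_basis_stalk (K0Sub.isFinLocFreeOfRank_freeMod (X := X) r) (e y)
    let φ : ((Scheme.Modules.pushforward e).obj F).presheaf.stalk (e y) ≃+ F.presheaf.stalk y :=
      ((OX.pushStalkIso e y).app F).toLinearEquiv.toAddEquiv
    obtain ⟨f, hf, hk⟩ := exists_surjective_of_semilinear (e.stalkMap y).hom (e.stalkMap_surjective y) (hker y)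
      (P := ((Scheme.Modules.pushforward e).obj F).presheaf.stalk (e y)) (G := F.presheaf.stalk y) φ
      (fun a p => ((OX.pushStalkIso e y).app F).toLinearEquiv.map_smul a p) c b
    exact key r c f hf hk
  · haveI : Subsingleton (((Scheme.Modules.pushforward e).obj F).presheaf.stalk x) :=
      not_not.1 fun h => hx (QCoh.support_pushforward_subset_range e F h)
    obtain ⟨c⟩ := OmegaFree.exists_basis_stalk (K0Sub.isFinLocFreeOfRank_freeMod (X := X) 0) x
    exact key 0 c 0 (fun z => ⟨0, Subsingleton.elim _ _⟩)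
      (by rw [LinearMap.ker_zero, hrange x hx, Submodule.top_smul])

variable (I J : Ideal A)

/-- The local rings of the levels. -/
theorem ker_stalkMap_lev (k : ℕ) (y : lev J (LocCoh.puncturedOpen A I : Scheme.{u}) k) :
    RingHom.ker ((levι J (LocCoh.puncturedOpen A I : Scheme.{u}) k).stalkMap y).hom =
      (J ^ (k + 1)).map (toStalk A (levι J (LocCoh.puncturedOpen A I : Scheme.{u}) k y)) := by
  rw [Ideal.map_pow]
  exact (FormalFun.ker_stalkMap_level (baseIdeal J (LocCoh.puncturedOpen A I : Scheme.{u})) k y).trans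
    (congrArg (· ^ (k + 1)) (FormalExist7.stalkIdeal_baseIdeal J (levι J (LocCoh.puncturedOpen A I : Scheme.{u}) k y)))

theorem map_eq_top_of_not_range (k : ℕ) (x : (LocCoh.puncturedOpen A I : Scheme.{u}))
    (hx : x ∉ Set.range (levι J (LocCoh.puncturedOpen A I : Scheme.{u}) k)) :
    (J ^ (k + 1)).map (toStalk A x) = ⊤ := by
  by_cases h : J ^ (k + 1) ≤ x.1.asIdeal
  · have hmem : ((LocCoh.puncturedOpen A I : Scheme.{u}) ↘ Spec (CommRingCat.of A)) x ∈
        Set.range (CohB1.specQuot J k) := by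
      show x.1 ∈ Set.range (PrimeSpectrum.comap (Ideal.Quotient.mk (J ^ (k + 1))))
      rw [range_comap_of_surjective _ _ Ideal.Quotient.mk_surjective, Ideal.mk_ker]
      exact h
    obtain ⟨z, hz⟩ := hmem
    obtain ⟨y, hy, -⟩ := Scheme.exists_preimage_of_isPullback
      (isPullback_lev J (LocCoh.puncturedOpen A I : Scheme.{u}) k) x z hz.symm
    exact absurd ⟨y, hy⟩ hx
  · obtain ⟨a, ha, hax⟩ := SetLike.not_le_iff_exists.1 h
    exact Ideal.eq_top_of_isUnit_mem _ (Ideal.mem_map_of_mem (toStalk A x) ha) (isUnit_toStalk _ x hax)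

variable {I J}

/-- Algebraization of a levelwise locally free system. -/
theorem exists_algebraization [IsAdicComplete J A]
    (hflat : ∀ n : ℕ, Module.Flat (A ⧸ J) (↥(J ^ n) ⧸ (J • (⊤ : Submodule A ↥(J ^ n)))))
    (h₁ : Module.Finite A (LocCoh.H I 1 (A ⧸ J))) (h₂ : Module.Finite A (LocCoh.H I 2 (A ⧸ J)))
    (𝔐 : FSch.ModSys (FSch.completionAlong (LocCoh.puncturedOpen A I : Scheme.{u})
      (baseIdeal J (LocCoh.puncturedOpen A I : Scheme.{u}))))
    (h𝔐 : LefX.LevelwiseFinLocFree 𝔐) :
    ∃ F : (LocCoh.puncturedOpen A I : Scheme.{u}).Modules, Coh.IsCoh F ∧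
      Nonempty (FSch.completionMod (baseIdeal J (LocCoh.puncturedOpen A I : Scheme.{u})) F ≅ 𝔐) := by
  let U := LocCoh.puncturedOpen A I
  haveI : IsSeparated ((U : Scheme.{u}) ↘ Spec (CommRingCat.of A)) := inferInstanceAs (IsSeparated U.ι)
  haveI : LocallyOfFiniteType ((U : Scheme.{u}) ↘ Spec (CommRingCat.of A)) :=
    inferInstanceAs (LocallyOfFiniteType U.ι)
  haveI : IsLocallyNoetherian (U : Scheme.{u}) := isLocallyNoetherian_of_isOpenImmersion U.ι
  haveI : CompactSpace (U : Scheme.{u}) := isCompact_iff_compactSpace.1 (TopologicalSpace.NoetherianSpace.isCompact _)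
  haveI : QuasiCompact ((U : Scheme.{u}) ↘ Spec (CommRingCat.of A)) := inferInstanceAs (QuasiCompact U.ι)
  have h := isAdicSys_lev J (U : Scheme.{u})
  have hpb := fun k => isPullback_lev J (U : Scheme.{u}) k
  have hec := levι_eq_sep J (X := (U : Scheme.{u}))
  have hcoh : ∀ k, Coh.IsCoh (𝔐.F k) := fun k => Euler.isCoh_of_isFinLocFree (h𝔐 k)
  have hG : Formal.IsCohFormal J (pushSys hec 𝔐.e) := isCohFormal_pushSys_sep h hpb hec hcoh 𝔐.e
  have hfree : ∀ n, StalkFree J (n + 1) ((pushSys hec 𝔐.e).obj (op n)) := fun n => by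
    haveI := isClosedImmersion_e hpb n
    exact stalkFree_push (levι J (U : Scheme.{u}) n) J (n + 1) (h𝔐 n) (ker_stalkMap_lev I J n)
      (map_eq_top_of_not_range I J n)
  obtain ⟨M, hM, ⟨θ⟩⟩ := exists_completion_of_stalkFree (pushSys hec 𝔐.e) hG hfree hflat h₁ h₂
  obtain ⟨χ, hχ⟩ := exists_compat_of_completion h hpb hec hcoh 𝔐.e M θ
  refine ⟨M, hM, nonempty_completionMod_iso _ M χ fun k => ?_⟩
  refine (hχ k).trans (congrArg (· ≫ (χ k).hom) ?_)
  exact (complMod_e_hom_sep J M k).symm


/-- Full faithfulness and algebraization along a normally flat ideal. -/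
theorem lef_and_algebraization [IsAdicComplete J A] (hg : NFlat7.GrFlat J) (h : NFlat7.HVan I 3 (A ⧸ J)) :
    (∀ D : (LocCoh.puncturedOpen A I : Scheme.{u}).Modules, FlatMod.IsFinLocFree D →
      Lef.HomToFormalBijective
        ((Spec.map (CommRingCat.ofHom (Ideal.Quotient.mk J))).ker.comap (LocCoh.puncturedOpen A I).ι) D) ∧
    (∀ 𝔐 : FSch.ModSys (FSch.completionAlong (LocCoh.puncturedOpen A I : Scheme.{u})
        ((Spec.map (CommRingCat.ofHom (Ideal.Quotient.mk J))).ker.comap (LocCoh.puncturedOpen A I).ι)),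
      LefX.LevelwiseFinLocFree 𝔐 → ∃ F : (LocCoh.puncturedOpen A I : Scheme.{u}).Modules, Coh.IsCoh F ∧
        Nonempty (FSch.completionMod
          ((Spec.map (CommRingCat.ofHom (Ideal.Quotient.mk J))).ker.comap (LocCoh.puncturedOpen A I).ι) F ≅ 𝔐)) := by
  let U := LocCoh.puncturedOpen A I
  constructor
  · intro D hD
    haveI : IsLocallyNoetherian (U : Scheme.{u}) := isLocallyNoetherian_of_isOpenImmersion U.ι
    haveI : CompactSpace (U : Scheme.{u}) := isCompact_iff_compactSpace.1 (TopologicalSpace.NoetherianSpace.isCompact _)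
    haveI : IsNoetherian (U : Scheme.{u}) := {}
    haveI : (U : Scheme.{u}).IsQuasiAffine := Scheme.IsQuasiAffine.of_isImmersion U.ι
    haveI : Coh.IsQCoh D := (Euler.isCoh_of_isFinLocFree hD).1
    exact LefEt7.homToFormalBijective_of_unit_of_quasiAffine _
      (PunctSec7.homBij_of_secBij _ (NFlat7.secBij I hg fun i hi => h i (hi.trans (by norm_num)))) D
  · intro 𝔐 h𝔐
    haveI := h 1 (by norm_num)
    haveI := h 2 (by norm_num)
    exact exists_algebraization hg inferInstance inferInstance 𝔐 h𝔐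

end GrothLib.GenT7.Gen
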