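import Groth.Agent.Lib.GenT7.GradBound
import Groth.Agent.Lib.GenT7.Seq
import Mathlib.RingTheory.Finiteness.Basic

/-!
# Limits of towers of modules with graded finiteness of the obstructions
-/

set_option autoImplicit false
set_option linter.style.haveILetI false
set_option linter.unusedSectionVars false

universe u

noncomputable section

namespace GrothLib.GenT7.Gen

/-- A sequence of approximations in a complete ring has a limit. -/
theorem exists_series {A : Type u} [CommRing A] (J : Ideal A) [IsPrecomplete J A] {l : ℕ} (k : ℕ)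
    (c : ℕ → Fin l → A) (hc : ∀ i j, c i j ∈ J ^ (k + i)) :
    ∃ L : Fin l → A, ∀ i j, L j - ∑ e ∈ Finset.range i, c e j ∈ J ^ i := by
  have h : ∀ j, ∃ L, ∀ n, (∑ e ∈ Finset.range n, c e j) ≡ L [SMOD (J ^ n • ⊤ : Submodule A A)] := fun j =>
    IsPrecomplete.prec inferInstance (M := A) (f := fun n => ∑ e ∈ Finset.range n, c e j) fun {m n} hmn => by
      rw [SModEq.sub_mem, smul_eq_mul, Ideal.mul_top, ← neg_mem_iff, neg_sub,
        Finset.sum_range_sub_sum_range hmn]
      refine sum_mem fun e he => Ideal.pow_le_pow_right ?_ (hc e j)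
      have := (Finset.mem_filter.1 he).2
      omega
  choose L hL using h
  refine ⟨L, fun i j => ?_⟩
  have := hL j i
  rw [SModEq.sub_mem, smul_eq_mul, Ideal.mul_top, ← neg_mem_iff, neg_sub] at this
  exact this

/-- Successive approximation in a separated filtered module over a complete ring. -/
theorem exists_comb_of_steps {A : Type u} [CommRing A] (J : Ideal A) [IsPrecomplete J A] {M : Type u}
    [AddCommGroup M] [Module A M] {S : ℕ → Type u} [∀ n, AddCommGroup (S n)] [∀ n, Module A (S n)]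
    (p : ∀ n, M →ₗ[A] S n) (hle : ∀ n m, n ≤ m → ∀ z, p m z = 0 → p n z = 0)
    (hsep : ∀ z, (∀ n, p n z = 0) → z = 0) {l : ℕ} (π : (Fin l → A) →ₗ[A] M) (R : ℕ)
    (hπ : ∀ (k : ℕ) (c : Fin l → A), (∀ i, c i ∈ J ^ k) → p (R + k) (π c) = 0)
    (hstep : ∀ (k : ℕ) (z : M), p (R + k) z = 0 →
      ∃ c : Fin l → A, (∀ i, c i ∈ J ^ k) ∧ p (R + k + 1) (z - π c) = 0)
    (k : ℕ) (z : M) (hz : p (R + k) z = 0) : ∃ L : Fin l → A, (∀ i, L i ∈ J ^ k) ∧ π L = z := by
  choose! cs hcs hcs' using hstep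
  let w : ℕ → M := fun i => Nat.rec z (fun i v => v - π (cs (k + i) v)) i
  have hw : ∀ i, p (R + (k + i)) (w i) = 0 := fun i => by
    induction i with
    | zero => exact hz
    | succ i ih => exact hcs' (k + i) (w i) ih
  obtain ⟨L, hL⟩ := exists_series J k (fun i => cs (k + i) (w i)) fun i j => hcs (k + i) (w i) (hw i) j
  have hwsum : ∀ i, w i = z - π (fun j => ∑ e ∈ Finset.range i, cs (k + e) (w e) j) := fun i => by
    induction i with
    | zero =>
      rw [show (fun j : Fin l => ∑ e ∈ Finset.range 0, cs (k + e) (w e) j) = 0 from funext fun j => by simp,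
        map_zero, sub_zero]
      rfl
    | succ i ih =>
      have h1 : (fun j : Fin l => ∑ e ∈ Finset.range (i + 1), cs (k + e) (w e) j) =
          (fun j => ∑ e ∈ Finset.range i, cs (k + e) (w e) j) + cs (k + i) (w i) :=
        funext fun j => Finset.sum_range_succ _ _
      rw [h1, map_add, ← sub_sub, ← ih]
  refine ⟨L, fun j => ?_, (sub_eq_zero.1 (hsep _ fun n => ?_)).symm⟩
  · have h1 : ∑ e ∈ Finset.range k, cs (k + e) (w e) j ∈ J ^ k := sum_mem fun e _ =>
      Ideal.pow_le_pow_right (Nat.le_add_right k e) (hcs (k + e) (w e) (hw e) j)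
    simpa using add_mem (hL k j) h1
  · have h2 := hle n (R + (k + (n + 1))) (by omega) _ (hw (n + 1))
    have h3 := hle n (R + (n + 1)) (by omega) _
      (hπ (n + 1) (L - fun j => ∑ e ∈ Finset.range (n + 1), cs (k + e) (w e) j) fun j => hL (n + 1) j)
    replace h2 := (congrArg (p n) (hwsum (n + 1))).symm.trans h2
    rw [map_sub] at h2
    rw [map_sub, map_sub] at h3
    rw [map_sub, sub_eq_zero.1 h2, sub_eq_zero.1 h3, sub_self]

theorem finite_of_exact {A : Type u} [CommRing A] [IsNoetherianRing A] {L M N : Type u} [AddCommGroup L]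
    [Module A L] [Module.Finite A L] [AddCommGroup M] [Module A M] [AddCommGroup N] [Module A N]
    [Module.Finite A N] (f : L →ₗ[A] M) (g : M →ₗ[A] N) (h : Function.Exact f g) : Module.Finite A M := by
  refine ⟨Submodule.fg_of_fg_map_of_fg_inf_ker g (IsNoetherian.noetherian _) ?_⟩
  rw [top_inf_eq, h.linearMap_ker_eq]
  exact Module.Finite.iff_fg.1 inferInstance

/-- Successive approximation gives finiteness and the adic topology. -/
theorem finite_of_steps {A : Type u} [CommRing A] [IsNoetherianRing A] (J : Ideal A) [IsPrecomplete J A] {M : Type u}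
    [AddCommGroup M] [Module A M] {S : ℕ → Type u} [∀ n, AddCommGroup (S n)] [∀ n, Module A (S n)]
    (p : ∀ n, M →ₗ[A] S n) (hle : ∀ n m, n ≤ m → ∀ z, p m z = 0 → p n z = 0)
    (hsep : ∀ z, (∀ n, p n z = 0) → z = 0) {l : ℕ} (z₀ : Fin l → M) (R : ℕ)
    (hzero : ∀ (k : ℕ) (g : A), g ∈ J ^ k → ∀ i, p (R + k) (g • z₀ i) = 0)
    (hstep : ∀ (k : ℕ) (z : M), p (R + k) z = 0 →
      ∃ c : Fin l → A, (∀ i, c i ∈ J ^ k) ∧ p (R + k + 1) (z - ∑ i, c i • z₀ i) = 0)
    (hR : Module.Finite A (S R)) :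
    Module.Finite A M ∧ ∀ k z, p (R + k) z = 0 → z ∈ J ^ k • (⊤ : Submodule A M) := by
  classical
  haveI := hR
  let π := Fintype.linearCombination A z₀
  have hπ : ∀ (k : ℕ) (c : Fin l → A), (∀ i, c i ∈ J ^ k) → p (R + k) (π c) = 0 := fun k c hc => by
    rw [Fintype.linearCombination_apply, map_sum]
    exact Finset.sum_eq_zero fun i _ => hzero k (c i) (hc i) i
  have hser := exists_comb_of_steps J p hle hsep π R hπ fun k z hz => by
    obtain ⟨c, hc, h⟩ := hstep k z hz
    exact ⟨c, hc, by rwa [Fintype.linearCombination_apply]⟩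
  refine ⟨finite_of_exact π (p R) fun z => ⟨fun hz => ?_, ?_⟩, fun k z hz => ?_⟩
  · obtain ⟨L, -, hL⟩ := hser 0 z (by simpa using hz)
    exact ⟨L, hL⟩
  · rintro ⟨L, rfl⟩
    exact hπ 0 L fun i => by simp
  · obtain ⟨L, hL, rfl⟩ := hser k z hz
    rw [Fintype.linearCombination_apply]
    exact sum_mem fun i _ => Submodule.smul_mem_smul (hL i) trivial

variable {A : Type u} [CommRing A] [IsNoetherianRing A] (J : Ideal A)
variable {S : ℕ → Type u} [∀ n, AddCommGroup (S n)] [∀ n, Module A (S n)]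
  (dn : ∀ {m n : ℕ}, n ≤ m → (S m →ₗ[A] S n))
  (hcomp : ∀ {m n k : ℕ} (h₁ : n ≤ m) (h₂ : k ≤ n) (x : S m), dn h₂ (dn h₁ x) = dn (h₂.trans h₁) x)
  (hself : ∀ {n : ℕ} (x : S n), dn (le_refl n) x = x)

/-- Elements with image zero `r` levels down. -/
def zb (r n : ℕ) : Submodule A (S n) :=
  ⨅ (j : ℕ) (h : j + r ≤ n), LinearMap.ker (dn (show j ≤ n by omega))

theorem mem_zb {r n : ℕ} {x : S n} :
    x ∈ zb @dn r n ↔ ∀ (j : ℕ) (_ : j + r ≤ n), dn (show j ≤ n by omega) x = 0 := by
  simp only [zb, Submodule.mem_iInf, LinearMap.mem_ker]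

/-- The steps of a tower. -/
abbrev step (n : ℕ) : S (n + 1) →ₗ[A] S n := dn (Nat.le_succ n)

include hcomp hself in
theorem proj_le {m n : ℕ} (h : n ≤ m) (z : limSys (step @dn)) :
    dn h (projSys (step @dn) m z) = projSys (step @dn) n z := by
  induction m, h using Nat.le_induction with
  | base => exact hself _
  | succ m hm ih => rw [← hcomp (Nat.le_succ m) hm]; exact (congrArg (dn hm) (projSys_map _ m z)).trans ih

section obstructions

variable {H : ℕ → Type u} [∀ n, AddCommGroup (H n)] [∀ n, Module A (H n)] (δ : ∀ n, S n →ₗ[A] H n)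
  {b : ℕ} (cls : ∀ n (a : Fin b → A), (∀ j, a j ∈ J ^ (n + 1)) → H n)
  (hadd : ∀ n a a' ha ha', cls n (a + a') (fun j => Submodule.add_mem _ (ha j) (ha' j)) = cls n a ha + cls n a' ha')
  (hsmul : ∀ n (r : A) a ha, cls n (r • a) (fun j => Ideal.mul_mem_left _ r (ha j)) = r • cls n a ha)
  (hsurj : ∀ n y, ∃ a ha, cls n a ha = y)
  (hexact : ∀ n x, δ n x = 0 → ∃ y, dn (Nat.le_succ n) y = x)
  (hmul : ∀ r n k (g : A), g ∈ J ^ k → ∀ a ha x, x ∈ zb @dn r n → δ n x = cls n a ha →
    ∀ hga : ∀ j, g * a j ∈ J ^ (n + k + 1), ∃ x' ∈ zb @dn r (n + k), δ (n + k) x' = cls (n + k) (g • a) hga)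

include hadd hsmul in
/-- Coefficients of obstruction classes. -/
def obs (r n : ℕ) : Submodule A (Fin b → A) where
  carrier := {a | ∃ (ha : ∀ j, a j ∈ J ^ (n + 1)) (x : S n), x ∈ zb @dn r n ∧ δ n x = cls n a ha}
  zero_mem' := ⟨fun _ => zero_mem _, 0, zero_mem _, by
    rw [map_zero]
    have := hsmul n 0 0 (fun _ => zero_mem _)
    simp only [zero_smul, smul_zero] at this
    exact this.symm⟩
  add_mem' := by
    rintro a a' ⟨ha, x, hx, e⟩ ⟨ha', x', hx', e'⟩
    exact ⟨fun j => add_mem (ha j) (ha' j), x + x', add_mem hx hx', by rw [map_add, e, e', ← hadd]⟩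
  smul_mem' := by
    rintro r' a ⟨ha, x, hx, e⟩
    exact ⟨fun j => Ideal.mul_mem_left _ r' (ha j), r' • x, Submodule.smul_mem _ r' hx, by rw [map_smul, e, ← hsmul]⟩

include hcomp hadd hsmul hsurj hexact hmul in
theorem exists_step : ∃ R, ∀ (m : ℕ) (x : S m), ∃ y : S (m + 1),
    ∀ (j : ℕ) (_ : j + R ≤ m), dn (show j ≤ m + 1 by omega) y = dn (show j ≤ m by omega) x := by
  obtain ⟨R, hR⟩ := exists_bound J (obs J @dn δ cls hadd hsmul)
    (fun r n a ⟨ha, x, hx, e⟩ => ⟨ha, x, (mem_zb @dn).2 fun j hj => (mem_zb @dn).1 hx j (by omega), e⟩)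
    (fun r n a ⟨ha, _⟩ j => Ideal.pow_le_pow_right (Nat.le_succ n) (ha j))
    (fun r n k g hg a ⟨ha, x, hx, e⟩ => by
      have hga : ∀ j, g * a j ∈ J ^ (n + k + 1) := fun j => by
        rw [show n + k + 1 = k + (n + 1) by omega, pow_add]
        exact Ideal.mul_mem_mul hg (ha j)
      obtain ⟨x', hx', e'⟩ := hmul r n k g hg a ha x hx e hga
      exact ⟨hga, x', hx', e'⟩)
  refine ⟨R, fun m x => ?_⟩
  obtain ⟨a, ha, e⟩ := hsurj m (δ m x)
  obtain ⟨ha', x', hx', e'⟩ := hR (m + 1) m
    (show a ∈ obs J @dn δ cls hadd hsmul (m + 1) m from ⟨ha, x, (mem_zb @dn).2 fun j hj => by omega, e.symm⟩)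
  obtain ⟨y, hy⟩ := hexact m (x - x') (by rw [map_sub, e', sub_eq_zero]; exact e.symm)
  refine ⟨y, fun j hj => ?_⟩
  rw [← hcomp (Nat.le_succ m) (show j ≤ m by omega) y, hy, map_sub, (mem_zb @dn).1 hx' j hj, sub_zero]

include hcomp hself hadd hsmul hsurj hexact hmul in
/-- Elements far enough out give compatible families. -/
theorem exists_lift_family : ∃ R, ∀ (n : ℕ) (x : S (n + R)),
    dn (Nat.le_add_right n R) x ∈ LinearMap.range (projSys (step @dn) n) := by
  obtain ⟨R, hR⟩ := exists_step J @dn @hcomp δ cls hadd hsmul hsurj hexact hmul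
  refine ⟨R, fun n x => ?_⟩
  choose next hnext using fun i => hR (n + R + i)
  let Xs : ∀ i, S (n + R + i) := fun i => Nat.rec x (fun i v => next i v) i
  have hX : ∀ i j (hj : j + R ≤ n + R + i), dn (show j ≤ n + R + (i + 1) by omega) (Xs (i + 1)) =
      dn (show j ≤ n + R + i by omega) (Xs i) := fun i => hnext i (Xs i)
  let z : ∀ k, S k := fun k => dn (show k ≤ n + R + k by omega) (Xs k)
  have hz : ∀ k, step @dn k (z (k + 1)) = z k := fun k => (hcomp _ _ _).trans (hX k k (by omega))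
  have hj : ∀ i (hk : n ≤ n + R + i), dn hk (Xs i) = dn (Nat.le_add_right n R) x := by
    intro i
    induction i with
    | zero => intro hk; rfl
    | succ i ih => intro hk; exact (hX i n (by omega)).trans (ih (by omega))
  obtain ⟨v, hv⟩ := exists_mem (step @dn) z hz
  exact ⟨v, (hv n).trans (hj n (by omega))⟩

end obstructions

section leading

variable {d : ℕ} (inK : ∀ n (a : Fin d → A), (∀ j, a j ∈ J ^ (n + 1)) → S (n + 1))
  (hadd : ∀ n a a' ha ha', inK n (a + a') (fun j => Submodule.add_mem _ (ha j) (ha' j)) = inK n a ha + inK n a' ha')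
  (hsmul : ∀ n (r : A) a ha, inK n (r • a) (fun j => Ideal.mul_mem_left _ r (ha j)) = r • inK n a ha)
  (hker : ∀ n y, dn (Nat.le_succ n) y = 0 ↔ ∃ a ha, inK n a ha = y)
  (hzero : ∀ n k (g : A), g ∈ J ^ k → ∀ x : S (n + k), dn (Nat.le_add_right n k) x = 0 → g • x = 0)
  (hmulK : ∀ n k (g : A), g ∈ J ^ k → ∀ (x : S (n + k + 1)) a ha (hga : ∀ j, g * a j ∈ J ^ (n + k + 1)),
    dn (show n + 1 ≤ n + k + 1 by omega) x = inK n a ha → g • x = inK (n + k) (g • a) hga)

include hadd hsmul in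
/-- Coefficients of leading terms of compatible families. -/
def lead (n : ℕ) : Submodule A (Fin d → A) where
  carrier := {a | ∃ (ha : ∀ j, a j ∈ J ^ (n + 1)) (z : limSys (step @dn)),
    projSys (step @dn) n z = 0 ∧ projSys (step @dn) (n + 1) z = inK n a ha}
  zero_mem' := ⟨fun _ => zero_mem _, 0, map_zero _, by
    have := hsmul n 0 0 (fun _ => zero_mem _)
    simp only [zero_smul, smul_zero] at this
    rw [this, map_zero]⟩
  add_mem' := by
    rintro a a' ⟨ha, z, hz, hz1⟩ ⟨ha', z', hz', hz1'⟩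
    exact ⟨fun j => add_mem (ha j) (ha' j), z + z', by rw [map_add, hz, hz', add_zero],
      by rw [map_add, hz1, hz1', ← hadd]⟩
  smul_mem' := by
    rintro r' a ⟨ha, z, hz, hz1⟩
    exact ⟨fun j => Ideal.mul_mem_left _ r' (ha j), r' • z, by rw [map_smul, hz, smul_zero],
      by rw [map_smul, hz1, ← hsmul]⟩

include hadd hsmul hker in
theorem finite_terms (h0 : Module.Finite A (S 0)) : ∀ n, Module.Finite A (S n)
  | 0 => h0
  | n + 1 => by
    haveI := finite_terms h0 n
    let ψ : (Fin d → ↥(J ^ (n + 1))) →ₗ[A] S (n + 1) :=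
      { toFun := fun a => inK n (fun j => (a j : A)) fun j => (a j).2
        map_add' := fun a a' => hadd n (fun j => (a j : A)) (fun j => (a' j : A)) (fun j => (a j).2) fun j => (a' j).2
        map_smul' := fun r a => hsmul n r (fun j => (a j : A)) fun j => (a j).2 }
    exact finite_of_exact ψ (dn (Nat.le_succ n)) fun y => (hker n y).trans
      ⟨fun ⟨a, ha, h⟩ => ⟨fun j => ⟨a j, ha j⟩, h⟩, fun ⟨a, h⟩ => ⟨_, fun j => (a j).2, h⟩⟩

include hcomp hself hadd hsmul hker hzero hmulK in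
/-- The compatible families form a finite module with the adic topology. -/
theorem finite_limSys' [IsPrecomplete J A] (h0 : Module.Finite A (S 0)) :
    Module.Finite A (limSys (step @dn)) ∧
      ∃ R, ∀ k z, projSys (step @dn) (R + k) z = 0 → z ∈ J ^ k • (⊤ : Submodule A (limSys (step @dn))) := by
  classical
  have hmem : ∀ n k (g : A), g ∈ J ^ k → ∀ z : limSys (step @dn), projSys (step @dn) n z = 0 →
      projSys (step @dn) (n + k) (g • z) = 0 := fun n k g hg z hz => by
    rw [map_smul]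
    exact hzero n k g hg _ ((proj_le @dn @hcomp @hself _ z).trans hz)
  have hmem' : ∀ n k (g : A), g ∈ J ^ k → ∀ (z : limSys (step @dn)) a ha
      (hga : ∀ j, g * a j ∈ J ^ (n + k + 1)), projSys (step @dn) (n + 1) z = inK n a ha →
      projSys (step @dn) (n + k + 1) (g • z) = inK (n + k) (g • a) hga := fun n k g hg z a ha hga hz => by
    rw [map_smul]
    exact hmulK n k g hg _ a ha hga ((proj_le @dn @hcomp @hself _ z).trans hz)
  obtain ⟨R, hR⟩ := exists_gen J (lead J @dn inK hadd hsmul)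
    (fun n a ⟨ha, _⟩ j => Ideal.pow_le_pow_right (Nat.le_succ n) (ha j))
    (fun n k g hg a ⟨ha, z, hz, hz1⟩ => by
      have hga : ∀ j, g * a j ∈ J ^ (n + k + 1) := fun j => by
        rw [show n + k + 1 = k + (n + 1) by omega, pow_add]
        exact Ideal.mul_mem_mul hg (ha j)
      exact ⟨hga, g • z, hmem n k g hg z hz, hmem' n k g hg z a ha hga hz1⟩)
  obtain ⟨l, a₀, ha₀⟩ :=
    Submodule.fg_iff_exists_fin_generating_family.1 (IsNoetherian.noetherian (lead J @dn inK hadd hsmul R))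
  choose haR z₀ hz₀ hz₀' using fun i : Fin l => (ha₀ ▸ Submodule.subset_span (Set.mem_range_self i) :
    a₀ i ∈ lead J @dn inK hadd hsmul R)
  have hterm : ∀ k (c : A), c ∈ J ^ k → ∀ i j, c * a₀ i j ∈ J ^ (R + k + 1) := fun k c hc i j => by
    rw [show R + k + 1 = k + (R + 1) by omega, pow_add]
    exact Ideal.mul_mem_mul hc (haR i j)
  have hcomb : ∀ k (c : Fin l → A), (∀ i, c i ∈ J ^ k) → ∀ (s : Finset (Fin l))
      (hs : ∀ j, (∑ i ∈ s, c i • a₀ i) j ∈ J ^ (R + k + 1)),
      inK (R + k) (∑ i ∈ s, c i • a₀ i) hs = ∑ i ∈ s, projSys (step @dn) (R + k + 1) (c i • z₀ i) := by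
    intro k c hc s
    induction s using Finset.induction with
    | empty =>
      intro hs
      have := hsmul (R + k) 0 0 (fun _ => zero_mem _)
      simp only [zero_smul, smul_zero] at this
      simp only [Finset.sum_empty, this]
    | insert i s his ih =>
      intro hs
      have hs' : ∀ j, (∑ i ∈ s, c i • a₀ i) j ∈ J ^ (R + k + 1) := fun j => by
        rw [Finset.sum_apply]
        exact sum_mem fun i' _ => hterm k (c i') (hc i') i' j
      simp only [Finset.sum_insert his]
      rw [← ih hs', hmem' R k (c i) (hc i) (z₀ i) (a₀ i) (haR i) (hterm k (c i) (hc i) i) (hz₀' i), ← hadd]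
  obtain ⟨h1, h2⟩ := finite_of_steps J (projSys (step @dn))
    (fun n m h z hz => by rw [← proj_le @dn @hcomp @hself h, hz, map_zero])
    (fun z hz => limSys_ext _ fun n => (hz n).trans (map_zero _).symm) z₀ R
    (fun k g hg i => hmem R k g hg (z₀ i) (hz₀ i))
    (fun k z hz => by
      obtain ⟨a, ha, hA⟩ := (hker (R + k) (projSys (step @dn) (R + k + 1) z)).1
        ((projSys_map _ (R + k) z).trans hz)
      obtain ⟨c, hc, hca⟩ := (Submodule.mem_ideal_smul_span_iff_exists_sum (J ^ k) a₀ a).1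
        (ha₀.symm ▸ hR k ⟨ha, z, hz, hA.symm⟩)
      replace hca : ∑ i, c i • a₀ i = a :=
        (Finsupp.sum_fintype c _ fun i => zero_smul A (a₀ i)).symm.trans hca
      subst hca
      refine ⟨fun i => c i, hc, ?_⟩
      rw [map_sub, map_sum, ← hcomb k (fun i => c i) hc Finset.univ ha, hA, sub_self])
    (finite_terms J @dn inK hadd hsmul hker h0 R)
  exact ⟨h1, R, h2⟩

end leading

end GrothLib.GenT7.Gen
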