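import Groth.Agent.Lib.GenT7.GenSplit

/-!
# Algebraization of formal locally free modules for normally flat ideals
-/

set_option autoImplicit false
set_option linter.style.haveILetI false
set_option linter.unusedSectionVars false

universe u

open CategoryTheory CategoryTheory.Limits AlgebraicGeometry Opposite

noncomputable section

namespace GrothLib.GenT7.Gen

open GrothLib.Cohom

variable {A : Type u} [CommRing A] [IsNoetherianRing A] {I : Ideal A}

/-- Algebraization from normal flatness and finiteness of local cohomology. -/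
theorem exists_completion_of_stalkFree {J : Ideal A} [IsAdicComplete J A]
    (G : ℕᵒᵖ ⥤ (LocCoh.puncturedOpen A I : Scheme.{u}).Modules) (hG : Formal.IsCohFormal J G)
    (hfree : ∀ n : ℕ, StalkFree J (n + 1) (G.obj (op n)))
    (hflat : ∀ n : ℕ, Module.Flat (A ⧸ J) (↥(J ^ n) ⧸ (J • (⊤ : Submodule A ↥(J ^ n)))))
    (h₁ : Module.Finite A (LocCoh.H I 1 (A ⧸ J))) (h₂ : Module.Finite A (LocCoh.H I 2 (A ⧸ J))) :
    ∃ M : (LocCoh.puncturedOpen A I : Scheme.{u}).Modules, Coh.IsCoh M ∧
      Nonempty (Formal.completion J M ≅ G) := by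
  obtain ⟨g0, g1⟩ := finite_hh_of_stalkFree (A := A) I J (gob G 0) (hG.1 0)
    (fun a ha => hG.2.1 0 a (by rwa [pow_one])) (hfree 0) h₁ h₂
  haveI := g0
  haveI := g1
  obtain ⟨d, e, he⟩ := Module.Finite.exists_fin (R := A)
    (M := Coh.HH (LocCoh.puncturedOpen A I : Scheme.{u}) (gob G 0) 0)
  obtain ⟨b, c, hc⟩ := Module.Finite.exists_fin (R := A)
    (M := Coh.HH (LocCoh.puncturedOpen A I : Scheme.{u}) (gob G 0) 1)
  have hs := fun n => exists_split (LocCoh.puncturedOpen A I) G hG n (hfree (n + 1)) (hflat (n + 1))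
  exact exists_module_completion G hG g0 c (clsSurj_of_split G hG c hc hs) e (clsSurj_of_split G hG e he hs)

/-- Algebraization of systems free on opens from normal flatness and finiteness of local cohomology. -/
theorem exists_completion_of_normallyFlat {J : Ideal A} [IsAdicComplete J A]
    (G : ℕᵒᵖ ⥤ (LocCoh.puncturedOpen A I : Scheme.{u}).Modules) (hG : Formal.IsCohFormal J G)
    (hfree : ∀ n : ℕ, Formal2.IsFinLocFreeMod J (n + 1) (G.obj (op n)))
    (hflat : ∀ n : ℕ, Module.Flat (A ⧸ J) (↥(J ^ n) ⧸ (J • (⊤ : Submodule A ↥(J ^ n)))))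
    (h₁ : Module.Finite A (LocCoh.H I 1 (A ⧸ J))) (h₂ : Module.Finite A (LocCoh.H I 2 (A ⧸ J))) :
    ∃ M : (LocCoh.puncturedOpen A I : Scheme.{u}).Modules, Coh.IsCoh M ∧
      Nonempty (Formal.completion J M ≅ G) :=
  exists_completion_of_stalkFree G hG (fun n => stalkFree_of_isFinLocFreeMod (hfree n)) hflat h₁ h₂

end GrothLib.GenT7.Gen
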