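import Groth.Agent.Lib.GenT7.GenUp
import Groth.Agent.Lib.GenT7.GenLim

/-!
# Sections of a formal system with graded finiteness in degrees zero and one
-/

set_option autoImplicit false
set_option linter.style.haveILetI false
set_option linter.unusedSectionVars false

universe u

open CategoryTheory CategoryTheory.Limits AlgebraicGeometry Opposite

noncomputable section

namespace GrothLib.GenT7.Gen

open GrothLib.FormalSys GrothLib.Cohom GrothLib.FormalFun

variable {A : Type u} [CommRing A] [IsNoetherianRing A] {X : Scheme.{u}} [X.Over (Spec (CommRingCat.of A))]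
variable {J : Ideal A} (G : ℕᵒᵖ ⥤ X.Modules) (hG : Formal.IsCohFormal J G)

/-- The maps down on sections. -/
abbrev sd {m n : ℕ} (h : n ≤ m) : Coh.HH X (gob G m) 0 →ₗ[A] Coh.HH X (gob G n) 0 := hhMap A (gdn G h) 0

theorem sd_comp {m n k : ℕ} (h₁ : n ≤ m) (h₂ : k ≤ n) (x : Coh.HH X (gob G m) 0) :
    sd (A := A) G h₂ (sd (A := A) G h₁ x) = sd (A := A) G (h₂.trans h₁) x :=
  (hhMap_comp _ _ 0 x).trans (congrArg (fun φ => hhMap A φ 0 x) (gdn_comp G h₁ h₂))

theorem sd_self {n : ℕ} (x : Coh.HH X (gob G n) 0) : sd (A := A) G (le_refl n) x = x :=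
  (congrArg (fun φ => hhMap A φ 0 x) (gdn_self G n _)).trans (hhMap_id 0 x)

include hG in
theorem smul_eq_up {n m k : ℕ} {g : A} (hg : g ∈ J ^ k) (h : n ≤ m) (h' : m ≤ n + k) (x : Coh.HH X (gob G m) 0) :
    g • x = hhMap A (up G hG hg h h') 0 (sd (A := A) G h x) :=
  ((hhMap_smulMod g 0 x).symm.trans (congrArg (fun φ => hhMap A φ 0 x) (dn_up G hG hg h h').symm)).trans
    (hhMap_comp _ _ 0 x).symm

theorem delta_exact (n : ℕ) (x : Coh.HH X (gob G n) 0) (h : δ G hG n x = 0) :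
    ∃ y, sd (A := A) G (Nat.le_succ n) y = x :=
  (exact₃ (A := A) (kerSeq_shortExact G hG n) 0 x).1 h

variable {b : ℕ} (c : Fin b → Coh.HH X (gob G 0) 1)

theorem delta_mul (r n k : ℕ) (g : A) (hg : g ∈ J ^ k) (a : Fin b → A) (ha : ∀ j, a j ∈ J ^ (n + 1))
    (x : Coh.HH X (gob G n) 0) (hx : x ∈ zb (S := fun n => Coh.HH X (gob G n) 0) (fun {m n} h => sd (A := A) G h) r n)
    (e : δ G hG n x = cls G hG c n a ha) (hga : ∀ j, g * a j ∈ J ^ (n + k + 1)) :
    ∃ x' ∈ zb (S := fun n => Coh.HH X (gob G n) 0) (fun {m n} h => sd (A := A) G h) r (n + k),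
      δ G hG (n + k) x' = cls G hG c (n + k) (g • a) hga := by
  refine ⟨hhMap A (up G hG hg (Nat.le_add_right n k) le_rfl) 0 x, ?_, ?_⟩
  · rw [mem_zb] at hx ⊢
    intro j hj
    by_cases hjk : j < k
    · exact (hhMap_comp _ _ 0 x).trans ((congrArg (fun φ => hhMap A φ 0 x)
        (up_dn_zero G hG hg _ _ _ hjk)).trans (hhMap_zero 0 x))
    · refine (hhMap_comp _ _ 0 x).trans ((congrArg (fun φ => hhMap A φ 0 x)
        (up_dn G hG hg _ _ _ (show j - k ≤ n by omega) (show j - k ≤ j by omega) (by omega))).trans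
        ((hhMap_comp _ _ 0 x).symm.trans ?_))
      exact (congrArg (hhMap A _ 0) (hx (j - k) (by omega))).trans (map_zero _)
  · exact (δ_up G hG hg x).trans ((congrArg (hhMap A (κ G hG hg) 1) e).trans (cls_κ G hG c hg a ha hga))

variable {d : ℕ} (e : Fin d → Coh.HH X (gob G 0) 0)

/-- The image of a class in the next level. -/
def inK (n : ℕ) (a : Fin d → A) (ha : ∀ j, a j ∈ J ^ (n + 1)) : Coh.HH X (gob G (n + 1)) 0 :=
  hhMap A (kernel.ι (gdn G (Nat.le_succ n))) 0 (cls G hG e n a ha)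

theorem inK_add (n : ℕ) (a a' : Fin d → A) (ha : ∀ j, a j ∈ J ^ (n + 1)) (ha' : ∀ j, a' j ∈ J ^ (n + 1)) :
    inK G hG e n (a + a') (fun j => Submodule.add_mem _ (ha j) (ha' j)) =
      inK G hG e n a ha + inK G hG e n a' ha' :=
  (congrArg _ (cls_add G hG e n a a' ha ha')).trans (map_add _ _ _)

theorem inK_smul (n : ℕ) (r : A) (a : Fin d → A) (ha : ∀ j, a j ∈ J ^ (n + 1)) :
    inK G hG e n (r • a) (fun j => Ideal.mul_mem_left _ r (ha j)) = r • inK G hG e n a ha :=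
  (congrArg _ (cls_smul G hG e n r a ha)).trans (map_smul _ _ _)

theorem ker_sd (he : ClsSurj G hG e) (n : ℕ) (y : Coh.HH X (gob G (n + 1)) 0) :
    sd (A := A) G (Nat.le_succ n) y = 0 ↔ ∃ a ha, inK G hG e n a ha = y := by
  constructor
  · intro hy
    obtain ⟨w, hw⟩ := (exact₂ (A := A) (kerSeq_shortExact G hG n) 0 y).1 hy
    obtain ⟨a, ha, h⟩ := he n w
    exact ⟨a, ha, (congrArg _ h).trans hw⟩
  · rintro ⟨a, ha, rfl⟩
    exact (hhMap_comp _ _ 0 _).trans ((congrArg (fun φ => hhMap A φ 0 (cls G hG e n a ha))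
      (kernel.condition (gdn G (Nat.le_succ n)))).trans (hhMap_zero 0 _))

include hG in
theorem smul_zero_of_sd (n k : ℕ) (g : A) (hg : g ∈ J ^ k) (x : Coh.HH X (gob G (n + k)) 0)
    (hx : sd (A := A) G (Nat.le_add_right n k) x = 0) : g • x = 0 :=
  (smul_eq_up G hG hg _ le_rfl x).trans ((congrArg _ hx).trans (map_zero _))

theorem smul_inK (n k : ℕ) (g : A) (hg : g ∈ J ^ k) (x : Coh.HH X (gob G (n + k + 1)) 0) (a : Fin d → A)
    (ha : ∀ j, a j ∈ J ^ (n + 1)) (hga : ∀ j, g * a j ∈ J ^ (n + k + 1))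
    (hx : sd (A := A) G (show n + 1 ≤ n + k + 1 by omega) x = inK G hG e n a ha) :
    g • x = inK G hG e (n + k) (g • a) hga := by
  refine (smul_eq_up G hG hg (show n + 1 ≤ n + k + 1 by omega) (by omega) x).trans ((congrArg _ hx).trans ?_)
  refine (hhMap_comp _ _ 0 _).trans ((congrArg (fun φ => hhMap A φ 0 (cls G hG e n a ha))
    (κ_ι G hG hg).symm).trans ((hhMap_comp _ _ 0 _).symm.trans ?_))
  exact congrArg _ (cls_κ G hG e hg a ha hga)

end GrothLib.GenT7.Gen
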