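import Groth.Agent.Lib.GenT7.Tower

/-!
# Multiplication by an ideal in a formal system
-/

set_option autoImplicit false
set_option linter.style.haveILetI false
set_option linter.unusedSectionVars false

universe u

open CategoryTheory CategoryTheory.Limits AlgebraicGeometry Opposite

noncomputable section

namespace GrothLib.GenT7.Gen

open GrothLib.FormalSys GrothLib.Cohom GrothLib.FormalFun

variable {A : Type u} [CommRing A] {X : Scheme.{u}} [X.Over (Spec (CommRingCat.of A))]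

theorem smulMod_zero (M : X.Modules) : Formal.smulMod A M 0 = 0 :=
  killedBy_bot M 0 (Submodule.zero_mem _)

theorem hhMap_add' {M N : X.Modules} (f g : M ⟶ N) (p : ℕ) (x : Coh.HH X M p) :
    hhMap A (f + g) p x = hhMap A f p x + hhMap A g p x := by
  rw [hhMap_apply, hhMap_apply, hhMap_apply, H_map_eq_comp, H_map_eq_comp, H_map_eq_comp, Functor.map_add,
    Abelian.Ext.mk₀_add, Abelian.Ext.comp_add]

variable {J : Ideal A} (G : ℕᵒᵖ ⥤ X.Modules) (hG : Formal.IsCohFormal J G)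

include hG in
theorem exists_up {n m k : ℕ} {a : A} (ha : a ∈ J ^ k) (h : n ≤ m) (h' : m ≤ n + k) :
    ∃ f : gob G n ⟶ gob G m, gdn G h ≫ f = Formal.smulMod A (gob G m) a :=
  IsQuot.exists_desc (isQuot_map hG h) _ fun b hb => by
    rw [← smulMod_mul]
    refine hG.2.1 m _ (Ideal.pow_le_pow_right (show m + 1 ≤ k + (n + 1) by omega) ?_)
    rw [pow_add]
    exact Ideal.mul_mem_mul ha hb

/-- Multiplication upwards. -/
def up {n m k : ℕ} {a : A} (ha : a ∈ J ^ k) (h : n ≤ m) (h' : m ≤ n + k) : gob G n ⟶ gob G m :=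
  (exists_up G hG ha h h').choose

theorem dn_up {n m k : ℕ} {a : A} (ha : a ∈ J ^ k) (h : n ≤ m) (h' : m ≤ n + k) :
    gdn G h ≫ up G hG ha h h' = Formal.smulMod A (gob G m) a :=
  (exists_up G hG ha h h').choose_spec

include hG in
theorem epi_dn {n m : ℕ} (h : n ≤ m) : Epi (gdn G h) := (isQuot_map hG h).epi

include hG in
theorem kill {n k : ℕ} {a : A} (ha : a ∈ J ^ k) (h : n < k) : Formal.smulMod A (gob G n) a = 0 :=
  hG.2.1 n a (Ideal.pow_le_pow_right h ha)

theorem up_dn {n m k i j : ℕ} {a : A} (ha : a ∈ J ^ k) (h : n ≤ m) (h' : m ≤ n + k) (hj : j ≤ m) (hi : i ≤ n)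
    (hij : i ≤ j) (hij' : j ≤ i + k) :
    up G hG ha h h' ≫ gdn G hj = gdn G hi ≫ up G hG ha hij hij' := by
  haveI := epi_dn G hG h
  rw [← cancel_epi (gdn G h), ← Category.assoc, dn_up, smulMod_naturality]
  refine Eq.trans ?_ ((Category.assoc _ _ _).trans rfl)
  rw [gdn_comp, ← gdn_comp G hj hij, Category.assoc, dn_up]

theorem up_dn_zero {n m k j : ℕ} {a : A} (ha : a ∈ J ^ k) (h : n ≤ m) (h' : m ≤ n + k) (hj : j ≤ m)
    (hjk : j < k) : up G hG ha h h' ≫ gdn G hj = 0 := by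
  haveI := epi_dn G hG h
  rw [← cancel_epi (gdn G h), ← Category.assoc, dn_up, smulMod_naturality, kill G hG ha hjk, comp_zero, comp_zero]

theorem up_up {n m l k k' : ℕ} {a g : A} (ha : a ∈ J ^ k) (hg : g ∈ J ^ k') (h : n ≤ m) (h' : m ≤ n + k)
    (h₂ : m ≤ l) (h₂' : l ≤ m + k') (hga : g * a ∈ J ^ (k + k')) :
    up G hG ha h h' ≫ up G hG hg h₂ h₂' = up G hG hga (h.trans h₂) (by omega) := by
  haveI := epi_dn G hG (h.trans h₂)
  rw [← cancel_epi (gdn G (h.trans h₂)), dn_up]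
  have e : gdn G h₂ ≫ gdn G h = gdn G (h.trans h₂) := gdn_comp G h₂ h
  rw [← e, Category.assoc, ← Category.assoc (gdn G h), dn_up, smulMod_naturality, ← Category.assoc, dn_up,
    mul_comm, smulMod_mul]

theorem dn_up_self {n k : ℕ} {a : A} (ha : a ∈ J ^ k) :
    up G hG ha (le_refl n) (Nat.le_add_right n k) = Formal.smulMod A (gob G n) a := by
  have := dn_up G hG ha (le_refl n) (Nat.le_add_right n k)
  rwa [gdn_self, Category.id_comp] at this

/-- The kernel of one step down. -/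
abbrev K (n : ℕ) : X.Modules := kernel (gdn G (Nat.le_succ n))

/-- Multiplication from level zero into the kernel. -/
def μ (n : ℕ) {a : A} (ha : a ∈ J ^ (n + 1)) : gob G 0 ⟶ K G n :=
  kernel.lift _ (up G hG ha (Nat.zero_le (n + 1)) (by omega))
    (up_dn_zero G hG ha _ _ _ (Nat.lt_succ_self n))

theorem μ_ι (n : ℕ) {a : A} (ha : a ∈ J ^ (n + 1)) :
    μ G hG n ha ≫ kernel.ι _ = up G hG ha (Nat.zero_le (n + 1)) (by omega) :=
  kernel.lift_ι _ _ _

theorem μ_add (n : ℕ) {a b : A} (ha : a ∈ J ^ (n + 1)) (hb : b ∈ J ^ (n + 1)) :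
    μ G hG n (Submodule.add_mem _ ha hb) = μ G hG n ha + μ G hG n hb := by
  haveI := epi_dn G hG (Nat.zero_le (n + 1))
  rw [← cancel_mono (kernel.ι (gdn G (Nat.le_succ n))), Preadditive.add_comp, μ_ι, μ_ι, μ_ι,
    ← cancel_epi (gdn G (Nat.zero_le (n + 1))), Preadditive.comp_add, dn_up, dn_up, dn_up, smulMod_add]

theorem μ_smul (n : ℕ) {a : A} (r : A) (ha : a ∈ J ^ (n + 1)) :
    μ G hG n (Ideal.mul_mem_left _ r ha) = Formal.smulMod A (gob G 0) r ≫ μ G hG n ha := by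
  haveI := epi_dn G hG (Nat.zero_le (n + 1))
  rw [← cancel_mono (kernel.ι (gdn G (Nat.le_succ n))), Category.assoc, μ_ι, μ_ι,
    ← cancel_epi (gdn G (Nat.zero_le (n + 1))), dn_up, ← Category.assoc, ← smulMod_naturality, Category.assoc,
    dn_up, mul_comm, smulMod_mul]

theorem μ_congr (n : ℕ) {a b : A} (ha : a ∈ J ^ (n + 1)) (hb : b ∈ J ^ (n + 1)) (h : a - b ∈ J ^ (n + 2)) :
    μ G hG n ha = μ G hG n hb := by
  haveI := epi_dn G hG (Nat.zero_le (n + 1))
  rw [← cancel_mono (kernel.ι (gdn G (Nat.le_succ n))), μ_ι, μ_ι, ← cancel_epi (gdn G (Nat.zero_le (n + 1))),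
    dn_up, dn_up, show a = b + (a - b) by ring, smulMod_add, kill G hG h (Nat.lt_succ_self (n + 1)), add_zero]

/-- The map of kernels induced by multiplication upwards. -/
def κ {n k : ℕ} {g : A} (hg : g ∈ J ^ k) : K G n ⟶ K G (n + k) :=
  kernel.map _ _ (up G hG hg (show n + 1 ≤ n + k + 1 by omega) (by omega))
    (up G hG hg (Nat.le_add_right n k) le_rfl)
    (up_dn G hG hg _ _ _ _ _ _).symm

theorem κ_ι {n k : ℕ} {g : A} (hg : g ∈ J ^ k) : κ G hG (n := n) hg ≫ kernel.ι _ =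
    kernel.ι _ ≫ up G hG hg (show n + 1 ≤ n + k + 1 by omega) (by omega) :=
  kernel.lift_ι _ _ _

theorem μ_κ {n k : ℕ} {a g : A} (ha : a ∈ J ^ (n + 1)) (hg : g ∈ J ^ k) (hga : g * a ∈ J ^ (n + k + 1)) :
    μ G hG n ha ≫ κ G hG hg = μ G hG (n + k) hga := by
  rw [← cancel_mono (kernel.ι (gdn G (Nat.le_succ (n + k)))), Category.assoc, κ_ι, ← Category.assoc, μ_ι, μ_ι]
  haveI := epi_dn G hG (Nat.zero_le (n + k + 1))
  have hga' : g * a ∈ J ^ (n + 1 + k) := by rwa [show n + 1 + k = n + k + 1 by omega]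
  rw [up_up G hG ha hg _ _ _ _ hga', ← cancel_epi (gdn G (Nat.zero_le (n + k + 1))), dn_up]
  exact (dn_up G hG hga _ _).symm

include hG in
theorem kerSeq_shortExact (n : ℕ) :
    (ShortComplex.mk (kernel.ι (gdn G (Nat.le_succ n))) (gdn G (Nat.le_succ n)) (kernel.condition _)).ShortExact :=
  haveI := epi_dn G hG (Nat.le_succ n)
  { exact := ShortComplex.exact_of_f_is_kernel _ (kernelIsKernel _) }

/-- The connecting map to `H¹` of the kernel. -/
def δ (n : ℕ) : Coh.HH X (gob G n) 0 →ₗ[A] Coh.HH X (K G n) 1 :=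
  hhDelta A (kerSeq_shortExact G hG n) 0

theorem δ_up {n k : ℕ} {g : A} (hg : g ∈ J ^ k) (x : Coh.HH X (gob G n) 0) :
    δ G hG (n + k) (hhMap A (up G hG hg (Nat.le_add_right n k) le_rfl) 0 x) =
      hhMap A (κ G hG hg) 1 (δ G hG n x) :=
  hhDelta_naturality (kerSeq_shortExact G hG n) (kerSeq_shortExact G hG (n + k))
    (ShortComplex.homMk (κ G hG hg) (up G hG hg (show n + 1 ≤ n + k + 1 by omega) (by omega))
      (up G hG hg (Nat.le_add_right n k) le_rfl) (κ_ι G hG hg) (up_dn G hG hg _ _ _ _ _ _)) 0 x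

variable {p b : ℕ} (c : Fin b → Coh.HH X (gob G 0) p)

/-- The class with given coefficients. -/
def cls (n : ℕ) (a : Fin b → A) (ha : ∀ j, a j ∈ J ^ (n + 1)) : Coh.HH X (K G n) p :=
  ∑ j, hhMap A (μ G hG n (ha j)) p (c j)

theorem cls_add (n : ℕ) (a a' : Fin b → A) (ha : ∀ j, a j ∈ J ^ (n + 1)) (ha' : ∀ j, a' j ∈ J ^ (n + 1)) :
    cls G hG c n (a + a') (fun j => Submodule.add_mem _ (ha j) (ha' j)) =
      cls G hG c n a ha + cls G hG c n a' ha' := by
  rw [cls, cls, cls, ← Finset.sum_add_distrib]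
  exact Finset.sum_congr rfl fun j _ => by rw [μ_add G hG n (ha j) (ha' j), hhMap_add']

theorem cls_smul (n : ℕ) (r : A) (a : Fin b → A) (ha : ∀ j, a j ∈ J ^ (n + 1)) :
    cls G hG c n (r • a) (fun j => Ideal.mul_mem_left _ r (ha j)) = r • cls G hG c n a ha := by
  rw [cls, cls, Finset.smul_sum]
  refine Finset.sum_congr rfl fun j _ => ?_
  refine (congrArg (fun φ => hhMap A φ p (c j)) (μ_smul G hG n r (ha j))).trans ?_
  rw [← hhMap_comp, hhMap_smulMod, map_smul]

theorem cls_κ {n k : ℕ} {g : A} (hg : g ∈ J ^ k) (a : Fin b → A) (ha : ∀ j, a j ∈ J ^ (n + 1))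
    (hga : ∀ j, g * a j ∈ J ^ (n + k + 1)) :
    hhMap A (κ G hG hg) p (cls G hG c n a ha) = cls G hG c (n + k) (g • a) hga := by
  rw [cls, cls, map_sum]
  exact Finset.sum_congr rfl fun j _ => by rw [hhMap_comp, μ_κ G hG (ha j) hg (hga j)]

/-- The classes with coefficients from `J ^ (n + 1)` exhaust the cohomology of the kernels. -/
def ClsSurj : Prop :=
  ∀ n (y : Coh.HH X (K G n) p), ∃ (a : Fin b → A) (ha : ∀ j, a j ∈ J ^ (n + 1)), cls G hG c n a ha = y

end GrothLib.GenT7.Gen
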