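import Mathlib.RingTheory.ReesAlgebra
import Mathlib.RingTheory.Filtration
import Mathlib.RingTheory.Noetherian.Basic

/-!
# Families of submodules graded over the powers of an ideal are generated in bounded degree
-/

set_option autoImplicit false
universe u

open Polynomial

namespace GrothLib.GenT7

variable {A : Type u} [CommRing A] [IsNoetherianRing A] (J : Ideal A) {b : ℕ}

/-- An increasing family of graded submodules of `(⊕ J ^ q) ^ b` stabilises. -/
theorem exists_bound (P : ℕ → ℕ → Submodule A (Fin b → A)) (hmono : ∀ r q, P r q ≤ P (r + 1) q)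
    (hJ : ∀ r q, ∀ a ∈ P r q, ∀ j, a j ∈ J ^ q)
    (hmul : ∀ r q k, ∀ g ∈ J ^ k, ∀ a ∈ P r q, g • a ∈ P r (q + k)) :
    ∃ R, ∀ r q, P r q ≤ P R q := by
  classical
  let R' := reesAlgebra J
  let W : ℕ → Submodule R' (Fin b → R') := fun r =>
    { carrier := {f | ∀ q, (fun j => (f j : A[X]).coeff q) ∈ P r q}
      zero_mem' := fun q => by
        have : (fun j => (((0 : Fin b → R') j : R') : A[X]).coeff q) = 0 := funext fun j => by simp
        rw [this]; exact zero_mem _
      add_mem' := fun {f g} hf hg q => by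
        have : (fun j => (((f + g) j : R') : A[X]).coeff q) =
            (fun j => (f j : A[X]).coeff q) + fun j => (g j : A[X]).coeff q := funext fun j => by simp
        rw [this]; exact add_mem (hf q) (hg q)
      smul_mem' := fun c f hf q => by
        have : (fun j => (((c • f) j : R') : A[X]).coeff q) =
            ∑ x ∈ Finset.antidiagonal q, (c : A[X]).coeff x.1 • fun j => (f j : A[X]).coeff x.2 :=
          funext fun j => by
            simp [Finset.sum_apply, coeff_mul]
        rw [this]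
        refine sum_mem fun x hx => ?_
        have hq : x.2 + x.1 = q := by rw [add_comm]; exact Finset.mem_antidiagonal.1 hx
        exact hq ▸ hmul r x.2 x.1 _ (c.2 x.1) _ (hf x.2) }
  have hW : Monotone W := monotone_nat_of_le_succ fun r f hf q => hmono r q (hf q)
  obtain ⟨R, hR⟩ := monotone_stabilizes_iff_noetherian.2
    (inferInstance : IsNoetherian R' (Fin b → R')) ⟨W, hW⟩
  refine ⟨R, fun r q a ha => ?_⟩
  have hle : ∀ r', W r' ≤ W R := fun r' => by
    rcases le_total r' R with h | h
    · exact hW h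
    · exact (hR r' h).ge
  let f : Fin b → R' := fun j => ⟨monomial q (a j), reesAlgebra.monomial_mem.2 (hJ r q a ha j)⟩
  have hf : f ∈ W r := fun q' => by
    by_cases h : q = q'
    · subst h
      have : (fun j => (f j : A[X]).coeff q) = a := funext fun j => by simp [f]
      rw [this]; exact ha
    · have : (fun j => (f j : A[X]).coeff q') = 0 := funext fun j => by simp [f, coeff_monomial, h]
      rw [this]; exact zero_mem _
  have h2 := hle r hf q
  have : (fun j => (f j : A[X]).coeff q) = a := funext fun j => by simp [f]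
  rwa [this] at h2

/-- A graded submodule of `(⊕ J ^ q) ^ b` is generated in bounded degree. -/
theorem exists_gen (P : ℕ → Submodule A (Fin b → A)) (hJ : ∀ q, ∀ a ∈ P q, ∀ j, a j ∈ J ^ q)
    (hmul : ∀ q k, ∀ g ∈ J ^ k, ∀ a ∈ P q, g • a ∈ P (q + k)) :
    ∃ R, ∀ k, P (R + k) ≤ J ^ k • P R := by
  let P' : ℕ → ℕ → Submodule A (Fin b → A) := fun r q =>
    ⨆ i ∈ {i | i ≤ r ∧ i ≤ q}, J ^ (q - i) • P i
  have hP' : ∀ r q, P' r q ≤ P q := fun r q => iSup₂_le fun i hi => Submodule.smul_le.2 fun g hg a ha => by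
    have := hmul i (q - i) g hg a ha
    rwa [Nat.add_sub_cancel' hi.2] at this
  have hmul' : ∀ r q k, ∀ g ∈ J ^ k, ∀ a ∈ P' r q, g • a ∈ P' r (q + k) := fun r q k g hg a ha => by
    have h2 : g • a ∈ J ^ k • P' r q := Submodule.smul_mem_smul hg ha
    have h3 : J ^ k • P' r q ≤ P' r (q + k) := by
      show J ^ k • (⨆ i ∈ {i | i ≤ r ∧ i ≤ q}, J ^ (q - i) • P i) ≤ _
      rw [Submodule.smul_iSup]
      refine iSup_le fun i => ?_
      rw [Submodule.smul_iSup]
      refine iSup_le fun hi => ?_
      rw [← Submodule.mul_smul, ← pow_add, show k + (q - i) = q + k - i by have := hi.2; omega]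
      exact le_iSup₂_of_le (f := fun i (_ : i ∈ {i | i ≤ r ∧ i ≤ q + k}) => J ^ (q + k - i) • P i) i
        ⟨hi.1, Nat.le_add_right_of_le hi.2⟩ le_rfl
    exact h3 h2
  obtain ⟨R, hR⟩ := exists_bound J P' (fun r q => iSup₂_le fun i hi =>
      le_iSup₂_of_le (f := fun i (_ : i ∈ {i | i ≤ r + 1 ∧ i ≤ q}) => J ^ (q - i) • P i) i
        ⟨Nat.le_succ_of_le hi.1, hi.2⟩ le_rfl)
    (fun r q a ha => hJ q a (hP' r q ha)) hmul'
  refine ⟨R, fun k => ?_⟩
  have h1 : P (R + k) ≤ P' (R + k) (R + k) :=
    le_iSup₂_of_le (f := fun i (_ : i ∈ {i | i ≤ R + k ∧ i ≤ R + k}) => J ^ (R + k - i) • P i) (R + k)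
      ⟨le_rfl, le_rfl⟩ (by rw [Nat.sub_self, pow_zero, Ideal.one_eq_top, Submodule.top_smul])
  refine h1.trans ((hR _ _).trans (iSup₂_le fun i hi => ?_))
  rw [show R + k - i = k + (R - i) by have := hi.1; omega, pow_add, Submodule.mul_smul]
  refine smul_mono_right (J ^ k) (Submodule.smul_le.2 fun g hg a ha => ?_)
  have := hmul i (R - i) g hg a ha
  rwa [Nat.add_sub_cancel' hi.1] at this

end GrothLib.GenT7
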