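import Groth.Agent.Lib.FormalSys.Principal
import Groth.Agent.Lib.FormalFun.Basic
import Groth.Agent.Lib.GenT7.Seq
import Groth.Agent.Lib.Punctured.LocalCohom

/-!
# Lifting sections of a regular formal system from the finiteness of `H⁰` and `H¹` at level zero
-/

set_option autoImplicit false
set_option linter.style.haveILetI false
set_option linter.unusedSectionVars false

universe u

open CategoryTheory CategoryTheory.Limits AlgebraicGeometry Opposite

noncomputable section

namespace GrothLib.GenT7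

open GrothLib.FormalSys GrothLib.Cohom GrothLib.FormalFun

variable {A : Type u} [CommRing A] {X : Scheme.{u}} [X.Over (Spec (CommRingCat.of A))]
  (t : A) (G : ℕᵒᵖ ⥤ X.Modules)

/-- The terms. -/
abbrev gob (n : ℕ) : X.Modules := G.obj (op n)

/-- The maps down. -/
abbrev gdn {m n : ℕ} (h : n ≤ m) : gob G m ⟶ gob G n := G.map (homOfLE h).op

theorem gdn_comp {m n k : ℕ} (h₁ : n ≤ m) (h₂ : k ≤ n) : gdn G h₁ ≫ gdn G h₂ = gdn G (h₂.trans h₁) :=
  (G.map_comp _ _).symm.trans (congrArg G.map (Subsingleton.elim _ _))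

theorem gdn_self (n : ℕ) (h : n ≤ n) : gdn G h = 𝟙 _ :=
  (congrArg G.map (Subsingleton.elim _ _)).trans (G.map_id _)

/-- The torsion of `t` on the `n`-th term comes from `t ^ n`. -/
def Reg : Prop := ∀ n {T : X.Modules} (z : T ⟶ gob G n), z ≫ Formal.smulMod A _ t = 0 →
  ∃ (T' : X.Modules) (π : T' ⟶ T) (_ : Epi π) (w : T' ⟶ gob G n), π ≫ z = w ≫ Formal.smulMod A _ (t ^ n)

variable (hG : Formal.IsCohFormal (Ideal.span ({t} : Set A)) G) (hreg : Reg t G)

include hG in
theorem smul_eq_zero_of_le {n m : ℕ} (h : n + 1 ≤ m) : Formal.smulMod A (gob G n) (t ^ m) = 0 :=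
  hG.2.1 n _ (Ideal.pow_le_pow_right h (Ideal.pow_mem_pow (Ideal.mem_span_singleton_self t) m))

include hG in
theorem smul_zero_level : Formal.smulMod A (gob G 0) t = 0 := by
  have := smul_eq_zero_of_le t G hG (n := 0) (m := 1) le_rfl
  rwa [pow_one] at this

include hG in
theorem exists_up (n : ℕ) : ∃ i : gob G n ⟶ gob G (n + 1),
    gdn G (Nat.le_succ n) ≫ i = Formal.smulMod A (gob G (n + 1)) t :=
  IsQuot.exists_desc (hG.2.2 n) _ fun a ha => by
    rw [← smulMod_mul]
    refine hG.2.1 (n + 1) _ ?_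
    rw [pow_succ' _ (n + 1)]
    exact Ideal.mul_mem_mul (Ideal.mem_span_singleton_self t) ha

/-- Multiplication by `t` upwards. -/
def up (n : ℕ) : gob G n ⟶ gob G (n + 1) := (exists_up t G hG n).choose

theorem dn_up (n : ℕ) : gdn G (Nat.le_succ n) ≫ up t G hG n = Formal.smulMod A (gob G (n + 1)) t :=
  (exists_up t G hG n).choose_spec

theorem up_dn (n : ℕ) : up t G hG n ≫ gdn G (Nat.le_succ n) = Formal.smulMod A (gob G n) t := by
  haveI : Epi (gdn G (Nat.le_succ n)) := IsQuot.epi (hG.2.2 n)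
  rw [← cancel_epi (gdn G (Nat.le_succ n)), ← Category.assoc, dn_up, smulMod_naturality]

include hreg in
theorem mono_up (n : ℕ) : Mono (up t G hG n) := by
  refine Preadditive.mono_of_cancel_zero _ fun {T} z hz => ?_
  haveI : Epi (gdn G (Nat.le_succ n)) := IsQuot.epi (hG.2.2 n)
  obtain ⟨T', π, hπ, z', hz'⟩ := surjective_up_to_refinements_of_epi (gdn G (Nat.le_succ n)) z
  obtain ⟨T'', π', hπ', w, hw⟩ := hreg (n + 1) z' (by
    rw [← dn_up t G hG n, ← Category.assoc, ← hz', Category.assoc, hz, comp_zero])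
  haveI := hπ
  haveI := hπ'
  rw [← cancel_epi π, ← cancel_epi π', comp_zero, comp_zero, hz', ← Category.assoc, hw, Category.assoc,
    smulMod_naturality, smul_eq_zero_of_le t G hG le_rfl, comp_zero, comp_zero]

/-- Iterated multiplication by `t` upwards. -/
def ups (c : ℕ) : ∀ j, gob G c ⟶ gob G (c + j)
  | 0 => 𝟙 _
  | j + 1 => ups c j ≫ up t G hG (c + j)

theorem ups_zero (c : ℕ) : ups t G hG c 0 = 𝟙 _ := rfl

theorem ups_succ (c j : ℕ) : ups t G hG c (j + 1) = ups t G hG c j ≫ up t G hG (c + j) := rfl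

theorem dn_ups (c : ℕ) : ∀ j, gdn G (Nat.le_add_right c j) ≫ ups t G hG c j =
    Formal.smulMod A (gob G (c + j)) (t ^ j)
  | 0 => by rw [pow_zero, smulMod_one]; exact (congrArg (· ≫ _) (gdn_self G c _)).trans (Category.id_comp _)
  | j + 1 => by
    have e : gdn G (Nat.le_add_right c (j + 1)) = gdn G (Nat.le_succ (c + j)) ≫ gdn G (Nat.le_add_right c j) :=
      (gdn_comp G _ _).symm
    rw [e, ups_succ, Category.assoc, ← Category.assoc (gdn G (Nat.le_add_right c j)), dn_ups c j,
      smulMod_naturality, ← Category.assoc, dn_up, pow_succ, smulMod_mul]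
    rfl

theorem ups_dn_eq_zero {c j n : ℕ} (hj : n + 1 ≤ j) (hn : n ≤ c + j) : ups t G hG c j ≫ gdn G hn = 0 := by
  haveI : Epi (gdn G (Nat.le_add_right c j)) := (isQuot_map hG _).epi
  rw [← cancel_epi (gdn G (Nat.le_add_right c j)), ← Category.assoc, dn_ups, smulMod_naturality,
    smul_eq_zero_of_le t G hG hj, comp_zero, comp_zero]

/-- The inclusion of level zero. -/
def bot : ∀ n, gob G 0 ⟶ gob G n
  | 0 => 𝟙 _
  | n + 1 => bot n ≫ up t G hG n

theorem bot_succ (n : ℕ) : bot t G hG (n + 1) = bot t G hG n ≫ up t G hG n := rfl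

theorem dn_bot : ∀ n, gdn G (Nat.zero_le n) ≫ bot t G hG n = Formal.smulMod A (gob G n) (t ^ n)
  | 0 => by rw [pow_zero, smulMod_one]; exact (congrArg (· ≫ _) (gdn_self G 0 _)).trans (Category.id_comp _)
  | n + 1 => by
    have e : gdn G (Nat.zero_le (n + 1)) = gdn G (Nat.le_succ n) ≫ gdn G (Nat.zero_le n) := (gdn_comp G _ _).symm
    rw [e, bot_succ, Category.assoc, ← Category.assoc (gdn G (Nat.zero_le n)), dn_bot n, smulMod_naturality,
      ← Category.assoc, dn_up, pow_succ, smulMod_mul]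

theorem bot_dn (n : ℕ) : bot t G hG (n + 1) ≫ gdn G (Nat.le_succ n) = 0 := by
  haveI : Epi (gdn G (Nat.zero_le (n + 1))) := (isQuot_map hG _).epi
  rw [← cancel_epi (gdn G (Nat.zero_le (n + 1))), ← Category.assoc, dn_bot, smulMod_naturality,
    smul_eq_zero_of_le t G hG le_rfl, comp_zero, comp_zero]

theorem up_dn_zero (n : ℕ) : up t G hG n ≫ gdn G (Nat.zero_le (n + 1)) = 0 := by
  rw [← gdn_comp G (Nat.le_succ n) (Nat.zero_le n), ← Category.assoc, up_dn, smulMod_naturality,
    smul_zero_level t G hG, comp_zero]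

theorem exact_of_isQuot {M N : X.Modules} {π : M ⟶ N} {a : A} (hπ : IsQuot (Ideal.span {a}) π) :
    (ShortComplex.mk (Formal.smulMod A M a) π (hπ.comp_eq_zero a (Ideal.mem_span_singleton_self a))).Exact :=
  ShortComplex.exact_of_g_is_cokernel _ (CokernelCofork.IsColimit.ofπ _ _
    (fun g hg => (hπ.exists_desc g fun x hx => by
      obtain ⟨b, rfl⟩ := Ideal.mem_span_singleton'.1 hx
      rw [mul_comm, smulMod_mul, Category.assoc, hg, comp_zero]).choose)
    (fun g hg => (hπ.exists_desc g fun x hx => by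
      obtain ⟨b, rfl⟩ := Ideal.mem_span_singleton'.1 hx
      rw [mul_comm, smulMod_mul, Category.assoc, hg, comp_zero]).choose_spec)
    (fun g hg m hm => by
      haveI := hπ.epi
      rw [← cancel_epi π, hm]
      exact ((hπ.exists_desc g fun x hx => by
        obtain ⟨b, rfl⟩ := Ideal.mem_span_singleton'.1 hx
        rw [mul_comm, smulMod_mul, Category.assoc, hg, comp_zero]).choose_spec).symm))

/-- The sequence `G n → G (n+1) → G 0`. -/
def upSeq (n : ℕ) : ShortComplex X.Modules :=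
  ShortComplex.mk (up t G hG n) (gdn G (Nat.zero_le (n + 1))) (up_dn_zero t G hG n)

/-- The sequence `G 0 → G (n+1) → G n`. -/
def botSeq (n : ℕ) : ShortComplex X.Modules :=
  ShortComplex.mk (bot t G hG (n + 1)) (gdn G (Nat.le_succ n)) (bot_dn t G hG n)

include hreg in
theorem upSeq_shortExact (n : ℕ) : (upSeq t G hG n).ShortExact := by
  have hq : IsQuot (Ideal.span ({t} : Set A)) (gdn G (Nat.zero_le (n + 1))) := by
    have := isQuot_map hG (Nat.zero_le (n + 1))
    rwa [pow_one] at this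
  refine ShortComplex.ShortExact.mk' ?_ (mono_up t G hG hreg n) hq.epi
  rw [ShortComplex.exact_iff_exact_up_to_refinements]
  intro T x hx
  obtain ⟨T', π, hπ, w, hw⟩ := (exact_of_isQuot hq).exact_up_to_refinements x hx
  refine ⟨T', π, hπ, w ≫ gdn G (Nat.le_succ n), ?_⟩
  show π ≫ x = (w ≫ gdn G (Nat.le_succ n)) ≫ up t G hG n
  rw [Category.assoc, dn_up]
  exact hw

include hreg in
theorem botSeq_shortExact (n : ℕ) : (botSeq t G hG n).ShortExact := by
  have hq : IsQuot (Ideal.span ({t ^ (n + 1)} : Set A)) (gdn G (Nat.le_succ n)) := by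
    have := isQuot_map hG (Nat.le_succ n)
    rwa [Ideal.span_singleton_pow] at this
  have hmono : ∀ k, Mono (bot t G hG k) := fun k => by
    induction k with
    | zero => exact inferInstanceAs (Mono (𝟙 _))
    | succ k ih => haveI := ih; haveI := mono_up t G hG hreg k; exact mono_comp _ _
  refine ShortComplex.ShortExact.mk' ?_ (hmono (n + 1)) hq.epi
  rw [ShortComplex.exact_iff_exact_up_to_refinements]
  intro T x hx
  obtain ⟨T', π, hπ, w, hw⟩ := (exact_of_isQuot hq).exact_up_to_refinements x hx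
  refine ⟨T', π, hπ, w ≫ gdn G (Nat.zero_le (n + 1)), ?_⟩
  show π ≫ x = (w ≫ gdn G (Nat.zero_le (n + 1))) ≫ bot t G hG (n + 1)
  rw [Category.assoc, dn_bot]
  exact hw

/-- The connecting map to `H¹` of level zero. -/
def delta (n : ℕ) : Coh.HH X (gob G n) 0 →ₗ[A] Coh.HH X (gob G 0) 1 :=
  hhDelta A (botSeq_shortExact t G hG hreg n) 0

/-- The map of sequences. -/
def seqMap (n : ℕ) : botSeq t G hG n ⟶ botSeq t G hG (n + 1) where
  τ₁ := 𝟙 _
  τ₂ := up t G hG (n + 1)
  τ₃ := up t G hG n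
  comm₁₂ := by
    show 𝟙 _ ≫ bot t G hG (n + 1 + 1) = bot t G hG (n + 1) ≫ up t G hG (n + 1)
    rw [Category.id_comp, bot_succ]
  comm₂₃ := by
    show up t G hG (n + 1) ≫ gdn G (Nat.le_succ (n + 1)) = gdn G (Nat.le_succ n) ≫ up t G hG n
    rw [up_dn, dn_up]

theorem delta_up (n : ℕ) (x : Coh.HH X (gob G n) 0) :
    delta t G hG hreg (n + 1) (hhMap A (up t G hG n) 0 x) = delta t G hG hreg n x := by
  refine (hhDelta_naturality (botSeq_shortExact t G hG hreg n) (botSeq_shortExact t G hG hreg (n + 1))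
    (seqMap t G hG n) 0 x).trans ?_
  exact hhMap_id _ _

theorem delta_ups (c : ℕ) (x : Coh.HH X (gob G c) 0) :
    ∀ j, delta t G hG hreg (c + j) (hhMap A (ups t G hG c j) 0 x) = delta t G hG hreg c x
  | 0 => congrArg (delta t G hG hreg c) (hhMap_id 0 x)
  | j + 1 => by
    rw [ups_succ, ← hhMap_comp]
    exact (delta_up t G hG hreg (c + j) _).trans (delta_ups c x j)

include hreg in
/-- The images of the connecting maps stabilise. -/
theorem exists_stable [IsNoetherianRing A] (hfin : Module.Finite A (Coh.HH X (gob G 0) 1)) :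
    ∃ c, ∀ n, c ≤ n → ∀ x : Coh.HH X (gob G n) 0, ∃ y : Coh.HH X (gob G c) 0,
      delta t G hG hreg c y = delta t G hG hreg n x := by
  haveI := hfin
  obtain ⟨c, hc⟩ := monotone_stabilizes_iff_noetherian.2 (inferInstance : IsNoetherian A (Coh.HH X (gob G 0) 1))
    ⟨fun n => LinearMap.range (delta t G hG hreg n), monotone_nat_of_le_succ fun n => by
      rintro _ ⟨x, rfl⟩
      exact ⟨_, delta_up t G hG hreg n x⟩⟩
  refine ⟨c, fun n hn x => ?_⟩
  have h : LinearMap.range (delta t G hG hreg c) = LinearMap.range (delta t G hG hreg n) := hc n hn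
  exact h.ge (LinearMap.mem_range_self _ x)

/-- The maps down on sections. -/
abbrev secDn (n : ℕ) : Coh.HH X (gob G (n + 1)) 0 →ₗ[A] Coh.HH X (gob G n) 0 := hhMap A (gdn G (Nat.le_succ n)) 0

/-- Compatible families of sections. -/
abbrev limSec : Submodule A (∀ n, Coh.HH X (gob G n) 0) :=
  limSys (S := fun n => Coh.HH X (gob G n) 0) (secDn (A := A) G)

/-- The projections. -/
abbrev proj (n : ℕ) : limSec (A := A) G →ₗ[A] Coh.HH X (gob G n) 0 :=
  projSys (S := fun n => Coh.HH X (gob G n) 0) (secDn (A := A) G) n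

theorem proj_map (n : ℕ) (z : limSec (A := A) G) :
    hhMap A (gdn G (Nat.le_succ n)) 0 (proj G (n + 1) z) = proj G n z :=
  projSys_map (S := fun n => Coh.HH X (gob G n) 0) (secDn (A := A) G) n z

theorem proj_map_le {m n : ℕ} (h : n ≤ m) (z : limSec (A := A) G) :
    hhMap A (gdn G h) 0 (proj G m z) = proj G n z := by
  induction m, h using Nat.le_induction with
  | base => rw [gdn_self, hhMap_id]
  | succ m hm ih => rw [← gdn_comp G (Nat.le_succ m) hm, ← hhMap_comp, proj_map, ih]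

include hG hreg in
/-- Sections far enough out give compatible families. -/
theorem exists_lift_family [IsNoetherianRing A] (hfin : Module.Finite A (Coh.HH X (gob G 0) 1)) (n : ℕ) :
    ∃ (m : ℕ) (h : n ≤ m), ∀ x : Coh.HH X (gob G m) 0,
      hhMap A (gdn G h) 0 x ∈ LinearMap.range (proj (A := A) G n) := by
  obtain ⟨c, hc⟩ := exists_stable t G hG hreg hfin
  refine ⟨c + (n + 1), by omega, fun x => ?_⟩
  have step : ∀ (j : ℕ) (v : Coh.HH X (gob G (c + (n + 1) + j)) 0),
      ∃ v' : Coh.HH X (gob G (c + (n + 1) + (j + 1))) 0, ∀ k (hk : k ≤ c + (n + 1) + j), k ≤ n + j →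
        hhMap A (gdn G (Nat.le_succ_of_le hk)) 0 v' = hhMap A (gdn G hk) 0 v := by
    intro j v
    have key : ∀ i (v : Coh.HH X (gob G (c + i)) 0), ∃ v' : Coh.HH X (gob G (c + i + 1)) 0,
        ∀ k (hk : k ≤ c + i), k + 1 ≤ i →
          hhMap A (gdn G (Nat.le_succ_of_le hk)) 0 v' = hhMap A (gdn G hk) 0 v := fun i v => by
      obtain ⟨y, hy⟩ := hc (c + i) (Nat.le_add_right c i) v
      obtain ⟨v', hv'⟩ := (exact₃ (A := A) (botSeq_shortExact t G hG hreg (c + i)) 0
        (v - hhMap A (ups t G hG c i) 0 y)).1 (by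
          show delta t G hG hreg (c + i) (v - hhMap A (ups t G hG c i) 0 y) = 0
          rw [map_sub]
          exact sub_eq_zero.2 (hy.symm.trans (delta_ups t G hG hreg c y i).symm))
      refine ⟨v', fun k hk hki => ?_⟩
      refine (congrArg (fun φ => hhMap A φ 0 v') (gdn_comp G (Nat.le_succ (c + i)) hk)).symm.trans ?_
      refine (hhMap_comp (gdn G (Nat.le_succ (c + i))) (gdn G hk) 0 v').symm.trans ?_
      refine (congrArg (hhMap A (gdn G hk) 0) hv').trans ?_
      rw [map_sub, hhMap_comp, ups_dn_eq_zero t G hG hki, hhMap_zero, sub_zero]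
    have hi : c + (n + 1) + j = c + (n + 1 + j) := by omega
    obtain ⟨i, rfl⟩ : ∃ i, i = n + 1 + j := ⟨_, rfl⟩
    have gen : ∀ (M i : ℕ), M = c + i → ∀ v : Coh.HH X (gob G M) 0, ∃ v' : Coh.HH X (gob G (M + 1)) 0,
        ∀ k (hk : k ≤ M), k + 1 ≤ i →
          hhMap A (gdn G (Nat.le_succ_of_le hk)) 0 v' = hhMap A (gdn G hk) 0 v := by
      intro M i hM v
      subst hM
      exact key i v
    obtain ⟨v', hv'⟩ := gen _ _ hi v
    exact ⟨v', fun k hk hk' => hv' k hk (by omega)⟩
  choose next hnext using step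
  let Xs : ∀ j, Coh.HH X (gob G (c + (n + 1) + j)) 0 := fun j => Nat.rec x (fun j v => next j v) j
  have hX : ∀ j k (hk : k ≤ c + (n + 1) + j), k ≤ n + j →
      hhMap A (gdn G (Nat.le_succ_of_le hk)) 0 (Xs (j + 1)) = hhMap A (gdn G hk) 0 (Xs j) :=
    fun j => hnext j (Xs j)
  let z : ∀ k, Coh.HH X (gob G k) 0 := fun k =>
    hhMap A (gdn G (by omega : k ≤ c + (n + 1) + k)) 0 (Xs k)
  have hz : ∀ k, hhMap A (gdn G (Nat.le_succ k)) 0 (z (k + 1)) = z k := fun k => by
    rw [hhMap_comp, gdn_comp]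
    exact hX k k (by omega) (by omega)
  have hj : ∀ j (hk : n ≤ c + (n + 1) + j), hhMap A (gdn G hk) 0 (Xs j) =
      hhMap A (gdn G (by omega : n ≤ c + (n + 1))) 0 x := by
    intro j
    induction j with
    | zero => intro hk; rfl
    | succ j ih => intro hk; exact (hX j n (by omega) (Nat.le_add_right n j)).trans (ih (by omega))
  obtain ⟨v, hv⟩ := exists_mem (S := fun n => Coh.HH X (gob G n) 0) (secDn (A := A) G) z hz
  exact ⟨v, (hv n).trans (hj n (by omega))⟩

end GrothLib.GenT7
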