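import Groth.Agent.Lib.FFormal7.AlgzSupp
import Groth.Agent.Lib.LeffAmp7.Conclude
import Groth.Agent.Lib.GenT7.Tower
import Groth.Agent.Lib.K0Sub.PushExact

/-!
# From completions on the base to systems of modules on the completion
-/

set_option autoImplicit false
set_option linter.style.haveILetI false
set_option linter.unusedSectionVars false
universe u

open CategoryTheory CategoryTheory.Limits AlgebraicGeometry Opposite TopologicalSpace

noncomputable section

namespace GrothLib.GenT7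

open GrothLib.FFormal7 GrothLib.UnifVanish7 GrothLib.Algz56

section Levels

variable {A : Type u} [CommRing A] [IsNoetherianRing A] {J : Ideal A} {Xs : ℕ → Scheme.{u}}
  [hX : ∀ k, (Xs k).Over (Spec (CommRingCat.of A))]
  {i : (k : ℕ) → (Xs k ⟶ Xs (k + 1))}
  {p : (k : ℕ) → (Xs k ⟶ Spec (CommRingCat.of (A ⧸ J ^ (k + 1))))}
  {Y : Scheme.{u}} [Y.Over (Spec (CommRingCat.of A))] [IsSeparated (Y ↘ Spec (CommRingCat.of A))]
  [LocallyOfFiniteType (Y ↘ Spec (CommRingCat.of A))] [QuasiCompact (Y ↘ Spec (CommRingCat.of A))]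
  {e : ∀ k, Xs k ⟶ Y}
  (h : IsAdicSys J i p)
  (hpb : ∀ k, IsPullback (e k) (p k) (Y ↘ Spec (CommRingCat.of A)) (CohB1.specQuot J k))
  (hec : ∀ k, e k = i k ≫ e (k + 1))

include h hpb hec in
/-- A completion isomorphic to the system of direct images gives the levels compatibly. -/
theorem exists_compat_of_completion {F : (k : ℕ) → (Xs k).Modules} (hF : ∀ k, Coh.IsCoh (F k))
    (ψ : ∀ k, (Scheme.Modules.pullback (i k)).obj (F (k + 1)) ≅ F k) (M : Y.Modules)
    (θ : Formal.completion J M ≅ pushSys hec ψ) :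
    ∃ χ : ∀ k, (Scheme.Modules.pullback (e k)).obj M ≅ F k,
      ∀ k, (Scheme.Modules.pullback (i k)).map (χ (k + 1)).hom ≫ (ψ k).hom = (lamb hec M k).hom ≫ (χ k).hom := by
  let π : ∀ k, M ⟶ (Scheme.Modules.pushforward (e k)).obj (F k) := fun k =>
    Formal.modPowπ J (k + 1) M ≫ θ.hom.app (op k)
  have hπ : ∀ k, FormalSys.IsQuot (J ^ (k + 1)) (π k) := fun k => by
    haveI : IsIso (θ.hom.app (op k)) := (θ.app (op k)).isIso_hom
    exact @FormalSys.IsQuot.comp_isIso _ _ _ _ _ _ _ _ _ (FormalSys.IsQuot.modPowπ J (k + 1) M) (θ.hom.app (op k)) ‹_›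
  have hπc : ∀ k, π (k + 1) ≫ pushTau hec ψ k = π k := fun k => by
    have e1 : (pushSys hec ψ).map (homOfLE (Nat.le_succ k)).op = pushTau hec ψ k :=
      Functor.ofOpSequence_map_homOfLE_succ
        (X := fun k => (Scheme.Modules.pushforward (e k)).obj (F k)) (fun k => pushTau hec ψ k) k
    show (Formal.modPowπ J (k + 1 + 1) M ≫ θ.hom.app (op (k + 1))) ≫ pushTau hec ψ k = _
    rw [← e1]
    refine (Category.assoc _ _ _).trans ?_
    refine (congrArg (Formal.modPowπ J (k + 1 + 1) M ≫ ·) (θ.hom.naturality (homOfLE (Nat.le_succ k)).op).symm).trans ?_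
    exact (Category.assoc _ _ _).symm.trans (congrArg (· ≫ θ.hom.app (op k)) (FormalSys.completion_map_succ M k))
  have hχ : ∀ k, ∃ χ : (Scheme.Modules.pullback (e k)).obj M ≅ F k, adjunct (e k) χ.hom = π k := by
    intro k
    haveI := isClosedImmersion_e hpb k
    haveI := (hF k).1
    have hq := FormalExist7.isQuot_pullback (e k) (e_struct h hpb k) (hπ k)
    haveI := hq.isIso_of_killedBy (fun a ha => by
      refine Scheme.Modules.hom_ext _ _ fun U => ?_
      ext m
      refine (Coh.smulAb_app _ _ (op U) m).trans ?_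
      exact (congrArg (fun z : Γ(Xs k, U) => z • (show Γ(((Scheme.Modules.pullback (e k)).obj M), U) from m))
        (toSec_eq_zero h k U ha)).trans (zero_smul _ _))
    haveI := isIso_counit_closed (e k) (F k)
    refine ⟨asIso ((Scheme.Modules.pullback (e k)).map (π k)) ≪≫
      asIso ((Scheme.Modules.pullbackPushforwardAdjunction (e k)).counit.app (F k)), ?_⟩
    show (Scheme.Modules.pullbackPushforwardAdjunction (e k)).unit.app M ≫ (Scheme.Modules.pushforward (e k)).map
      ((Scheme.Modules.pullback (e k)).map (π k) ≫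
        (Scheme.Modules.pullbackPushforwardAdjunction (e k)).counit.app (F k)) = π k
    let adj := Scheme.Modules.pullbackPushforwardAdjunction (e k)
    exact ((adj.homEquiv_unit M (F k) _).symm.trans (congrArg (adj.homEquiv M (F k))
      (adj.homEquiv_counit M (F k) (π k)).symm)).trans ((adj.homEquiv M (F k)).apply_symm_apply (π k))
  choose χ hχ' using hχ
  exact ⟨χ, fun k => (compat_iff hec ψ (fun j => (χ j).hom) k).2 (by rw [hχ', hχ', hπc])⟩

include h hpb in
/-- The torsion of `t` on the direct images comes from the levels. -/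
theorem reg_pushSys (t : A) (htJ : t ∈ J) {F : (k : ℕ) → (Xs k).Modules}
    (ψ : ∀ k, (Scheme.Modules.pullback (i k)).obj (F (k + 1)) ≅ F k)
    (hexact : ∀ N, 1 ≤ N → ∀ {T : (Xs N).Modules} (z : T ⟶ F N), z ≫ Formal.smulMod A _ (t ^ N) = 0 →
      ∃ (T' : (Xs N).Modules) (π : T' ⟶ T) (_ : Epi π) (w : T' ⟶ F N), π ≫ z = w ≫ Formal.smulMod A _ t) :
    Reg t (pushSys hec ψ) := by
  intro n T z hz
  show ∃ (T' : Y.Modules) (π : T' ⟶ T) (_ : Epi π) (w : T' ⟶ (Scheme.Modules.pushforward (e n)).obj (F n)),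
    π ≫ z = w ≫ Formal.smulMod A _ (t ^ n)
  haveI := isClosedImmersion_e hpb n
  have he := e_struct h hpb n
  have hz' : z ≫ (Scheme.Modules.pushforward (e n)).map (Formal.smulMod A (F n) t) = 0 := by
    rw [← smulMod_push (e n) he]; exact hz
  -- the sequence on the level
  have hlev : ∀ k, k ≤ n → ∀ {T : (Xs n).Modules} (v : T ⟶ F n), v ≫ Formal.smulMod A _ t = 0 →
      ∃ (T' : (Xs n).Modules) (π : T' ⟶ T) (_ : Epi π) (w : T' ⟶ F n),
        π ≫ v = w ≫ Formal.smulMod A _ (t ^ k) := by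
    intro k
    induction k with
    | zero =>
      intro _ T v _
      exact ⟨T, 𝟙 T, inferInstance, v, by rw [pow_zero, FormalSys.smulMod_one, Category.id_comp, Category.comp_id]⟩
    | succ k ih =>
      intro hk T v hv
      obtain ⟨T', π, hπ, w, hw⟩ := ih (Nat.le_of_succ_le hk) v hv
      haveI := hπ
      have hw1 : w ≫ Formal.smulMod A _ (t ^ (k + 1)) = 0 := by
        rw [pow_succ', FormalSys.smulMod_mul, ← Category.assoc, ← hw, Category.assoc, hv, comp_zero]
      have hwn : w ≫ Formal.smulMod A _ (t ^ n) = 0 := by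
        obtain ⟨d, hd⟩ := Nat.exists_eq_add_of_le hk
        rw [show t ^ n = t ^ d * t ^ (k + 1) by rw [← pow_add, hd, add_comm], FormalSys.smulMod_mul, ← Category.assoc, hw1,
          zero_comp]
      obtain ⟨T'', π', hπ', u, hu⟩ := hexact n (by omega) w hwn
      refine ⟨T'', π' ≫ π, epi_comp _ _, u, ?_⟩
      rw [Category.assoc, hw, ← Category.assoc, hu, Category.assoc, ← FormalSys.smulMod_mul, pow_succ]
  obtain ⟨_, hlim, hcolim⟩ := K0Sub.pushforward_exact (e n)
  have hex : (ShortComplex.mk (Formal.smulMod A (F n) (t ^ n)) (Formal.smulMod A (F n) t) (by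
      rw [← FormalSys.smulMod_mul, mul_comm, ← pow_succ]
      refine Scheme.Modules.hom_ext _ _ fun U => ?_
      ext m
      refine (Coh.smulAb_app _ _ (op U) m).trans ?_
      exact (congrArg (fun z : Γ(Xs n, U) => z • (show Γ(F n, U) from m))
        (toSec_eq_zero h n U (J := J) (a := t ^ (n + 1)) (Ideal.pow_mem_pow htJ _))).trans (zero_smul _ _))).Exact := by
    rw [ShortComplex.exact_iff_exact_up_to_refinements]
    intro T v hv
    obtain ⟨T', π, hπ, w, hw⟩ := hlev n le_rfl v hv
    exact ⟨T', π, hπ, w, hw⟩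
  have := hex.map (Scheme.Modules.pushforward (e n))
  obtain ⟨T', π, hπ, w, hw⟩ := this.exact_up_to_refinements z hz'
  refine ⟨T', π, hπ, w, ?_⟩
  rw [smulMod_push (e n) he]
  exact hw

end Levels

theorem hom_eq_of_app_trans {C D : Type*} [Category C] [Category D] {P Q R : C ⥤ D} (a : P ≅ Q) (b : Q ≅ R)
    {F : C} (e : P.obj F ≅ R.obj F) (he : e = a.app F ≪≫ b.app F) : e.hom = ((a ≪≫ b).app F).hom := by
  subst he
  rfl

section
attribute [local irreducible] Scheme.Modules.pullback Scheme.Modules.pullbackComp Scheme.Modules.pullbackCongr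

theorem complTransIso_unfold {X : Scheme.{u}} (𝓘 : X.IdealSheafData) (n : ℕ) : FSch.complTransIso 𝓘 n =
    Scheme.Modules.pullbackComp ((FSch.completionAlong X 𝓘).ι n) (FSch.completionToX X 𝓘 (n + 1)) ≪≫
      Scheme.Modules.pullbackCongr (LeffAmp7.toX_eq 𝓘 n).symm := by exact rfl

theorem completionMod_e_hom {X : Scheme.{u}} (𝓘 : X.IdealSheafData) (F : X.Modules) (n : ℕ) :
    ((FSch.completionMod 𝓘 F).e n).hom = ((FSch.complMod 𝓘 F).e n).hom := by
  refine (hom_eq_of_app_trans (P := Scheme.Modules.pullback (FSch.completionToX X 𝓘 (n + 1)) ⋙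
    Scheme.Modules.pullback ((FSch.completionAlong X 𝓘).ι n)) _ _ _ (LeffAmp7.completion_e' 𝓘 F n)).trans ?_
  exact congrArg (fun τ => (τ.app F).hom) (complTransIso_unfold 𝓘 n).symm

end

/-- The two packagings of the completion of a module agree. -/
theorem nonempty_completionMod_iso {X : Scheme.{u}} (𝓘 : X.IdealSheafData) (F : X.Modules)
    {𝔐 : FSch.ModSys (FSch.completionAlong X 𝓘)} (χ : ∀ k, (FSch.complMod 𝓘 F).F k ≅ 𝔐.F k)
    (hχ : ∀ k, (Scheme.Modules.pullback ((FSch.completionAlong X 𝓘).ι k)).map (χ (k + 1)).hom ≫ (𝔐.e k).hom =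
      ((FSch.complMod 𝓘 F).e k).hom ≫ (χ k).hom) : Nonempty (FSch.completionMod 𝓘 F ≅ 𝔐) := by
  let f : FSch.completionMod 𝓘 F ⟶ 𝔐 := ⟨fun k => (χ k).hom, fun k => by
    rw [completionMod_e_hom]
    exact hχ k⟩
  exact LeffAmp7.nonempty_iso_of_app f fun k => (χ k).isIso_hom

end GrothLib.GenT7
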