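import Groth.Agent.Lib.GenT7.Tower

/-!
# The module of compatible families of sections
-/

set_option autoImplicit false
set_option linter.style.haveILetI false
set_option linter.unusedSectionVars false

universe u

open CategoryTheory CategoryTheory.Limits AlgebraicGeometry Opposite

noncomputable section

namespace GrothLib.GenT7

open GrothLib.FormalSys GrothLib.Cohom GrothLib.FormalFun

variable {A : Type u} [CommRing A] {X : Scheme.{u}} [X.Over (Spec (CommRingCat.of A))]
  (t : A) (G : ℕᵒᵖ ⥤ X.Modules)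

variable (hG : Formal.IsCohFormal (Ideal.span ({t} : Set A)) G) (hreg : Reg t G)

theorem injective_of_shortExact {M N P : X.Modules} (f : M ⟶ N) (g : N ⟶ P) (w : f ≫ g = 0)
    (hS : (ShortComplex.mk f g w).ShortExact) : Function.Injective (hhMap A f 0) :=
  Punctured.hhMap_zero_injective (A := A) (X := X) (S := ShortComplex.mk f g w) hS

include hreg in
theorem up_injective (k : ℕ) : Function.Injective (hhMap A (up t G hG k) 0) :=
  injective_of_shortExact (up t G hG k) (gdn G (Nat.zero_le (k + 1))) (up_dn_zero t G hG k) (upSeq_shortExact t G hG hreg k)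

theorem up_secDn (k : ℕ) (y : Coh.HH X (gob G (k + 1)) 0) :
    hhMap A (up t G hG k) 0 (secDn (A := A) G k y) = t • y :=
  (hhMap_comp (gdn G (Nat.le_succ k)) (up t G hG k) 0 y).trans
    ((congrArg (fun φ => hhMap A φ 0 y) (dn_up t G hG k)).trans (hhMap_smulMod t 0 y))

theorem secDn_up (k : ℕ) (y : Coh.HH X (gob G k) 0) :
    secDn (A := A) G k (hhMap A (up t G hG k) 0 y) = t • y :=
  (hhMap_comp (up t G hG k) (gdn G (Nat.le_succ k)) 0 y).trans
    ((congrArg (fun φ => hhMap A φ 0 y) (up_dn t G hG k)).trans (hhMap_smulMod t 0 y))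

include hreg in
theorem exists_up_eq (z : limSec (A := A) G) (hz : proj G 0 z = 0) (k : ℕ) :
    ∃ y, hhMap A (up t G hG k) 0 y = proj G (k + 1) z :=
  (exact₂ (A := A) (upSeq_shortExact t G hG hreg k) 0 (proj G (k + 1) z)).1
    ((proj_map_le G (Nat.zero_le (k + 1)) z).trans hz)

include hG in
theorem smul_sec_eq_zero (n : ℕ) (a : A) (ha : a ∈ Ideal.span ({t} : Set A) ^ (n + 1))
    (y : Coh.HH X (gob G n) 0) : a • y = 0 :=
  (hhMap_smulMod a 0 y).symm.trans ((congrArg (fun φ => hhMap A φ 0 y) (hG.2.1 n a ha)).trans (hhMap_zero 0 y))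

include hG hreg in
theorem proj_eq_zero_iff (n : ℕ) (z : limSec (A := A) G) :
    proj G n z = 0 ↔ z ∈ Ideal.span ({t} : Set A) ^ (n + 1) • (⊤ : Submodule A (limSec (A := A) G)) :=
  projSys_eq_zero_iff (S := fun n => Coh.HH X (gob G n) 0) (secDn (A := A) G) t (fun k => hhMap A (up t G hG k) 0) (up_injective t G hG hreg)
    (up_secDn t G hG) (secDn_up t G hG) (exists_up_eq t G hG hreg) (smul_sec_eq_zero t G hG) n z

include hG hreg in
theorem finite_limSec [IsNoetherianRing A] [IsAdicComplete (Ideal.span ({t} : Set A)) A]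
    (hfin : Module.Finite A (Coh.HH X (gob G 0) 0)) : Module.Finite A (limSec (A := A) G) :=
  haveI : IsPrecomplete (Ideal.span ({t} : Set A)) A := IsAdicComplete.toIsPrecomplete
  finite_limSys (S := fun n => Coh.HH X (gob G n) 0) (secDn (A := A) G) t (fun k => hhMap A (up t G hG k) 0) (up_injective t G hG hreg)
    (up_secDn t G hG) (secDn_up t G hG) (exists_up_eq t G hG hreg) (smul_sec_eq_zero t G hG)

end GrothLib.GenT7
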