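import Groth.Agent.Lib.GenT7.LeffThree
import Groth.Agent.Lib.QCoh.SupportExact
import Groth.Agent.Lib.OX.FlatLocFree
import Groth.Prelude.Def_Formal2

/-!
# Formal systems of finite locally free modules are regular
-/

set_option autoImplicit false
set_option linter.style.haveILetI false
set_option linter.unusedSectionVars false
universe u

open CategoryTheory CategoryTheory.Limits AlgebraicGeometry Opposite TopologicalSpace

noncomputable section

namespace GrothLib.GenT7

open GrothLib.FormalSys GrothLib.FormalFun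
open GrothLib.QCoh (stalkLin)
open GrothLib.WeakAss

/-- The stalk of a restriction. -/
def restrictφ {X : Scheme.{u}} (V : X.Opens) (y : (V : Scheme.{u})) (F : X.Modules) :
    (F.restrict V.ι).presheaf.stalk y →+ F.presheaf.stalk (V.ι y) :=
  ((Scheme.Modules.restrictStalkNatIso V.ι y).app F).hom.hom

theorem restrictφ_bijective {X : Scheme.{u}} (V : X.Opens) (y : (V : Scheme.{u})) (F : X.Modules) :
    Function.Bijective (restrictφ V y F) :=
  ConcreteCategory.bijective_of_isIso ((Scheme.Modules.restrictStalkNatIso V.ι y).app F).hom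

theorem restrictφ_smul {X : Scheme.{u}} (V : X.Opens) (y : (V : Scheme.{u})) (F : X.Modules)
    (c : (V : Scheme.{u}).presheaf.stalk y) (z : (F.restrict V.ι).presheaf.stalk y) :
    restrictφ V y F (c • z) =
      (show X.presheaf.stalk (V.ι y) from (V.stalkIso y).hom.hom c) • restrictφ V y F z := by
  have hφ : ∀ (W : (V : Scheme.{u}).Opens) (hW : y ∈ W) (t : Γ(F.restrict V.ι, W)),
      restrictφ V y F ((F.restrict V.ι).presheaf.germ W y hW t) =
        F.presheaf.germ (V.ι ''ᵁ W) (V.ι y) ⟨y, hW, rfl⟩ t := fun W hW t =>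
    ConcreteCategory.congr_hom
      (Scheme.Modules.germ_restrictStalkNatIso_hom_app V.ι y F (U := W) hW) t
  have hψ : ∀ (W : (V : Scheme.{u}).Opens) (hW : y ∈ W) (t : Γ(V, W)),
      (V.stalkIso y).hom.hom ((V : Scheme.{u}).presheaf.germ W y hW t) =
        X.presheaf.germ (V.ι ''ᵁ W) (V.ι y) ⟨y, hW, rfl⟩ t := fun W hW t =>
    ConcreteCategory.congr_hom (Scheme.Opens.germ_stalkIso_hom V y hW) t
  obtain ⟨W, hW, r, rfl⟩ := TopCat.Presheaf.exists_germ_eq (V : Scheme.{u}).presheaf c
  obtain ⟨W', hW', s, rfl⟩ := TopCat.Presheaf.exists_germ_eq (F.restrict V.ι).presheaf z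
  have hO : y ∈ W ⊓ W' := ⟨hW, hW'⟩
  rw [← TopCat.Presheaf.germ_res_apply (V : Scheme.{u}).presheaf (homOfLE (inf_le_left : W ⊓ W' ≤ W)) y hO r,
    ← TopCat.Presheaf.germ_res_apply (F.restrict V.ι).presheaf (homOfLE (inf_le_right : W ⊓ W' ≤ W')) y hO s,
    ← WeakAss.germ_smul (F := F.restrict V.ι) hO, hφ, hφ, hψ]
  erw [WeakAss.germ_smul (F := F) (V := V.ι ''ᵁ (W ⊓ W')) (x := V.ι y) ⟨y, hO, rfl⟩]
  refine congrArg₂ (· • ·) (congrArg (X.presheaf.germ (V.ι ''ᵁ (W ⊓ W')) (V.ι y) ⟨y, hO, rfl⟩) ?_) rfl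
  change ((V.ι.appIso (W ⊓ W')).inv).hom _ = _
  rw [Scheme.Opens.ι_appIso]
  rfl

/-- Modules isomorphic on an open have isomorphic stalks there. -/
theorem exists_stalk_linearEquiv_of_restrict {X : Scheme.{u}} {M N : X.Modules} (V : X.Opens)
    (e : (Scheme.Modules.restrictFunctor V.ι).obj M ≅ (Scheme.Modules.restrictFunctor V.ι).obj N)
    (y : (V : Scheme.{u})) :
    Nonempty (M.presheaf.stalk (V.ι y) ≃ₗ[X.presheaf.stalk (V.ι y)] N.presheaf.stalk (V.ι y)) := by
  let ψ : (V : Scheme.{u}).presheaf.stalk y →+* X.presheaf.stalk (V.ι y) := (V.stalkIso y).hom.hom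
  let φ := restrictφ V y
  have hφb : ∀ F, Function.Bijective (φ F) := restrictφ_bijective V y
  have hψb : Function.Bijective ψ := ConcreteCategory.bijective_of_isIso (V.stalkIso y).hom
  have hsl : ∀ F c z, φ F (c • z) = ψ c • φ F z := restrictφ_smul V y
  let E := AssPts.stalkEquiv e y
  let eM := AddEquiv.ofBijective (φ M) (hφb M)
  let eN := AddEquiv.ofBijective (φ N) (hφb N)
  let Φ : M.presheaf.stalk (V.ι y) ≃+ N.presheaf.stalk (V.ι y) := (eM.symm.trans E.toAddEquiv).trans eN
  refine ⟨{ Φ with map_smul' := fun c v => ?_ }⟩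
  obtain ⟨c', rfl⟩ := hψb.2 c
  obtain ⟨z, rfl⟩ := (hφb M).2 v
  show φ N (E (eM.symm (ψ c' • φ M z))) = ψ c' • φ N (E (eM.symm (φ M z)))
  rw [← hsl M, show ∀ w, eM.symm (φ M w) = w from eM.symm_apply_apply,
    show ∀ w, eM.symm (φ M w) = w from eM.symm_apply_apply]
  exact (congrArg (φ N) (map_smul E c' z)).trans (hsl N c' (E z))

variable {A : Type u} [CommRing A] {X : Scheme.{u}} [X.Over (Spec (CommRingCat.of A))]

theorem isQuot_modPowπ (J : Ideal A) (n : ℕ) (M : X.Modules) : IsQuot (J ^ n) (Formal.modPowπ J n M) := by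
  refine ⟨cokernel.condition _, ?_⟩
  rw [show cokernel.desc (Formal.smulFamily (J ^ n) M) (Formal.modPowπ J n M) (cokernel.condition _) = 𝟙 _ from
    coequalizer.hom_ext ((cokernel.π_desc _ _ _).trans (Category.comp_id _).symm)]
  exact IsIso.id _

/-- A regular element on the stalks gives exactness on the stalks of the quotients of a free module. -/
theorem exists_eq_pow_smul_modPow (t : A) (n r : ℕ) (x : X)
    (hx : ∀ c : X.presheaf.stalk x, c * toStalk A x t = 0 → c = 0)
    (v : (Formal.modPow (Ideal.span ({t} : Set A)) (n + 1) (FlatMod.freeMod X r)).presheaf.stalk x)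
    (hv : toStalk A x t • v = 0) : ∃ w, v = toStalk A x t ^ n • w := by
  let F := FlatMod.freeMod X r
  let π := Formal.modPowπ (Ideal.span ({t} : Set A)) (n + 1) F
  haveI : Epi π := inferInstanceAs (Epi (cokernel.π _))
  obtain ⟨v', rfl⟩ := QCoh.stalkLin_surjective π x v
  have hmem : toStalk A x t • v' ∈ LinearMap.ker (stalkLin π x) := by
    rw [LinearMap.mem_ker, map_smul]; exact hv
  rw [ker_stalkLin_of_isQuot (isQuot_modPowπ _ _ F) x, Ideal.span_singleton_pow, Ideal.map_span,
    Set.image_singleton, Submodule.ideal_span_singleton_smul, Submodule.mem_smul_pointwise_iff_exists] at hmem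
  obtain ⟨u, -, hu⟩ := hmem
  refine ⟨stalkLin π x u, ?_⟩
  rw [← map_smul]
  congr 1
  rw [map_pow, pow_succ', mul_smul] at hu
  obtain ⟨D, m, e, hxD, he⟩ := FinCov.exists_frame_nhd (OX.isFinLocFree_freeMod X r) x
  obtain ⟨bas⟩ := Euler.stalk_basis_of_frame he hxD
  refine bas.repr.injective (Finsupp.ext fun j => sub_eq_zero.1 (hx _ ?_))
  have := congrArg (fun w => bas.repr w j) hu
  simp only [map_smul, Finsupp.smul_apply, smul_eq_mul] at this ⊢
  linear_combination -this

/-- A formal system of finite locally free modules over the levels is regular. -/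
theorem reg_of_locFree (t : A) (hx : ∀ (x : X) (c : X.presheaf.stalk x), c * toStalk A x t = 0 → c = 0)
    (G : ℕᵒᵖ ⥤ X.Modules) (hG : Formal.IsCohFormal (Ideal.span ({t} : Set A)) G)
    (hfree : ∀ n : ℕ, Formal2.IsFinLocFreeMod (Ideal.span ({t} : Set A)) (n + 1) (G.obj (op n))) :
    Reg t G := by
  intro n T z hz
  have w : Formal.smulMod A (gob G n) (t ^ n) ≫ Formal.smulMod A (gob G n) t = 0 := by
    rw [← FormalSys.smulMod_mul, mul_comm, ← pow_succ]
    exact smul_eq_zero_of_le t G hG le_rfl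
  have hex : (ShortComplex.mk _ _ w).Exact := by
    refine (OX.exact_iff _).2 fun x => ?_
    rw [ShortComplex.moduleCat_exact_iff]
    intro v hv
    obtain ⟨V, r, hxV, ⟨e⟩⟩ := hfree n x
    obtain ⟨L⟩ := exists_stalk_linearEquiv_of_restrict V e ⟨x, hxV⟩
    have hv' : toStalk A x t • (show (gob G n).presheaf.stalk x from v) = 0 :=
      (stalkLin_smulMod (gob G n) t x v).symm.trans hv
    obtain ⟨u, hu⟩ := exists_eq_pow_smul_modPow t n r x (hx x) (L v)
      (((map_smul L _ _).symm.trans (congrArg L hv')).trans (map_zero L))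
    refine ⟨L.symm u, ?_⟩
    show stalkLin (Formal.smulMod A (gob G n) (t ^ n)) x (L.symm u) = v
    refine (stalkLin_smulMod (gob G n) (t ^ n) x _).trans ?_
    rw [map_pow]
    exact ((map_smul L.symm _ _).symm.trans (congrArg L.symm hu.symm)).trans (L.symm_apply_apply v)
  exact hex.exact_up_to_refinements z hz

end GrothLib.GenT7
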